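import Cfsg.Agent.H69.J4.Sylow

/-!
The fixed space of the elementary subgroup of order sixteen is totally singular.
-/

set_option autoImplicit false

namespace Cfsg.Agent.H69.J4

open Subgroup

theorem sVec_span : ((List.range 64).all fun i => sVec.contains (ap [13, 67, 145, 769, 1025, 2358] i)) &&
    (sVec.all fun v => (List.range 64).any fun i => Nat.beq (ap [13, 67, 145, 769, 1025, 2358] i) v) &&
    Nat.beq sVec.length 64 = true := by decide +kernel

theorem sVec_closed : (sVec.all fun u => sVec.all fun v => sVec.contains (u ^^^ v)) = true := by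
  decide +kernel

theorem orb_excl : (orb1.all fun v => !orb0.contains v) = true := by decide +kernel

theorem triple_mem : ([13, 67, 145, 1025, 13 ^^^ 67, 13 ^^^ 145, 67 ^^^ 145, 13 ^^^ 67 ^^^ 145, 13 ^^^ 1025,
    67 ^^^ 1025, 13 ^^^ 67 ^^^ 1025].all fun v => sVec.contains v && !Nat.beq v 0) = true := by
  decide +kernel

theorem span_inj : ∀ i j : Fin 64,
    ap [13, 67, 145, 769, 1025, 2358] i = ap [13, 67, 145, 769, 1025, 2358] j → i = j := by decide +kernel

theorem zmod2_cases : ∀ x : ZMod 2, x = 0 ∨ x = 1 := by decide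

theorem two_values : ∀ a b : ZMod 2,
    ([13, 67, 145, 13 ^^^ 67, 13 ^^^ 145, 67 ^^^ 145, 13 ^^^ 67 ^^^ 145].map
      fun v => if orb0.contains v then a else b).sum = 0 →
    ([13, 67, 1025, 13 ^^^ 67, 13 ^^^ 1025, 67 ^^^ 1025, 13 ^^^ 67 ^^^ 1025].map
      fun v => if orb0.contains v then a else b).sum = 0 → a = 0 ∧ b = 0 := by
  decide +kernel

variable {G : Type*} [Group G] [Finite G]
variable {z : G} {E P : Subgroup G}

namespace Data

variable (d : Data z E P)

/-- The commutator form. -/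
noncomputable def bil (a b : G) : ZMod 2 := by
  classical
  exact if a * b = b * a then 0 else 1

/-- The squaring form. -/
noncomputable def quad (a : G) : ZMod 2 := by
  classical
  exact if a * a = 1 then 0 else 1

theorem bil_comm (a b : G) : bil a b = bil b a := by
  classical
  simp only [bil, eq_comm]

include d

theorem mul_comm_cases {a b : G} (ha : a ∈ E) (hb : b ∈ E) :
    (bil a b = 0 ∧ a * b = b * a) ∨ (bil a b = 1 ∧ a * b = z * (b * a)) := by
  classical
  by_cases h : a * b = b * a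
  · exact Or.inl ⟨if_pos h, h⟩
  · refine Or.inr ⟨if_neg h, ?_⟩
    have h2 := (d.L.conj_cases ha hb).resolve_left h
    rw [mul_inv_eq_iff_eq_mul] at h2
    rw [h2, mul_assoc]

theorem sq_quad {a : G} (ha : a ∈ E) :
    (quad a = 0 ∧ a * a = 1) ∨ (quad a = 1 ∧ a * a = z) := by
  classical
  rcases d.L.sq_cases ha with h | h
  · exact Or.inl ⟨if_pos h, h⟩
  · refine Or.inr ⟨if_neg ?_, h⟩
    rw [h]; exact d.L.z_ne_one

omit d in
/-- The element of `⟨z⟩` named by a bit. -/
def zp (z : G) (x : ZMod 2) : G := if x = 0 then 1 else z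

theorem zp_inj {x y : ZMod 2} (h : zp z x = zp z y) : x = y := by
  rcases zmod2_cases x with rfl | rfl <;> rcases zmod2_cases y with rfl | rfl <;>
    simp [zp, d.L.z_ne_one, d.L.z_ne_one.symm] at h ⊢

theorem zp_add (x y : ZMod 2) : zp z (x + y) = zp z x * zp z y := by
  rcases zmod2_cases x with rfl | rfl <;> rcases zmod2_cases y with rfl | rfl <;>
    simp [zp, d.L.zz, show (1 : ZMod 2) + 1 = 0 from rfl]

theorem mul_eq {a b : G} (ha : a ∈ E) (hb : b ∈ E) : a * b = zp z (bil a b) * (b * a) := by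
  rcases d.mul_comm_cases ha hb with ⟨h, e⟩ | ⟨h, e⟩ <;> rw [h] <;> simp [zp, e]

theorem sq_eq {a : G} (ha : a ∈ E) : a * a = zp z (quad a) := by
  rcases d.sq_quad ha with ⟨h, e⟩ | ⟨h, e⟩ <;> rw [h] <;> simp [zp, e]

theorem zp_comm (x : ZMod 2) {a : G} (ha : a ∈ E) : a * zp z x = zp z x * a := by
  unfold zp; split_ifs <;> [simp; exact d.L.commute_z ha]

theorem zp_mem (x : ZMod 2) : zp z x ∈ E := by
  unfold zp; split_ifs <;> [exact one_mem E; exact d.L.z_mem]

theorem bil_add {a b c : G} (ha : a ∈ E) (hb : b ∈ E) (hc : c ∈ E) :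
    bil a (b * c) = bil a b + bil a c := by
  refine d.zp_inj (mul_right_cancel (b := b * c * a) ?_)
  rw [← d.mul_eq ha (mul_mem hb hc), d.zp_add]
  calc a * (b * c) = (a * b) * c := by group
    _ = zp z (bil a b) * (b * (a * c)) := by rw [d.mul_eq ha hb]; group
    _ = zp z (bil a b) * ((b * zp z (bil a c)) * (c * a)) := by rw [d.mul_eq ha hc]; group
    _ = zp z (bil a b) * ((zp z (bil a c) * b) * (c * a)) := by rw [d.zp_comm _ hb]
    _ = _ := by group

theorem quad_mul {a b : G} (ha : a ∈ E) (hb : b ∈ E) : quad (a * b) = quad a + quad b + bil b a := by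
  refine d.zp_inj ?_
  rw [← d.sq_eq (mul_mem ha hb), d.zp_add, d.zp_add, ← d.sq_eq ha, ← d.sq_eq hb]
  calc a * b * (a * b) = a * (b * a) * b := by group
    _ = (a * zp z (bil b a)) * (a * b) * b := by rw [d.mul_eq hb ha]; group
    _ = (zp z (bil b a) * a) * (a * b) * b := by rw [d.zp_comm _ ha]
    _ = zp z (bil b a) * ((a * a) * (b * b)) := by group
    _ = _ := (d.zp_comm _ (mul_mem (mul_mem ha ha) (mul_mem hb hb))).symm

theorem quad_seven {a b c : G} (ha : a ∈ E) (hb : b ∈ E) (hc : c ∈ E) :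
    quad a + quad b + quad c + quad (a * b) + quad (a * c) + quad (b * c) + quad (a * b * c) = 0 := by
  rw [d.quad_mul (mul_mem ha hb) hc, d.quad_mul ha hb, d.quad_mul ha hc, d.quad_mul hb hc,
    d.bil_add hc ha hb]
  generalize quad a = x, quad b = y, quad c = w, bil b a = p, bil c a = q, bil c b = r
  revert x y w p q r
  decide

theorem quad_eq_of_mk {a b : E} (h : (QuotientGroup.mk a : Bar E) = QuotientGroup.mk b) :
    quad (a : G) = quad (b : G) := by
  classical
  rcases d.mk_eq_iff.1 h with e | e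
  · rw [e]
  · have : (b : G) * b = (a : G) * a := by
      rw [e]
      calc (a : G) * z * (a * z) = a * (z * a) * z := by group
        _ = a * (a * z) * z := by rw [d.L.commute_z a.2]
        _ = a * a * (z * z) := by group
        _ = (a : G) * a := by rw [d.L.zz, mul_one]
    simp only [quad, this]

end Data

namespace Real

variable {d : Data z E P} (R : Real d)

theorem φ_zero : R.φ 0 = 1 := by
  letI := d.barGroup
  exact lin_zero _

theorem φ_xor (u v : ℕ) : R.φ (u ^^^ v) = R.φ u * R.φ v := by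
  letI := d.barGroup
  exact lin_xor R.F.exp _ u v

theorem fixed_A0 (m : Bar E) : m ∈ fixed R.A0 ↔ ∃ v ∈ sVec, R.φ v = m := by
  constructor
  · intro hm
    obtain ⟨v, hv, rfl⟩ := R.φ_surj m
    refine ⟨v, ?_, rfl⟩
    rw [← fix_K2, List.mem_filter]
    refine ⟨List.mem_range.2 hv, List.all_eq_true.2 fun A hA => ?_⟩
    obtain ⟨i, hi, rfl⟩ := List.getElem_of_mem hA
    have hq : mK2[i] ∈ mQ := by
      have h : (mK2.all fun A => mQ.contains A) = true := by decide +kernel
      simpa using (List.all_eq_true.1 h) _ (List.getElem_mem hi)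
    obtain ⟨j, hj, hjA⟩ := List.getElem_of_mem hq
    obtain ⟨w, hw⟩ := R.exists_of_mem_mQ j (q_len ▸ hj)
    rw [List.getD_eq_getElem (hn := hj), hjA] at hw
    have hx : d.ρ (R.word w) ∈ R.A0 := by
      show R.code _ ∈ mI :: mK2
      rw [hw]; exact List.mem_cons_of_mem _ hA
    have h := hm _ hx
    rw [R.apply, hw] at h
    rw [R.φ_inj (ap_lt (n := 12) (hw ▸ R.mat_lt _ : ∀ a ∈ mK2[i], a < 4096) v) hv h]
    exact Nat.beq_refl _
  · rintro ⟨v, hv, rfl⟩ x hx
    rw [R.apply]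
    have hv' := hv
    rw [← fix_K2, List.mem_filter, List.mem_range] at hv'
    rcases List.mem_cons.1 (show R.code x ∈ mI :: mK2 from hx) with h | h
    · rw [h, ap_one v hv'.1]
    · rw [Nat.eq_of_beq_eq_true ((List.all_eq_true.1 hv'.2) _ h)]

/-- The preimage in `E` of the fixed space. -/
def sHat : Subgroup G where
  carrier := {g | ∃ h : g ∈ E, (QuotientGroup.mk (⟨g, h⟩ : E) : Bar E) ∈ fixed R.A0}
  one_mem' := ⟨one_mem E, fun x _ => map_one x⟩
  mul_mem' := by
    rintro a b ⟨ha, ha'⟩ ⟨hb, hb'⟩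
    refine ⟨mul_mem ha hb, fun x hx => ?_⟩
    rw [show (⟨a * b, mul_mem ha hb⟩ : E) = ⟨a, ha⟩ * ⟨b, hb⟩ from rfl, QuotientGroup.mk_mul,
      map_mul, ha' x hx, hb' x hx]
  inv_mem' := by
    rintro a ⟨ha, ha'⟩
    refine ⟨inv_mem ha, fun x hx => ?_⟩
    rw [show (⟨a⁻¹, inv_mem ha⟩ : E) = (⟨a, ha⟩ : E)⁻¹ from rfl, QuotientGroup.mk_inv, map_inv,
      ha' x hx]

theorem sHat_le : R.sHat ≤ E := fun _ hg => hg.1

theorem z_mem_sHat : z ∈ R.sHat :=
  ⟨d.L.z_mem, fun x _ => by
    rw [(d.mk_eq_one).2 (Or.inr rfl), map_one]⟩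

/-- Elements of `H` normalising the subgroup of order sixteen. -/
def normA0 (h : ↥(centralizer ({z} : Set G))) : Prop :=
  ∀ x ∈ R.A0, (d.ρ h)⁻¹ * x * d.ρ h ∈ R.A0

theorem fixed_apply {h : ↥(centralizer ({z} : Set G))} (hh : R.normA0 h) {m : Bar E}
    (hm : m ∈ fixed R.A0) : d.ρ h m ∈ fixed R.A0 := by
  intro x hx
  have e := hm _ (hh x hx)
  rw [MulAut.mul_apply, MulAut.mul_apply] at e
  have := congrArg (d.ρ h) e
  simpa using this

theorem conj_mem_sHat {h : ↥(centralizer ({z} : Set G))} (hh : R.normA0 h) {g : G} (hg : g ∈ R.sHat) :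
    (h : G) * g * (h : G)⁻¹ ∈ R.sHat := by
  obtain ⟨hgE, hg'⟩ := hg
  refine ⟨d.L.conj_mem h.2 hgE, ?_⟩
  have := R.fixed_apply hh hg'
  rwa [d.ρ_mk] at this

/-- The form on the quotient. -/
noncomputable def qv (v : ℕ) : ZMod 2 := Data.quad ((R.φ v).out : E).1

theorem qv_mk (a : E) (v : ℕ) (h : R.φ v = QuotientGroup.mk a) : R.qv v = Data.quad (a : G) := by
  refine d.quad_eq_of_mk ?_
  rw [QuotientGroup.out_eq', h]

theorem qv_apply (h : ↥(centralizer ({z} : Set G))) (v : ℕ) :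
    R.qv (ap (R.code (d.ρ h)) v) = R.qv v := by
  obtain ⟨a, ha⟩ := QuotientGroup.mk_surjective (R.φ v)
  rw [R.qv_mk a v ha.symm, R.qv_mk ⟨h * a * (h : G)⁻¹, d.L.conj_mem h.2 a.2⟩ _ (by
    rw [← R.apply, ← ha, d.ρ_mk])]
  classical
  have : (h : G) * a * (h : G)⁻¹ * ((h : G) * a * (h : G)⁻¹) = 1 ↔ (a : G) * a = 1 := by
    rw [← MulAut.conj_apply, ← map_mul, EmbeddingLike.map_eq_one_iff]
  simp only [Data.quad, this]

theorem qv_orbit {o : List ℕ} (ho : o ∈ [orb0, orb1]) : ∀ v ∈ o, R.qv v = R.qv (o.getD 0 0) := by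
  intro v hv
  obtain ⟨j, hj, rfl⟩ := List.getElem_of_mem hv
  rw [← List.getD_eq_getElem (d := 0)]
  induction j using Nat.strong_induction_on with
  | _ j ih =>
    rcases Nat.eq_zero_or_pos j with rfl | hp
    · rfl
    · have h := (List.all_eq_true.1 ((List.all_eq_true.1 orb_ok) o ho)) (j - 1)
        (List.mem_range.2 (by omega))
      rw [show j - 1 + 1 = j by omega] at h
      obtain ⟨i, hi, h⟩ := List.any_eq_true.1 h
      obtain ⟨g, -, h⟩ := List.any_eq_true.1 h
      have hij : i < j := List.mem_range.1 hi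
      rw [← Nat.eq_of_beq_eq_true h, ← R.mat_word, R.qv_apply]
      exact ih i hij (hij.trans hj) (List.getElem_mem _)

theorem qv_seven {u v w : ℕ} :
    R.qv u + R.qv v + R.qv w + R.qv (u ^^^ v) + R.qv (u ^^^ w) + R.qv (v ^^^ w) +
      R.qv (u ^^^ v ^^^ w) = 0 := by
  obtain ⟨a, ha⟩ := QuotientGroup.mk_surjective (R.φ u)
  obtain ⟨b, hb⟩ := QuotientGroup.mk_surjective (R.φ v)
  obtain ⟨c, hc⟩ := QuotientGroup.mk_surjective (R.φ w)
  rw [R.qv_mk a u ha.symm, R.qv_mk b v hb.symm, R.qv_mk c w hc.symm,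
    R.qv_mk (a * b) (u ^^^ v) (by rw [R.φ_xor, QuotientGroup.mk_mul, ha, hb]),
    R.qv_mk (a * c) (u ^^^ w) (by rw [R.φ_xor, QuotientGroup.mk_mul, ha, hc]),
    R.qv_mk (b * c) (v ^^^ w) (by rw [R.φ_xor, QuotientGroup.mk_mul, hb, hc]),
    R.qv_mk (a * b * c) (u ^^^ v ^^^ w)
      (by rw [R.φ_xor, R.φ_xor, QuotientGroup.mk_mul, QuotientGroup.mk_mul, ha, hb, hc])]
  exact d.quad_seven a.2 b.2 c.2

theorem qv_sVec {v : ℕ} (hv : v ∈ sVec) : R.qv v = 0 := by
  set a := R.qv (orb0.getD 0 0)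
  set b := R.qv (orb1.getD 0 0)
  have hval : ∀ u ∈ sVec, u ≠ 0 → R.qv u = if orb0.contains u then a else b := by
    intro u hu hne
    have h := (List.all_eq_true.1 orb_cover) u hu
    simp only [Bool.or_eq_true] at h
    rcases h with (h | h) | h
    · exact absurd (Nat.eq_of_beq_eq_true h) hne
    · rw [if_pos h]
      exact R.qv_orbit (List.mem_cons_self ..) u (by simpa using h)
    · have hm : u ∈ orb1 := by simpa using h
      have := (List.all_eq_true.1 orb_excl) u hm
      rw [if_neg (by simpa using this)]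
      exact R.qv_orbit (by simp) u hm
  have hmem : ∀ u ∈ [13, 67, 145, 1025, 13 ^^^ 67, 13 ^^^ 145, 67 ^^^ 145, 13 ^^^ 67 ^^^ 145, 13 ^^^ 1025,
      67 ^^^ 1025, 13 ^^^ 67 ^^^ 1025], R.qv u = if orb0.contains u then a else b := by
    intro u hu
    have h := (List.all_eq_true.1 triple_mem) u hu
    simp only [Bool.and_eq_true, Bool.not_eq_true'] at h
    exact hval u (by simpa using h.1) (fun e => by rw [e] at h; exact absurd h.2 (by decide))
  have hab := two_values a b (by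
      simp only [List.map_cons, List.map_nil, List.sum_cons, List.sum_nil, add_zero]
      rw [← hmem 13 (by simp), ← hmem 67 (by simp), ← hmem 145 (by simp),
        ← hmem (13 ^^^ 67) (by simp), ← hmem (13 ^^^ 145) (by simp), ← hmem (67 ^^^ 145) (by simp),
        ← hmem (13 ^^^ 67 ^^^ 145) (by simp)]
      simp only [← add_assoc]
      exact R.qv_seven) (by
      simp only [List.map_cons, List.map_nil, List.sum_cons, List.sum_nil, add_zero]
      rw [← hmem 13 (by simp), ← hmem 67 (by simp), ← hmem 1025 (by simp),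
        ← hmem (13 ^^^ 67) (by simp), ← hmem (13 ^^^ 1025) (by simp), ← hmem (67 ^^^ 1025) (by simp),
        ← hmem (13 ^^^ 67 ^^^ 1025) (by simp)]
      simp only [← add_assoc]
      exact R.qv_seven)
  rcases eq_or_ne v 0 with rfl | hne
  · classical
    rw [R.qv_mk 1 0 (by rw [R.φ_zero, QuotientGroup.mk_one])]
    simp [Data.quad]
  · rw [hval v hv hne, hab.1, hab.2, ite_self]

theorem sHat_sq {g : G} (hg : g ∈ R.sHat) : g * g = 1 := by
  obtain ⟨hgE, hg'⟩ := hg
  obtain ⟨v, hv, hvg⟩ := (R.fixed_A0 _).1 hg'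
  rw [d.sq_eq hgE, ← R.qv_mk ⟨g, hgE⟩ v hvg, R.qv_sVec hv]
  simp [Data.zp]

theorem sHat_comm {a b : G} (ha : a ∈ R.sHat) (hb : b ∈ R.sHat) : a * b = b * a := by
  rw [← inv_eq_of_mul_eq_one_right (R.sHat_sq (mul_mem ha hb)), mul_inv_rev,
    inv_eq_of_mul_eq_one_right (R.sHat_sq hb), inv_eq_of_mul_eq_one_right (R.sHat_sq ha)]

theorem card_fixed_A0 : Nat.card (fixed R.A0) = 64 := by
  have h := sVec_span
  simp only [Bool.and_eq_true, List.all_eq_true] at h
  obtain ⟨⟨h1, h2⟩, -⟩ := h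
  let f : Fin 64 → fixed R.A0 := fun i => ⟨R.φ (ap [13, 67, 145, 769, 1025, 2358] i),
    (R.fixed_A0 _).2 ⟨_, by simpa using h1 i (List.mem_range.2 i.2), rfl⟩⟩
  have hf : Function.Surjective f := by
    rintro ⟨m, hm⟩
    obtain ⟨v, hv, rfl⟩ := (R.fixed_A0 m).1 hm
    obtain ⟨i, hi, hiv⟩ := List.any_eq_true.1 (h2 v hv)
    exact ⟨⟨i, List.mem_range.1 hi⟩, Subtype.ext (congrArg R.φ (Nat.eq_of_beq_eq_true hiv))⟩
  have hinj : Function.Injective f := by
    intro i j e
    have e' : R.φ _ = R.φ _ := congrArg Subtype.val e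
    have hlt : ∀ k, ap [13, 67, 145, 769, 1025, 2358] k < 4096 := fun k =>
      ap_lt (n := 12) (by simp) k
    exact span_inj i j (R.φ_inj (hlt i) (hlt j) e')
  simpa using (Nat.card_congr (Equiv.ofBijective f ⟨hinj, hf⟩)).symm

theorem card_sHat : Nat.card R.sHat = 128 := by
  let T : Set E := QuotientGroup.mk ⁻¹' fixed R.A0
  have h1 : Nat.card T = 128 := by
    rw [Nat.card_congr (QuotientGroup.preimageMkEquivSubgroupProdSet (center ↥E) (fixed R.A0)),
      Nat.card_prod, d.L.hext.2, R.card_fixed_A0]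
  rw [← h1]
  exact Nat.card_congr
    { toFun := fun g => ⟨⟨g, g.2.1⟩, g.2.2⟩
      invFun := fun a => ⟨a.1, a.1.2, a.2⟩
      left_inv := fun _ => rfl
      right_inv := fun _ => rfl }

theorem sHat_centralizer {x : G} (hx : x ∈ E) (h : ∀ a ∈ R.sHat, a * x = x * a) : x ∈ R.sHat :=
  (d.abelian_bound R.sHat_le fun _ ha _ hb => R.sHat_comm ha hb).2 R.card_sHat x hx h

end Real

end Cfsg.Agent.H69.J4
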