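import Cfsg.Agent.H69.J4.FusionMain
import Cfsg.Agent.H42.J4.Perfect
import Cfsg.Agent.H42.J4.Sylow

/-!
In a group of `J₄` type the normaliser of `P` lies in the centraliser of `z`.
-/

set_option autoImplicit false

namespace Cfsg.Agent.H69.J4

open Subgroup
open scoped Pointwise commutatorElement

variable {G : Type*} [Group G] [Finite G]
variable {z : G} {E P N : Subgroup G}
variable {e : ↥(centralizer ({z} : Set G)) →* MulAut ↥Cfsg.Spor.M22}

omit [Finite G] in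
/-- For an involution inverting `w` of odd order, a power of `w` moves into the centralizer. -/
theorem exists_pow_commute {s g w : G} (hs : s * s = 1) (hw : s * g * s = w * g) {n : ℕ} (hn : Odd n)
    (hwn : w ^ n = 1) : ∃ k : ℕ, s * (w ^ k * g) = w ^ k * g * s := by
  obtain ⟨m, rfl⟩ := hn
  refine ⟨m + 1, ?_⟩
  have hsi : s⁻¹ = s := inv_eq_of_mul_eq_one_right hs
  have hinv : s * w * s⁻¹ = w⁻¹ := by
    have h1 : w = s * g * s * g⁻¹ := by rw [hw, mul_inv_cancel_right]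
    rw [h1, hsi]
    calc s * (s * g * s * g⁻¹) * s = (s * s) * g * s * g⁻¹ * s := by group
      _ = g * s⁻¹ * g⁻¹ * s⁻¹ := by rw [hs, hsi, one_mul]
      _ = _ := by group
  have hpow : s * w ^ (m + 1) * s⁻¹ = (w ^ (m + 1))⁻¹ := by rw [← conj_pow, hinv, inv_pow]
  have hk : (w ^ (m + 1))⁻¹ * w = w ^ (m + 1) := by
    rw [inv_mul_eq_iff_eq_mul, ← pow_add, show m + 1 + (m + 1) = (2 * m + 1) + 1 by omega,
      pow_succ, hwn, one_mul]
  calc s * (w ^ (m + 1) * g) = (s * w ^ (m + 1) * s⁻¹) * (s * g * s) * s⁻¹ := by group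
    _ = (w ^ (m + 1))⁻¹ * w * g * s := by rw [hpow, hw, hsi]; group
    _ = w ^ (m + 1) * g * s := by rw [hk]

theorem orderOf_odd_of_mem {W : Subgroup G} (hW : Odd (Nat.card W)) {w : G} (hw : w ∈ W) :
    Odd (orderOf w) := hW.of_dvd_nat (W.orderOf_dvd_natCard hw)

omit [Finite G] in
theorem eq_one_of_sq_of_odd {t : G} (h : t * t = 1) (ho : Odd (orderOf t)) : t = 1 := by
  have h2 : orderOf t ∣ 2 := orderOf_dvd_of_pow_eq_one (by rw [sq, h])
  rcases (Nat.dvd_prime Nat.prime_two).1 h2 with h' | h'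
  · exact orderOf_eq_one_iff.1 h'
  · rw [h'] at ho
    exact absurd ho (by decide)

/-- If the centralizer in `W` of an involution lies in a central subgroup, the involution inverts `W`
modulo that subgroup. -/
theorem inverts_mod {W Q : Subgroup G} (hW : Odd (Nat.card W)) (hQ : ∀ q ∈ Q, ∀ w ∈ W, q * w = w * q)
    {s : G} (hs : s * s = 1) (hsQ : ∀ q ∈ Q, s * q = q * s) (hsW : ∀ w ∈ W, s * w * s ∈ W)
    (hcen : ∀ w ∈ W, s * w = w * s → w ∈ Q) : ∀ w ∈ W, ∃ q ∈ Q, s * w * s = w⁻¹ * q := by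
  intro w hw
  set v := s * w * s * w⁻¹ with hv
  have hvW : v ∈ W := mul_mem (hsW w hw) (inv_mem hw)
  obtain ⟨k, hk⟩ := exists_pow_commute hs (show s * w * s = v * w by rw [hv, inv_mul_cancel_right])
    (orderOf_odd_of_mem hW hvW) (pow_orderOf_eq_one v)
  set t := v ^ k
  have htW : t ∈ W := pow_mem hvW k
  set c := t * w
  have hcQ : c ∈ Q := hcen c (mul_mem htW hw) hk
  refine ⟨c * c, mul_mem hcQ hcQ, ?_⟩
  have hsi : s⁻¹ = s := inv_eq_of_mul_eq_one_right hs
  have htinv : s * t * s = t⁻¹ := by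
    have hv' : s * v * s = v⁻¹ := by
      rw [hv]
      calc s * (s * w * s * w⁻¹) * s = (s * s) * w * s * w⁻¹ * s := by group
        _ = w * s⁻¹ * w⁻¹ * s⁻¹ := by rw [hs, hsi, one_mul]
        _ = _ := by group
    show s * v ^ k * s = (v ^ k)⁻¹
    conv_lhs => arg 2; rw [← hsi]
    rw [← conj_pow, hsi, hv', inv_pow]
  have hw' : w = t⁻¹ * c := by rw [show c = t * w from rfl, inv_mul_cancel_left]
  have hsc : s * c * s = c := by rw [hsQ c hcQ, mul_assoc, hs, mul_one]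
  calc s * w * s = (s * t⁻¹ * s) * (s * s) * (s * c * s) := by
        rw [hw', show (s * t⁻¹ * s) * (s * s) * (s * c * s) = s * t⁻¹ * (s * s) * (s * s) * c * s by group,
          hs, mul_one, mul_one]
        group
    _ = t * c := by
      rw [hs, mul_one, hsc]
      congr 1
      calc s * t⁻¹ * s = (s * t * s)⁻¹ := by rw [mul_inv_rev, mul_inv_rev, hsi, ← mul_assoc]
        _ = t := by rw [htinv, inv_inv]
    _ = w⁻¹ * (c * c) := by
      rw [hw', mul_inv_rev, inv_inv, show c⁻¹ * t * (c * c) = c⁻¹ * (t * c) * c by group, ← hQ c hcQ t htW]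
      group
      exact hQ c hcQ t htW

namespace Data

variable (d : Data z E P)
include d

theorem mem_E_of_two (o : Outer z E P N e) {y : G} (hy : y ∈ N) {k : ℕ} (hk : y ^ 2 ^ k = 1) :
    y ∈ E := by
  obtain ⟨x, hx, q, hq, rfl⟩ := (o.mem_N_iff d).1 hy
  set Q : centralizer ({z} : Set G) := ⟨q, d.hPH hq⟩
  set X : centralizer ({z} : Set G) := ⟨x, d.L.le_H hx⟩
  have h1 : d.ρ (X * Q) = d.ρ Q := by
    rw [map_mul, (d.mem_ker_iff).2 (show (X : G) ∈ E from hx), one_mul]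
  have h2 : d.ρ Q ^ 2 ^ k = 1 := by
    rw [← h1, ← map_pow, show (X * Q) ^ 2 ^ k = 1 from Subtype.ext hk, map_one]
  have h3 : d.ρ Q ^ 3 = 1 := by
    rw [← map_pow, show Q ^ 3 = 1 from Subtype.ext (by
      show q ^ 3 = 1
      rw [← orderOf_dvd_iff_pow_eq_one, ← d.cardP]; exact P.orderOf_dvd_natCard hq), map_one]
  have h4 := eq_one_of_coprime_pow h3 h2 (((Nat.coprime_primes Nat.prime_two Nat.prime_three).2
    (by norm_num)).pow_left k)
  exact mul_mem hx ((d.mem_ker_iff).1 h4)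

end Data

variable {d : Data z E P}

theorem Real.comm_P (R : Real d) {v : G} (h : (R.g 3 : G) * v = v * R.g 3) :
    v ∈ centralizer (P : Set G) := by
  refine mem_centralizer_iff.2 fun p hp => ?_
  rcases R.g3_gen hp with rfl | rfl | rfl
  · simp
  · exact h
  · exact (Commute.mul_left (show Commute (R.g 3 : G) v from h) h).eq

/-- `z` is the only conjugate of itself in the centraliser of `P` that commutes with it. -/
theorem Real.isolated (R : Real d) (o : Outer z E P N e) {x : G} (hx : x ∈ centralizer (P : Set G))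
    (hc : x * z * x⁻¹ ∈ centralizer ({z} : Set G)) : x * z * x⁻¹ = z := by
  classical
  by_contra hne
  obtain ⟨u, hu⟩ := R.exists_base
  set v := x * z * x⁻¹ with hv
  have hzP : z ∈ centralizer (P : Set G) := mem_centralizer_iff.2 fun p hp =>
    mem_centralizer_singleton_iff.1 (d.hPH hp)
  have hvP : v ∈ centralizer (P : Set G) := mul_mem (mul_mem hx hzP) (inv_mem hx)
  have hv2 : v * v = 1 := Real.exists_involution_conj d.L.zz
  have hvE : v ∉ E := fun h => by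
    rcases d.fixP v h (fun p hp => mem_centralizer_iff.1 hvP p hp) with e' | e'
    · exact d.L.z_ne_one (conj_eq_one_iff.1 e')
    · exact hne e'
  have hY : d.ρ ⟨v, hc⟩ ∈ Outer.Y d := ⟨⟨v, hc⟩, mem_subgroupOf.2 hvP, rfl⟩
  obtain ⟨c, hcP, hcode⟩ := R.exists_conj_code o hY (by
    rw [← map_mul, show (⟨v, hc⟩ : centralizer ({z} : Set G)) * ⟨v, hc⟩ = 1 from Subtype.ext hv2, map_one])
    (fun h => hvE ((d.mem_ker_iff).1 h))
  set x' : G := (c : G) * x with hx'
  have hx'P : x' ∈ centralizer (P : Set G) := mul_mem (mem_subgroupOf.1 hcP) hx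
  set v' := x' * z * x'⁻¹ with hv'
  have hv'c : v' = (c : G) * v * (c : G)⁻¹ := by rw [hv', hx', hv]; group
  have hv'H : v' ∈ centralizer ({z} : Set G) := hv'c ▸ mul_mem (mul_mem c.2 hc) (inv_mem c.2)
  have hρ : d.ρ ⟨v', hv'H⟩ = d.ρ hu.el := by
    refine R.mat_inj ?_
    rw [show R.code (d.ρ hu.el) = mA from hu.code, ← hcode, ← map_inv, ← map_mul, ← map_mul]
    exact congrArg R.code (congrArg d.ρ (Subtype.ext hv'c))
  have hu2 : u * u = 1 := R.V0_sq hu.mem
  have hkE : u * v' ∈ E := by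
    have h1 : d.ρ (hu.el * ⟨v', hv'H⟩) = 1 := by
      rw [map_mul, hρ, ← map_mul, show hu.el * hu.el = 1 from Subtype.ext hu2, map_one]
    exact (d.mem_ker_iff).1 h1
  have hv'P : v' ∈ centralizer (P : Set G) := mul_mem (mul_mem hx'P hzP) (inv_mem hx'P)
  have huP : u ∈ centralizer (P : Set G) := R.comm_P hu.comm
  have hcases := d.fixP _ hkE (fun p hp => mem_centralizer_iff.1 (mul_mem huP hv'P) p hp)
  have hv'z : v' ≠ z := fun h => hne (by
    rw [hv'c] at h
    calc v = (c : G)⁻¹ * ((c : G) * v * (c : G)⁻¹) * c := by group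
      _ = (c : G)⁻¹ * (z * c) := by rw [h]; group
      _ = z := by rw [← mem_centralizer_singleton_iff.1 c.2, inv_mul_cancel_left])
  -- the centraliser of the base in `E` commutes with the conjugate
  have hDv : ∀ f ∈ E ⊓ centralizer ({u} : Set G), f * v' = v' * f := by
    intro f hf
    have hfu : Commute f u := mem_centralizer_singleton_iff.1 hf.2
    rcases hcases with h | h
    · rw [show v' = u from (eq_inv_of_mul_eq_one_right h).trans hu.inv]
      exact hfu.eq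
    · rw [show v' = u⁻¹ * z by rw [← h, inv_mul_cancel_left], hu.inv]
      exact (hfu.mul_right (show Commute f z from d.L.commute_z hf.1)).eq
  obtain ⟨p, hp, hp1, -, hall⟩ := Outer.exists_gen d
  have hxp : x' * p = p * x' := (mem_centralizer_iff.1 hx'P p hp).symm
  set T := E ⊓ E.map (MulAut.conj x').toMonoidHom with hT
  have hTc : ∀ a ∈ T, ∀ b ∈ T, a * b = b * a := by
    intro a ha b hb
    rcases d.L.conj_cases ha.1 hb.1 with h | h
    · exact h
    · exfalso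
      obtain ⟨a', ha', hae⟩ := ha.2
      obtain ⟨b', hb', hbe⟩ := hb.2
      change x' * a' * x'⁻¹ = a at hae
      change x' * b' * x'⁻¹ = b at hbe
      rw [← hae, ← hbe] at h
      have h' : x' * (a' * b' * a'⁻¹) * x'⁻¹ = z * (x' * b' * x'⁻¹) := by rw [← h]; group
      rcases d.L.conj_cases ha' hb' with e' | e'
      · rw [mul_inv_eq_iff_eq_mul.2 e'] at h'
        exact d.L.z_mul_ne _ h'.symm
      · rw [e', show x' * (z * b') * x'⁻¹ = v' * (x' * b' * x'⁻¹) by rw [hv']; group] at h'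
        exact hv'z (mul_right_cancel h')
  have hT128 := (d.abelian_bound (inf_le_left : T ≤ E) hTc).1
  have hmem : ∀ f ∈ E ⊓ centralizer ({u} : Set G), f * p * f⁻¹ * p⁻¹ ∈ T := by
    intro f hf
    have hfE : f ∈ E := hf.1
    refine ⟨?_, ?_⟩
    · rw [show f * p * f⁻¹ * p⁻¹ = f * (p * f⁻¹ * p⁻¹) by group]
      exact mul_mem hfE (d.L.conj_mem (d.hPH hp) (inv_mem hfE))
    · set f' := x'⁻¹ * f * x' with hf'
      have hf'H : f' ∈ centralizer ({z} : Set G) := mem_centralizer_singleton_iff.2 (by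
        calc f' * z = x'⁻¹ * (f * v') * x' := by rw [hf', hv']; group
          _ = x'⁻¹ * (v' * f) * x' := by rw [hDv f hf]
          _ = z * f' := by rw [hf', hv']; group)
      set y := x'⁻¹ * (f * p * f⁻¹ * p⁻¹) * x' with hy
      have hy' : y = f' * p * f'⁻¹ * p⁻¹ := by
        have hxp' : x'⁻¹ * p = p * x'⁻¹ := by
          rw [inv_mul_eq_iff_eq_mul, ← mul_assoc, hxp, mul_inv_cancel_right]
        have hxp'' : p⁻¹ * x' = x' * p⁻¹ := by
          rw [inv_mul_eq_iff_eq_mul, ← mul_assoc, ← hxp, mul_inv_cancel_right]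
        calc y = x'⁻¹ * f * p * f⁻¹ * (p⁻¹ * x') := by rw [hy]; group
          _ = x'⁻¹ * f * p * f⁻¹ * (x' * p⁻¹) := by rw [hxp'']
          _ = x'⁻¹ * f * (x' * x'⁻¹ * p) * f⁻¹ * x' * p⁻¹ := by group
          _ = x'⁻¹ * f * (x' * (p * x'⁻¹)) * f⁻¹ * x' * p⁻¹ := by rw [mul_assoc x', hxp']
          _ = _ := by rw [hf']; group
      have hyN : y ∈ N := by
        rw [hy']
        refine mul_mem ?_ (inv_mem (o.hPN hp))
        haveI : (N.subgroupOf (centralizer ({z} : Set G))).Normal := o.ker ▸ inferInstance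
        exact (inferInstance : (N.subgroupOf (centralizer ({z} : Set G))).Normal).conj_mem
          ⟨p, d.hPH hp⟩ (mem_subgroupOf.2 (o.hPN hp)) ⟨f', hf'H⟩
      have htE : f * p * f⁻¹ * p⁻¹ ∈ E := by
        rw [show f * p * f⁻¹ * p⁻¹ = f * (p * f⁻¹ * p⁻¹) by group]
        exact mul_mem hfE (d.L.conj_mem (d.hPH hp) (inv_mem hfE))
      obtain ⟨k, hk⟩ := d.L.isPGroup_E ⟨_, htE⟩
      refine ⟨y, d.mem_E_of_two o hyN (k := k) ?_, ?_⟩
      · have h1 : (f * p * f⁻¹ * p⁻¹) ^ 2 ^ k = 1 := congrArg Subtype.val hk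
        rw [hy, show x'⁻¹ * (f * p * f⁻¹ * p⁻¹) * x' = x'⁻¹ * (f * p * f⁻¹ * p⁻¹) * x'⁻¹⁻¹ by rw [inv_inv],
          conj_pow, h1]
        group
      · show x' * y * x'⁻¹ = _
        rw [hy]; group
  let F : ↥(E ⊓ centralizer ({u} : Set G)) → T := fun f => ⟨_, hmem f f.2⟩
  have hfib : ∀ a b, F a = F b → (b : G) = a ∨ (b : G) = a * z := by
    intro a b h
    have h' : (a : G) * p * (a : G)⁻¹ * p⁻¹ = (b : G) * p * (b : G)⁻¹ * p⁻¹ := congrArg Subtype.val h
    have h1 : (a : G)⁻¹ * b * p = p * ((a : G)⁻¹ * b) := by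
      calc (a : G)⁻¹ * b * p = (a : G)⁻¹ * ((b : G) * p * (b : G)⁻¹) * b := by group
        _ = (a : G)⁻¹ * ((a : G) * p * (a : G)⁻¹) * b := by rw [mul_right_cancel h']
        _ = _ := by group
    rcases d.fixP _ (mul_mem (inv_mem a.2.1) b.2.1) (fun q hq => by
      rcases hall q hq with rfl | rfl | rfl
      · simp
      · exact h1.symm
      · exact (Commute.mul_left (show Commute p _ from h1.symm) h1.symm).eq) with e' | e'
    · exact Or.inl (inv_mul_eq_one.1 e').symm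
    · exact Or.inr (by rw [← e', mul_inv_cancel_left])
  let G' : ↥(E ⊓ centralizer ({u} : Set G)) → T × Bool := fun f =>
    (F f, decide (f = (Function.invFun F (F f))))
  haveI : Nonempty ↥(E ⊓ centralizer ({u} : Set G)) := ⟨1⟩
  have hG' : Function.Injective G' := by
    intro a b h
    simp only [G', Prod.mk.injEq, decide_eq_decide] at h
    obtain ⟨h1, h2⟩ := h
    set c0 := Function.invFun F (F a) with hc0
    have hca : F c0 = F a := Function.invFun_eq ⟨a, rfl⟩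
    rw [← h1, ← hc0] at h2
    by_cases ha : a = c0
    · rw [ha, h2.1 ha]
    · have hb : b ≠ c0 := fun hb => ha (h2.2 hb)
      have e1 := (hfib c0 a hca).resolve_left fun e' => ha (Subtype.ext e')
      have e2 := (hfib c0 b (hca.trans h1)).resolve_left fun e' => hb (Subtype.ext e')
      exact Subtype.ext (e1.trans e2.symm)
  have h1 := Nat.card_le_card_of_injective G' hG'
  rw [Nat.card_prod, Nat.card_eq_fintype_card (α := Bool), Fintype.card_bool] at h1
  have h2 := hu.card_cent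
  have h3 : Nat.card T ≤ 128 := hT128
  clear_value T
  omega

/-- A normal subgroup of odd order of `C_H(P)` lies in `P`. -/
theorem odd_normal_le (hJ : Cfsg.IsOfJankoFourTypeWith z P)
    (A : Subgroup ↥(centralizer ({z} : Set G) ⊓ centralizer (P : Set G))) [A.Normal]
    (hA : Odd (Nat.card A)) {w : ↥(centralizer ({z} : Set G) ⊓ centralizer (P : Set G))} (hw : w ∈ A) :
    (w : G) ∈ P := by
  classical
  obtain ⟨π, hπ, hπk⟩ := H42.J4.exists_hom_cent hJ
  haveI := H42.J4.simple22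
  have hAbot : A.map π = ⊥ := by
    refine ((inferInstance : A.Normal).map π hπ).eq_bot_or_eq_top.resolve_right fun h => ?_
    have h2 : Nat.card ↥(A.map π) ∣ Nat.card A := Subgroup.card_map_dvd _ _
    rw [h] at h2
    have h1 := hA.of_dvd_nat h2
    rw [card_top, H25.M22.card22] at h1
    exact absurd h1 (by decide)
  have h1 : π w = 1 := by
    have : π w ∈ A.map π := ⟨_, hw, rfl⟩
    rwa [hAbot, mem_bot] at this
  rw [← MonoidHom.mem_ker, hπk, mem_subgroupOf] at h1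
  have hzz : z * z = 1 := by rw [← sq, ← hJ.1, pow_orderOf_eq_one]
  have h3 : (w : G) ^ 3 = 1 := by
    obtain ⟨i, hi⟩ := mem_zpowers_iff.1 (H42.J4.cube_mem_z hJ h1)
    refine eq_one_of_sq_of_odd ?_ ?_
    · rw [← hi, ← zpow_add, ← two_mul, zpow_mul, zpow_two, hzz, one_zpow]
    · rw [← SubmonoidClass.coe_pow, Subgroup.orderOf_coe]
      exact orderOf_odd_of_mem hA (pow_mem hw 3)
  exact H42.J4.mem_p_of_cube hJ h1 (by rw [show 27 = 3 * 9 from rfl, pow_mul, h3, one_pow])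

/-- In `Aut M₂₂` an inner involution centralising an element of order three centralises a subgroup of odd
order that it normalises in the centraliser of that element. -/
theorem commute_in_aut (B ω : MulAut ↥Cfsg.Spor.M22) (Q : Subgroup (MulAut ↥Cfsg.Spor.M22))
    (hB3 : B ^ 3 = 1) (hB1 : B ≠ 1) (hω2 : ω * ω = 1) (hωI : ω ∈ Cfsg.Inn ↥Cfsg.Spor.M22)
    (hBω : Commute B ω) (hQ : Odd (Nat.card Q)) (hBQ : ∀ q ∈ Q, Commute B q)
    (hn : ∀ q ∈ Q, ω * q * ω⁻¹ ∈ Q) : ∀ q ∈ Q, ω * q = q * ω := by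
  classical
  haveI : Fact (Nat.Prime 3) := ⟨Nat.prime_three⟩
  have hidx : (Cfsg.Inn ↥Cfsg.Spor.M22).index = 2 := by
    have h1 := Subgroup.card_mul_index (Cfsg.Inn ↥Cfsg.Spor.M22)
    have h2 : Nat.card (Cfsg.Inn ↥Cfsg.Spor.M22) = 443520 := by
      show Nat.card (MulAut.conj : ↥Cfsg.Spor.M22 →* _).range = _
      rw [← Nat.card_congr (MonoidHom.ofInjective H42.J4.conj22_injective).toEquiv, H25.M22.card22]
    rw [h2, H42.J4.card_aut22] at h1
    omega
  have hodd : ∀ x : MulAut ↥Cfsg.Spor.M22, Odd (orderOf x) →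
      x ∈ (MulAut.conj : ↥Cfsg.Spor.M22 →* _).range := by
    intro x hx
    obtain ⟨m, hm⟩ := hx
    have h1 := Subgroup.sq_mem_of_index_two hidx (a := x ^ (m + 1))
    rw [← pow_mul, show (m + 1) * 2 = orderOf x + 1 by omega, pow_succ, pow_orderOf_eq_one, one_mul] at h1
    exact h1
  have hinj := H42.J4.conj22_injective
  obtain ⟨B0, rfl⟩ := hodd B (by
    rw [orderOf_eq_prime hB3 hB1]; decide)
  obtain ⟨w, rfl⟩ := hωI
  have hpull : ∀ q ∈ Q, ∃ y, MulAut.conj y = q := fun q hq => hodd q (orderOf_odd_of_mem hQ hq)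
  set f : ↥Cfsg.Spor.M22 →* MulAut ↥Cfsg.Spor.M22 := MulAut.conj
  set Q0 := Q.comap f with hQ0
  have hQ0odd : Odd (Nat.card Q0) := by
    refine hQ.of_dvd_nat ?_
    rw [← card_map_of_injective hinj (K := Q0)]
    exact Subgroup.card_dvd_of_le (Subgroup.map_comap_le f Q)
  have hB0 : orderOf B0 = 3 := by
    rw [← orderOf_injective f hinj, orderOf_eq_prime hB3 hB1]
  have hwB : w * B0 = B0 * w := hinj (by rw [map_mul, map_mul]; exact hBω.symm.eq)
  have hw2 : w * w = 1 := hinj (by rw [map_mul, map_one]; exact hω2)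
  have hQB : ∀ y ∈ Q0, Commute B0 y := fun y hy => hinj (by rw [map_mul, map_mul]; exact (hBQ _ hy).eq)
  have hwQ : ∀ y ∈ Q0, w * y * w⁻¹ ∈ Q0 := fun y hy => by
    show f (w * y * w⁻¹) ∈ Q
    rw [map_mul, map_mul, map_inv]
    exact hn _ hy
  suffices ∀ y ∈ Q0, w * y = y * w by
    intro q hq
    obtain ⟨y, rfl⟩ := hpull q hq
    rw [← map_mul, ← map_mul, this y hq]
  by_cases hle : Q0 ≤ zpowers B0
  · intro y hy
    obtain ⟨i, rfl⟩ := mem_zpowers_iff.1 (hle hy)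
    exact ((show Commute w B0 from hwB).zpow_right i).eq
  set T := zpowers B0 ⊔ Q0 with hT
  have hTC : T ≤ centralizer ({B0} : Set ↥Cfsg.Spor.M22) :=
    sup_le (zpowers_le.2 (mem_centralizer_singleton_iff.2 rfl))
      fun y hy => mem_centralizer_singleton_iff.2 (hQB y hy).symm.eq
  have hcomm : ∀ (x : zpowers B0) (y : Q0), Commute ((zpowers B0).subtype x) (Q0.subtype y) := by
    rintro ⟨_, i, rfl⟩ ⟨y, hy⟩
    exact (hQB y hy).zpow_left i
  have hdvd : Nat.card T ∣ 3 * Nat.card Q0 := by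
    have h1 := Subgroup.card_range_dvd (MonoidHom.noncommCoprod (zpowers B0).subtype Q0.subtype hcomm)
    rw [MonoidHom.noncommCoprod_range, range_subtype, range_subtype, Nat.card_prod, Nat.card_zpowers,
      hB0] at h1
    exact h1
  have hT36 : Nat.card T ∣ 36 := by
    rw [← H42.J4.card_cent_three hB0]
    exact Subgroup.card_dvd_of_le hTC
  have hTodd : Odd (Nat.card T) := ((show Odd 3 by decide).mul hQ0odd).of_dvd_nat hdvd
  have hT9 : Nat.card T ∣ 9 := by
    have h4 : (Nat.card T).Coprime 4 := (hTodd.coprime_two_left.pow_left 2).symm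
    exact h4.dvd_of_dvd_mul_left (show Nat.card T ∣ 4 * 9 from hT36)
  have hT9' : Nat.card T = 9 := by
    obtain ⟨i, hi, hTi⟩ := (Nat.dvd_prime_pow Nat.prime_three).1 (show Nat.card T ∣ 3 ^ 2 from hT9)
    have h3 : 3 ≤ Nat.card T := by
      rw [← hB0, ← Nat.card_zpowers]
      exact Subgroup.card_le_of_le le_sup_left
    interval_cases i
    · omega
    · exfalso
      refine hle ?_
      rw [pow_one] at hTi
      rw [show zpowers B0 = T from Subgroup.eq_of_le_of_card_ge le_sup_left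
        (by rw [hTi, Nat.card_zpowers, hB0])]
      exact le_sup_right
    · rw [hTi]; rfl
  let S : Sylow 3 ↥Cfsg.Spor.M22 := Sylow.ofCard T (by rw [hT9', H42.J4.fac_three]; rfl)
  have hB0T : B0 ∈ T := mem_sup_left (mem_zpowers B0)
  have hB01 : B0 ≠ 1 := fun h => by rw [h, orderOf_one] at hB0; omega
  have h9 := H42.J4.card_normalizer_inf_cent (P := S) (a := B0) hB0T hB01
  have hwN : w ∈ normalizer (T : Set ↥Cfsg.Spor.M22) ⊓ centralizer ({B0} : Set ↥Cfsg.Spor.M22) := by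
    refine ⟨Subgroup.mem_normalizer_fintype fun y hy => ?_, mem_centralizer_singleton_iff.2 hwB⟩
    have hle' : T.map (MulAut.conj w).toMonoidHom ≤ T := by
      rw [hT, Subgroup.map_sup]
      refine sup_le_sup ?_ ?_
      · rw [MonoidHom.map_zpowers, zpowers_le]
        show w * B0 * w⁻¹ ∈ zpowers B0
        rw [hwB, mul_inv_cancel_right]
        exact mem_zpowers B0
      · rintro _ ⟨y, hy, rfl⟩
        exact hwQ y hy
    exact hle' ⟨y, hy, rfl⟩
  have hw1 : w = 1 := by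
    refine eq_one_of_sq_of_odd hw2 ((show Odd 9 by decide).of_dvd_nat ?_)
    rw [← h9]
    exact Subgroup.orderOf_dvd_natCard _ hwN
  intro y _
  rw [hw1, one_mul, mul_one]

/-- The centraliser of `P` is contained in `H`, its part in `H` is perfect, and an element over the base
is conjugate to `z`. -/
theorem exists_local [IsSimpleGroup G] (hG : ¬ IsMulCommutative G) (hJ : Cfsg.IsOfJankoFourTypeWith z P) :
    centralizer (P : Set G) ≤ centralizer ({z} : Set G) ∧
    ∃ u ∈ centralizer ({z} : Set G) ⊓ centralizer (P : Set G), u ∉ zpowers z ∧ IsConj u z := by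
  classical
  haveI : Fact (Nat.Prime 3) := ⟨Nat.prime_three⟩
  set X : Subgroup G := centralizer (P : Set G) with hX
  set H : Subgroup G := centralizer ({z} : Set G) with hH
  set C : Subgroup G := H ⊓ X with hC
  obtain ⟨N, e, o⟩ := outer_of_type hJ
  set d := data_of_type hJ
  obtain ⟨R⟩ := exists_real o d
  obtain ⟨u₀, hu₀⟩ := R.exists_base
  obtain ⟨u, huu, g, hgN, hgu, hz1V, hz1E⟩ := R.exists_base_fusion hG hJ o hu₀
  obtain ⟨a, haP, ha, hPa, hza, -, -⟩ := H42.J4.exists_gen hJ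
  have hzC : z ∈ C := H42.J4.z_mem_cent hJ
  have hPC : P ≤ C := H42.J4.p_le_cent hJ
  have hzz : z * z = 1 := d.L.zz
  have hzH : z ∈ H := mem_centralizer_singleton_iff.2 rfl
  have hu0C : u₀ ∈ C := ⟨hu₀.mem.1, R.comm_P hu₀.comm⟩
  have huC : u ∈ C := by
    rcases huu with rfl | rfl
    · exact hu0C
    · exact mul_mem hu0C hzC
  have huE : u ∉ Cfsg.twoCoreOfCentralizer z := by
    rcases huu with rfl | rfl
    · exact hu₀.not_mem_E
    · exact fun h => hu₀.not_mem_E (by simpa using mul_mem h (inv_mem d.L.z_mem))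
  have huz : u ∉ zpowers z := fun h => huE (zpowers_le.2 d.L.z_mem h)
  have hu2 : u * u = 1 := R.V0_sq (by
    rcases huu with rfl | rfl
    · exact hu₀.mem
    · exact mul_mem hu₀.mem (R.sHat_le_V0 R.z_mem_sHat))
  have huz' : Commute u z := mem_centralizer_singleton_iff.1 huC.1
  refine ⟨?_, u, huC, huz, isConj_iff.2 ⟨g, hgu⟩⟩
  -- the odd core of the centralizer of `P`
  set W0 := Cfsg.pPrimeCore 2 ↥X
  haveI hW0n : W0.Normal := H1.pPrimeCore_normal' 2 ↥X
  set W : Subgroup G := W0.map X.subtype with hW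
  have hWX : W ≤ X := map_subtype_le _
  have hWodd : Odd (Nat.card W) := by
    rw [hW, card_map_of_injective X.subtype_injective, Nat.odd_iff]
    exact Nat.two_dvd_ne_zero.1 fun h => absurd (Nat.dvd_gcd h dvd_rfl)
      (by rw [H1.card_pPrimeCore_coprime 2 ↥X]; norm_num)
  have hWn : ∀ x ∈ X, ∀ w ∈ W, x * w * x⁻¹ ∈ W := by
    rintro x hx _ ⟨w, hw, rfl⟩
    exact ⟨⟨x, hx⟩ * w * ⟨x, hx⟩⁻¹, hW0n.conj_mem w hw _, rfl⟩
  have hzX : z ∈ X := hzC.2
  have hiso : Cfsg.IsIsolatedInvolution (⟨z, hzX⟩ : ↥X) := by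
    refine ⟨by rw [Subgroup.orderOf_mk]; exact d.L.hz, fun x hx => Subtype.ext ?_⟩
    refine R.isolated o x.2 (mem_centralizer_singleton_iff.2 ?_)
    exact (congrArg Subtype.val hx.eq).symm
  have hZ := H85.zStar hiso
  have hdec : ∀ x ∈ X, ∃ t ∈ W, ∃ c ∈ C, x = t * c := by
    intro x hx
    set w := z * x * z * x⁻¹ with hw
    have hwW : w ∈ W := by
      refine ⟨_, hZ ⟨x, hx⟩, ?_⟩
      show z * x * z⁻¹ * x⁻¹ = w
      rw [inv_eq_of_mul_eq_one_right hzz]
    obtain ⟨k, hk⟩ := exists_pow_commute hzz (show z * x * z = w * x by rw [hw, inv_mul_cancel_right])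
      (orderOf_odd_of_mem hWodd hwW) (pow_orderOf_eq_one w)
    exact ⟨(w ^ k)⁻¹, inv_mem (pow_mem hwW k), w ^ k * x,
      ⟨mem_centralizer_singleton_iff.2 hk.symm, mul_mem (hWX (pow_mem hwW k)) hx⟩,
      by rw [inv_mul_cancel_left]⟩
  -- the core meets `H` in `P`
  obtain ⟨π, hπ, hπk⟩ := H42.J4.exists_hom_cent hJ
  have hπker : ∀ x : ↥C, π x = 1 ↔ (x : G) ∈ zpowers z ⊔ P := fun x => by
    rw [← MonoidHom.mem_ker, hπk, mem_subgroupOf]
  haveI := H42.J4.simple22
  have hPW : ∀ w ∈ W, w ∈ H → w ∈ P := by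
    set A : Subgroup ↥C := W.subgroupOf C
    haveI : A.Normal := ⟨fun x hx c => mem_subgroupOf.2 (hWn c c.2.2 x (mem_subgroupOf.1 hx))⟩
    have hAodd : Odd (Nat.card A) := by
      refine hWodd.of_dvd_nat ?_
      rw [← card_map_of_injective C.subtype_injective (K := A)]
      exact Subgroup.card_dvd_of_le (Subgroup.subgroupOf_map_subtype W C ▸ inf_le_left)
    exact fun w hw hwH => odd_normal_le hJ A hAodd (w := ⟨w, hwH, hWX hw⟩) (mem_subgroupOf.2 hw)
  have hPW' : P ≤ W := by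
    intro p hp
    haveI : (P.subgroupOf X).Normal := ⟨fun q hq x => mem_subgroupOf.2 (by
      show (x : G) * q * (x : G)⁻¹ ∈ P
      rw [← (mem_centralizer_iff.1 x.2 q (mem_subgroupOf.1 hq)), mul_inv_cancel_right]
      exact mem_subgroupOf.1 hq)⟩
    refine ⟨⟨p, (hPC hp).2⟩, H1.le_pPrimeCore (N := P.subgroupOf X) ?_ (mem_subgroupOf.2 hp), rfl⟩
    rw [Nat.card_congr (subgroupOfEquivOfLe (fun q hq => (hPC hq).2)).toEquiv, d.cardP]
    norm_num
  have hPX : ∀ q ∈ P, ∀ x ∈ X, q * x = x * q := fun q hq x hx => mem_centralizer_iff.1 hx q hq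
  -- the conjugating element into the centralizer of an element of order three
  have hgaH : g * a * g⁻¹ ∈ H := by
    refine mem_centralizer_singleton_iff.2 ?_
    rw [← hgu]
    calc g * a * g⁻¹ * (g * u * g⁻¹) = g * (a * u) * g⁻¹ := by group
      _ = g * (u * a) * g⁻¹ := by rw [mem_centralizer_iff.1 huC.2 a haP]
      _ = _ := by group
  have ha3 : a ^ 3 = 1 := by rw [← ha, pow_orderOf_eq_one]
  obtain ⟨h, hh, hbC⟩ := H42.J4.exists_conj_mem_cent hJ hgaH (by
    rw [conj_pow, ha3, mul_one, mul_inv_cancel])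
  set γ : G := h * g with hγ
  set b : G := γ * a * γ⁻¹ with hb
  have hbC' : b ∈ C := by
    rw [hb, hγ, show h * g * a * (h * g)⁻¹ = h * (g * a * g⁻¹) * h⁻¹ by group]; exact hbC
  have hγu : γ * u * γ⁻¹ = z := by
    rw [hγ, show h * g * u * (h * g)⁻¹ = h * (g * u * g⁻¹) * h⁻¹ by group, hgu]
    exact Real.conj_z hh
  set z₁ : G := γ * z * γ⁻¹ with hz₁
  have hz₁' : z₁ = h * (g * z * g⁻¹) * h⁻¹ := by rw [hz₁, hγ]; group
  have hz₁H : z₁ ∈ H := hz₁' ▸ mul_mem (mul_mem hh hz1V.1) (inv_mem hh)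
  have hz₁E : z₁ ∉ Cfsg.twoCoreOfCentralizer z := fun h' => hz1E ((Real.conj_E d hh).1 (hz₁' ▸ h'))
  have hz₁2 : z₁ * z₁ = 1 := Real.exists_involution_conj hzz
  have hz₁b : z₁ * b = b * z₁ := by
    calc z₁ * b = γ * (z * a) * γ⁻¹ := by rw [hz₁, hb]; group
      _ = γ * (a * z) * γ⁻¹ := by rw [hza.eq]
      _ = b * z₁ := by rw [hz₁, hb]; group
  have hb3 : b ^ 3 = 1 := by rw [hb, conj_pow, ha3, mul_one, mul_inv_cancel]
  have hbP : b ∉ P := by
    intro hbP
    have hγX : ∀ x ∈ X, γ * x * γ⁻¹ ∈ X := by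
      intro x hx
      refine mem_centralizer_iff.2 fun p hp => ?_
      have hb1 : b ≠ 1 := fun h' => by
        rw [hb, conj_eq_one_iff] at h'
        rw [h', orderOf_one] at ha
        omega
      have hPb : P = zpowers b := (eq_of_le_of_card_ge (zpowers_le.2 hbP) (by
        rw [d.cardP, Nat.card_zpowers, orderOf_eq_prime hb3 hb1])).symm
      obtain ⟨i, rfl⟩ := mem_zpowers_iff.1 (hPb ▸ hp)
      rw [hb, conj_zpow]
      calc γ * a ^ i * γ⁻¹ * (γ * x * γ⁻¹) = γ * (a ^ i * x) * γ⁻¹ := by group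
        _ = γ * (x * a ^ i) * γ⁻¹ := by rw [hPX _ (zpow_mem haP i) x hx]
        _ = _ := by group
    have hisoC : Cfsg.IsIsolatedInvolution (⟨u, huC⟩ : ↥C) := by
      have hu2' : orderOf u = 2 := orderOf_eq_prime (by rw [sq, hu2]) fun h' => huz (h' ▸ one_mem _)
      refine ⟨by rw [Subgroup.orderOf_mk]; exact hu2', fun c hc => Subtype.ext ?_⟩
      have hc' : u * ((c : G) * u * (c : G)⁻¹) = (c : G) * u * (c : G)⁻¹ * u := congrArg Subtype.val hc.eq
      show (c : G) * u * (c : G)⁻¹ = u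
      have hi := R.isolated o (hγX c c.2.2) (x := γ * c * γ⁻¹) (mem_centralizer_singleton_iff.2 ?_)
      · rw [← hγu] at hi
        have : γ * ((c : G) * u * (c : G)⁻¹) * γ⁻¹ = γ * u * γ⁻¹ := by rw [← hi]; group
        exact mul_left_cancel (mul_right_cancel this)
      · rw [← hγu]
        calc γ * c * γ⁻¹ * (γ * u * γ⁻¹) * (γ * c * γ⁻¹)⁻¹ * (γ * u * γ⁻¹)
            = γ * ((c : G) * u * (c : G)⁻¹ * u) * γ⁻¹ := by group
          _ = γ * (u * ((c : G) * u * (c : G)⁻¹)) * γ⁻¹ := by rw [hc']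
          _ = _ := by group
    have hZC := H85.zStar hisoC
    haveI : (Cfsg.pPrimeCore 2 ↥C).Normal := H1.pPrimeCore_normal' 2 ↥C
    have hodd : Odd (Nat.card (Cfsg.pPrimeCore 2 ↥C)) := by
      rw [Nat.odd_iff]
      exact Nat.two_dvd_ne_zero.1 fun h' => absurd (Nat.dvd_gcd h' dvd_rfl)
        (by rw [H1.card_pPrimeCore_coprime 2 ↥C]; norm_num)
    have hcen : π ⟨u, huC⟩ ∈ center _ := mem_center_iff.2 fun q => by
      obtain ⟨c, rfl⟩ := hπ q
      have h1 : π (⟨u, huC⟩ * c * (⟨u, huC⟩ : ↥C)⁻¹ * c⁻¹) = 1 :=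
        (hπker _).2 (mem_sup_right (odd_normal_le hJ _ hodd (hZC c)))
      rw [map_mul, map_mul, map_mul, map_inv, map_inv, mul_inv_eq_one, mul_inv_eq_iff_eq_mul] at h1
      exact h1.symm
    rw [H42.J4.center22, mem_bot] at hcen
    have h3 := H42.J4.cube_mem_z hJ ((hπker _).1 hcen)
    rw [pow_succ, sq, hu2, one_mul] at h3
    exact huz h3
  -- the odd group centralised by `u` is centralised by `z`
  set W1 : Subgroup G := (W ⊓ centralizer ({u} : Set G)).map (MulAut.conj γ).toMonoidHom with hW1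
  have hW1odd : Odd (Nat.card W1) := by
    rw [hW1, card_map_of_injective (MulAut.conj γ).injective]
    exact hWodd.of_dvd_nat (Subgroup.card_dvd_of_le inf_le_left)
  have hW1H : W1 ≤ H := by
    rintro _ ⟨w, hw, rfl⟩
    refine mem_centralizer_singleton_iff.2 ?_
    show γ * w * γ⁻¹ * z = z * (γ * w * γ⁻¹)
    rw [← hγu]
    calc γ * w * γ⁻¹ * (γ * u * γ⁻¹) = γ * (w * u) * γ⁻¹ := by group
      _ = γ * (u * w) * γ⁻¹ := by rw [mem_centralizer_singleton_iff.1 hw.2]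
      _ = _ := by group
  have hzu : z ∈ centralizer ({u} : Set G) := mem_centralizer_singleton_iff.2 huz'.eq.symm
  have hzWu : ∀ w ∈ W ⊓ centralizer ({u} : Set G), z * w * z⁻¹ ∈ W ⊓ centralizer ({u} : Set G) :=
    fun w hw => ⟨hWn z hzX w hw.1, show z * w * z⁻¹ ∈ centralizer ({u} : Set G) from
      mul_mem (mul_mem hzu hw.2) (inv_mem hzu)⟩
  have hW1z : ∀ w ∈ W1, z₁ * w * z₁⁻¹ ∈ W1 := by
    rintro _ ⟨w, hw, rfl⟩
    refine ⟨z * w * z⁻¹, hzWu w hw, ?_⟩
    show γ * (z * w * z⁻¹) * γ⁻¹ = z₁ * (γ * w * γ⁻¹) * z₁⁻¹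
    rw [hz₁]; group
  have hW1b : ∀ w ∈ W1, w * b = b * w := by
    rintro _ ⟨w, hw, rfl⟩
    show γ * w * γ⁻¹ * b = b * (γ * w * γ⁻¹)
    rw [hb]
    calc γ * w * γ⁻¹ * (γ * a * γ⁻¹) = γ * (w * a) * γ⁻¹ := by group
      _ = γ * (a * w) * γ⁻¹ := by rw [hPX a haP w (hWX hw.1)]
      _ = _ := by group
  have hmain : ∀ w (hw : w ∈ W1), z₁ * w = w * z₁ := by
    intro w hw
    set t := z₁ * w * z₁⁻¹ * w⁻¹ with ht
    have htW : t ∈ W1 := mul_mem (hW1z w hw) (inv_mem hw)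
    have htH : t ∈ H := hW1H htW
    have htN : t ∈ N := by
      refine (o.e_one_iff d (h := ⟨t, htH⟩)).1 ?_
      rw [show (⟨t, htH⟩ : ↥H) = ⟨z₁, hz₁H⟩ * ⟨w, hW1H hw⟩ * ⟨z₁, hz₁H⟩⁻¹ * ⟨w, hW1H hw⟩⁻¹ from rfl,
        map_mul, map_mul, map_mul, map_inv, map_inv, mul_inv_eq_one, mul_inv_eq_iff_eq_mul]
      refine commute_in_aut (e ⟨b, hbC'.1⟩) (e ⟨z₁, hz₁H⟩) (W1.subgroupOf H |>.map e) ?_ ?_ ?_ ?_ ?_ ?_
        ?_ ?_ _ ⟨⟨w, hW1H hw⟩, mem_subgroupOf.2 hw, rfl⟩
      · rw [← map_pow, show (⟨b, hbC'.1⟩ : ↥H) ^ 3 = 1 from Subtype.ext hb3, map_one]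
      · intro h'
        have hbN : b ∈ N := (o.e_one_iff d (h := ⟨b, hbC'.1⟩)).1 h'
        obtain ⟨x, hx, q, hq, hbxq⟩ := (o.mem_N_iff d).1 hbN
        have hxP : x ∈ centralizer (P : Set G) := by
          rw [show x = b * q⁻¹ by rw [hbxq, mul_inv_cancel_right]]
          exact mul_mem hbC'.2 (inv_mem ((hPC hq).2))
        rcases d.fixP x hx (fun p hp => mem_centralizer_iff.1 hxP p hp) with hx1 | hx1 <;>
          rw [hx1] at hbxq
        · exact hbP (by rw [hbxq, one_mul]; exact hq)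
        · have hq3 : q ^ 3 = 1 := by
            rw [← orderOf_dvd_iff_pow_eq_one, ← d.cardP]; exact P.orderOf_dvd_natCard hq
          have hzq : Commute z q := (mem_centralizer_singleton_iff.1 (hPC hq).1).symm
          rw [hbxq, hzq.mul_pow, hq3, mul_one, pow_succ, sq, hzz, one_mul] at hb3
          exact d.L.z_ne_one hb3
      · rw [← map_mul, show (⟨z₁, hz₁H⟩ : ↥H) * ⟨z₁, hz₁H⟩ = 1 from Subtype.ext hz₁2, map_one]
      · obtain ⟨hH1, hA1, -⟩ := id hz1V
        obtain ⟨c, hc, hce⟩ := R.Q_le_Y (R.A0_le_Q hA1)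
        have hN1 : e (⟨g * z * g⁻¹, hH1⟩ * c⁻¹) = 1 := (o.e_one_iff d).2 (o.hEN ((d.mem_ker_iff).1 (by
          rw [map_mul, map_inv, hce, mul_inv_cancel])))
        rw [map_mul, map_inv, mul_inv_eq_one] at hN1
        obtain ⟨q, hq⟩ : e c ∈ Cfsg.Inn ↥Cfsg.Spor.M22 := by
          rw [← o.map_cP d]; exact ⟨c, hc, rfl⟩
        refine ⟨e ⟨h, hh⟩ q, ?_⟩
        rw [show (⟨z₁, hz₁H⟩ : ↥H) = ⟨h, hh⟩ * ⟨g * z * g⁻¹, hH1⟩ * ⟨h, hh⟩⁻¹ from Subtype.ext hz₁',
          map_mul, map_mul, map_inv, hN1, ← hq]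
        ext y
        simp
      · rw [Commute, SemiconjBy, ← map_mul, ← map_mul]
        exact congrArg e (Subtype.ext hz₁b.symm)
      · refine hW1odd.of_dvd_nat ((Subgroup.card_map_dvd _ e).trans (dvd_of_eq ?_))
        exact Nat.card_congr (subgroupOfEquivOfLe hW1H).toEquiv
      · rintro _ ⟨v, hv, rfl⟩
        rw [Commute, SemiconjBy, ← map_mul, ← map_mul]
        exact congrArg e (Subtype.ext (hW1b v (mem_subgroupOf.1 hv)).symm)
      · rintro _ ⟨v, hv, rfl⟩
        exact ⟨⟨z₁, hz₁H⟩ * v * ⟨z₁, hz₁H⟩⁻¹, mem_subgroupOf.2 (hW1z v (mem_subgroupOf.1 hv)),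
          by rw [map_mul, map_mul, map_inv]⟩
    have hinv : z₁ * t * z₁⁻¹ = t⁻¹ := by
      have hzi : z₁⁻¹ = z₁ := inv_eq_of_mul_eq_one_right hz₁2
      rw [ht]
      calc z₁ * (z₁ * w * z₁⁻¹ * w⁻¹) * z₁⁻¹ = (z₁ * z₁) * w * z₁⁻¹ * w⁻¹ * z₁⁻¹ := by group
        _ = w * z₁ * w⁻¹ * z₁⁻¹ := by rw [hz₁2, hzi, one_mul]
        _ = _ := by group
    have ht1 : t = 1 := by
      obtain ⟨hH1, hA1, -⟩ := id hz1V
      set q : ↥H := ⟨h, hh⟩⁻¹ * ⟨t, htH⟩ * ⟨h, hh⟩ with hq
      have hqN : (q : G) ∈ N := by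
        haveI : (N.subgroupOf H).Normal := o.ker ▸ inferInstance
        exact mem_subgroupOf.1 ((inferInstance : (N.subgroupOf H).Normal).conj_mem' ⟨t, htH⟩
          (mem_subgroupOf.2 htN) ⟨h, hh⟩)
      obtain ⟨x, hx, p, hp, hxp⟩ := (o.mem_N_iff d).1 hqN
      have hρq : d.ρ q = d.ρ ⟨p, d.hPH hp⟩ := by
        rw [show q = ⟨x, d.L.le_H hx⟩ * ⟨p, d.hPH hp⟩ from Subtype.ext hxp, map_mul,
          (d.mem_ker_iff (h := ⟨x, d.L.le_H hx⟩)).2 hx, one_mul]
      have hcom : Commute (d.ρ ⟨g * z * g⁻¹, hH1⟩) (d.ρ q) := by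
        rw [hρq]
        have hc1 := (R.Y_comm (R.Q_le_Y (R.A0_le_Q hA1))).symm
        rcases R.g3_gen hp with h1 | h1 | h1
        · rw [show (⟨p, d.hPH hp⟩ : ↥H) = 1 from Subtype.ext h1, map_one]; exact Commute.one_right _
        · rw [show (⟨p, d.hPH hp⟩ : ↥H) = R.g 3 from Subtype.ext h1]; exact hc1
        · rw [show (⟨p, d.hPH hp⟩ : ↥H) = R.g 3 * R.g 3 from Subtype.ext h1, map_mul]
          exact hc1.mul_right hc1
      have hinvq : d.ρ ⟨g * z * g⁻¹, hH1⟩ * d.ρ q * (d.ρ ⟨g * z * g⁻¹, hH1⟩)⁻¹ = (d.ρ q)⁻¹ := by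
        rw [← map_inv, ← map_inv, ← map_mul, ← map_mul]
        refine congrArg d.ρ (Subtype.ext ?_)
        show g * z * g⁻¹ * (h⁻¹ * t * h) * (g * z * g⁻¹)⁻¹ = (h⁻¹ * t * h)⁻¹
        calc g * z * g⁻¹ * (h⁻¹ * t * h) * (g * z * g⁻¹)⁻¹ = h⁻¹ * (z₁ * t * z₁⁻¹) * h := by
              rw [hz₁']; group
          _ = _ := by rw [hinv]; group
      rw [hcom.eq, mul_inv_cancel_right] at hinvq
      have hρ1 : d.ρ q = 1 := by
        refine eq_one_of_sq_of_odd (eq_inv_iff_mul_eq_one.1 hinvq) ?_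
        refine (orderOf_odd_of_mem hW1odd htW).of_dvd_nat ((orderOf_map_dvd d.ρ q).trans (dvd_of_eq ?_))
        rw [← Subgroup.orderOf_coe]
        exact (SemiconjBy.orderOf_eq (a := h) (show SemiconjBy h (h⁻¹ * t * h) t by
          show h * (h⁻¹ * t * h) = t * h
          group)).trans rfl
      have hqE : (q : G) ∈ Cfsg.twoCoreOfCentralizer z := (d.mem_ker_iff).1 hρ1
      obtain ⟨k, hk⟩ := d.L.isPGroup_E ⟨_, hqE⟩
      have hk' : (h⁻¹ * t * h) ^ 2 ^ k = 1 := congrArg Subtype.val hk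
      rw [show h⁻¹ * t * h = h⁻¹ * t * h⁻¹⁻¹ by rw [inv_inv], conj_pow, conj_eq_one_iff] at hk'
      exact orderOf_eq_one_iff.1 (Nat.eq_one_of_dvd_coprimes
        ((orderOf_odd_of_mem hW1odd htW).coprime_two_left.pow_left k)
        (orderOf_dvd_of_pow_eq_one hk') dvd_rfl)
    rw [ht, mul_inv_eq_one, mul_inv_eq_iff_eq_mul] at ht1
    exact ht1
  have hCWu : ∀ w ∈ W, u * w = w * u → w ∈ P := by
    intro w hw hwu
    have h1 := hmain _ ⟨w, ⟨hw, mem_centralizer_singleton_iff.2 hwu.symm⟩, rfl⟩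
    refine hPW w hw (mem_centralizer_singleton_iff.2 ?_)
    change γ * z * γ⁻¹ * (γ * w * γ⁻¹) = γ * w * γ⁻¹ * (γ * z * γ⁻¹) at h1
    calc w * z = γ⁻¹ * (γ * w * γ⁻¹ * (γ * z * γ⁻¹)) * γ := by group
      _ = γ⁻¹ * (γ * z * γ⁻¹ * (γ * w * γ⁻¹)) * γ := by rw [h1]
      _ = z * w := by group
  -- elements of `C_H(b)` come from `C`
  have hK : ∀ x ∈ H, x * b = b * x → γ⁻¹ * x * γ ∈ C := by
    intro x hxH hxb
    set y := γ⁻¹ * x * γ with hy
    have hya : y * a = a * y := by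
      calc y * a = γ⁻¹ * (x * b) * γ := by rw [hy, hb]; group
        _ = γ⁻¹ * (b * x) * γ := by rw [hxb]
        _ = _ := by rw [hy, hb]; group
    have hyX : y ∈ X := mem_centralizer_iff.2 fun p hp => by
      obtain ⟨i, rfl⟩ := mem_zpowers_iff.1 (hPa ▸ hp)
      exact ((show Commute y a from hya).zpow_right i).eq.symm
    have hyu : u * y = y * u := by
      calc u * y = γ⁻¹ * (γ * u * γ⁻¹ * x) * γ := by rw [hy]; group
        _ = γ⁻¹ * (x * (γ * u * γ⁻¹)) * γ := by rw [hγu, mem_centralizer_singleton_iff.1 hxH]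
        _ = _ := by rw [hy]; group
    obtain ⟨t, ht, c, hc, hyc⟩ := hdec y hyX
    set c' := u * c * u⁻¹ with hc'
    have hc'C : c' ∈ C := mul_mem (mul_mem huC hc) (inv_mem huC)
    have hp : c * c'⁻¹ ∈ P := by
      refine hPW _ ?_ (mul_mem hc (inv_mem hc'C)).1
      rw [show c * c'⁻¹ = t⁻¹ * (u * t * u⁻¹) by
        rw [hc', show c = t⁻¹ * y by rw [hyc, inv_mul_cancel_left]]
        calc t⁻¹ * y * (u * (t⁻¹ * y) * u⁻¹)⁻¹ = t⁻¹ * (y * u) * (y⁻¹ * t * u⁻¹) := by group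
          _ = t⁻¹ * (u * y) * (y⁻¹ * t * u⁻¹) := by rw [hyu]
          _ = _ := by group]
      exact mul_mem (inv_mem ht) (hWn u huC.2 t ht)
    have hcp : c * c'⁻¹ = 1 := by
      refine eq_one_of_sq_of_odd ?_ ((show Odd 3 by decide).of_dvd_nat
        (d.cardP ▸ P.orderOf_dvd_natCard hp))
      have hcomm : u * (c * c'⁻¹) * u⁻¹ = c * c'⁻¹ := by
        rw [← hPX _ hp u huC.2, mul_inv_cancel_right]
      have hrev : u * (c * c'⁻¹) * u⁻¹ = (c * c'⁻¹)⁻¹ := by
        rw [hc']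
        calc u * (c * (u * c * u⁻¹)⁻¹) * u⁻¹ = u * c * u * c⁻¹ * (u * u)⁻¹ := by group
          _ = u * c * u⁻¹ * c⁻¹ := by rw [hu2, inv_eq_of_mul_eq_one_right hu2, inv_one, mul_one]
          _ = _ := by group
      exact eq_inv_iff_mul_eq_one.1 (hcomm.symm.trans hrev)
    have hcu : u * c = c * u := (mul_inv_eq_iff_eq_mul.1 (mul_inv_eq_one.1 hcp).symm)
    have htu : u * t = t * u := by
      have h1 : t = y * c⁻¹ := by rw [hyc, mul_inv_cancel_right]
      rw [h1]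
      exact ((show Commute u y from hyu).mul_right (show Commute u c from hcu).inv_right).eq
    rw [hyc]
    exact mul_mem (hPC (hCWu t ht htu)) hc
  -- perfectness
  have hz₁z : z₁ ∉ zpowers z := fun h' => hz₁E (zpowers_le.2 d.L.z_mem h')
  have hcen : ∀ x ∈ H, x * b = b * x → z₁ * x = x * z₁ := by
    intro x hxH hxb
    have h1 := mem_centralizer_singleton_iff.1 (hK x hxH hxb).1
    calc z₁ * x = γ * (z * (γ⁻¹ * x * γ)) * γ⁻¹ := by rw [hz₁]; group
      _ = γ * (γ⁻¹ * x * γ * z) * γ⁻¹ := by rw [h1]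
      _ = x * z₁ := by rw [hz₁]; group
  have hm := H42.J4.mem_commutator_cent hJ hbC' hb3 hbP hz₁H hz₁b hcen hz₁2 hz₁z
  have hzcomm : z ∈ ⁅C, C⁆ := by
    have hle : (H ⊓ centralizer ({b} : Set G)).map (MulAut.conj γ⁻¹).toMonoidHom ≤ C := by
      rintro _ ⟨x, hx, rfl⟩
      have := hK x hx.1 (mem_centralizer_singleton_iff.1 hx.2)
      show γ⁻¹ * x * γ⁻¹⁻¹ ∈ C
      rwa [inv_inv]
    have h1 := mem_map_of_mem (MulAut.conj γ⁻¹).toMonoidHom hm
    rw [map_commutator] at h1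
    have h2 := commutator_mono hle hle h1
    have e1 : (MulAut.conj γ⁻¹).toMonoidHom z₁ = z := by
      show γ⁻¹ * z₁ * γ⁻¹⁻¹ = z
      rw [hz₁]; group
    rwa [e1] at h2
  -- the core is centralised by `z * u`, hence by `z`
  have hinvz := inverts_mod hWodd (fun q hq w hw => hPX q hq w (hWX hw)) hzz
    (fun q hq => (mem_centralizer_singleton_iff.1 (hPC hq).1).symm)
    (fun w hw => by simpa [inv_eq_of_mul_eq_one_right hzz] using hWn z hzX w hw)
    (fun w hw hc => hPW w hw (mem_centralizer_singleton_iff.2 hc.symm))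
  have hinvu := inverts_mod hWodd (fun q hq w hw => hPX q hq w (hWX hw)) hu2
    (fun q hq => (hPX q hq u huC.2).symm)
    (fun w hw => by simpa [inv_eq_of_mul_eq_one_right hu2] using hWn u huC.2 w hw) hCWu
  have huzW : ∀ w ∈ W, z * u * w = w * (z * u) := by
    intro w hw
    obtain ⟨p₁, hp₁, e₁⟩ := hinvu w hw
    obtain ⟨p₂, hp₂, e₂⟩ := hinvz w hw
    have hp₁z : z * p₁ = p₁ * z := (mem_centralizer_singleton_iff.1 (hPC hp₁).1).symm
    have hp₁w : p₁ * w = w * p₁ := hPX p₁ hp₁ w (hWX hw)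
    have hr : (z * u) * w * (z * u)⁻¹ = w * (p₂⁻¹ * p₁) := by
      calc (z * u) * w * (z * u)⁻¹ = z * (u * w * u) * z := by
            rw [mul_inv_rev, inv_eq_of_mul_eq_one_right hu2, inv_eq_of_mul_eq_one_right hzz]; group
        _ = z * w⁻¹ * (p₁ * z) := by rw [e₁]; group
        _ = z * w⁻¹ * z⁻¹ * p₁ := by rw [← hp₁z, inv_eq_of_mul_eq_one_right hzz]; group
        _ = (z * w * z)⁻¹ * p₁ := by rw [mul_inv_rev, mul_inv_rev, inv_eq_of_mul_eq_one_right hzz]; group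
        _ = p₂⁻¹ * w * p₁ := by rw [e₂, mul_inv_rev, inv_inv]
        _ = w * (p₂⁻¹ * p₁) := by rw [hPX _ (inv_mem hp₂) w (hWX hw), mul_assoc]
    set r := p₂⁻¹ * p₁
    have hrP : r ∈ P := mul_mem (inv_mem hp₂) hp₁
    have hs : z * u * (z * u) = 1 := by
      rw [mul_assoc, ← mul_assoc u z u, huz'.eq, mul_assoc z u u, hu2, mul_one, hzz]
    have hrc : (z * u) * r * (z * u)⁻¹ = r := by
      rw [← hPX r hrP (z * u) (mul_mem hzX huC.2), mul_inv_cancel_right]
    have h1 : w = w * r * r := by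
      calc w = (z * u * (z * u)) * w * (z * u * (z * u))⁻¹ := by rw [hs]; group
        _ = (z * u) * ((z * u) * w * (z * u)⁻¹) * (z * u)⁻¹ := by group
        _ = (z * u) * (w * r) * (z * u)⁻¹ := by rw [hr]
        _ = ((z * u) * w * (z * u)⁻¹) * ((z * u) * r * (z * u)⁻¹) := by group
        _ = w * r * r := by rw [hr, hrc]
    have hr1 : r = 1 := eq_one_of_sq_of_odd (by rw [mul_assoc, left_eq_mul] at h1; exact h1)
      ((show Odd 3 by decide).of_dvd_nat (d.cardP ▸ P.orderOf_dvd_natCard hrP))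
    rw [hr1, mul_one] at hr
    exact mul_inv_eq_iff_eq_mul.1 hr
  set K0 : Subgroup ↥C := (centralizer (W : Set G)).subgroupOf C
  haveI hK0n : K0.Normal := ⟨fun k hk c => mem_subgroupOf.2 (mem_centralizer_iff.2 fun w hw => by
    have hcw : (c : G)⁻¹ * w * c ∈ W := by simpa using hWn _ (inv_mem c.2.2) w hw
    have h1 := mem_centralizer_iff.1 (mem_subgroupOf.1 hk) _ hcw
    show w * ((c : G) * k * (c : G)⁻¹) = (c : G) * k * (c : G)⁻¹ * w
    calc w * ((c : G) * k * (c : G)⁻¹) = c * ((c : G)⁻¹ * w * c * k) * (c : G)⁻¹ := by group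
      _ = c * (k * ((c : G)⁻¹ * w * c)) * (c : G)⁻¹ := by rw [h1]
      _ = _ := by group)⟩
  have htop : K0.map π = ⊤ := by
    refine ((inferInstance : K0.Normal).map π hπ).eq_bot_or_eq_top.resolve_left fun hbot => ?_
    have h1 : π ⟨z * u, mul_mem hzC huC⟩ = 1 := by
      have : π ⟨z * u, mul_mem hzC huC⟩ ∈ K0.map π := ⟨_, mem_subgroupOf.2 (mem_centralizer_iff.2
        fun w hw => (huzW w hw).symm), rfl⟩
      rwa [hbot, mem_bot] at this
    have hk := (hπker _).1 h1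
    have hu' : u ∈ zpowers z ⊔ P := by
      have := mul_mem (mem_sup_left (T := P) (mem_zpowers z)) hk
      rwa [← mul_assoc, hzz, one_mul] at this
    have h3 := H42.J4.cube_mem_z hJ hu'
    rw [pow_succ, sq, hu2, one_mul] at h3
    exact huz h3
  have hzW : ∀ w ∈ W, w * z = z * w := by
    have hle : ⁅C, C⁆ ≤ centralizer (W : Set G) := by
      rw [commutator_le]
      intro c hc c' hc'
      have hsplit : ∀ x : ↥C, ∃ k : ↥C, (k : G) ∈ centralizer (W : Set G) ∧ ∀ y : ↥C, Commute (k⁻¹ * x) y := by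
        intro x
        obtain ⟨k, hk, hkx⟩ : π x ∈ K0.map π := by rw [htop]; exact mem_top _
        refine ⟨k, mem_subgroupOf.1 hk, fun y => Subtype.ext ?_⟩
        exact (H42.J4.ker_central hJ ((hπker (k⁻¹ * x)).1 (by rw [map_mul, map_inv, hkx, inv_mul_cancel])) y.2).eq
      obtain ⟨k, hk, hkc⟩ := hsplit ⟨c, hc⟩
      obtain ⟨k', hk', hkc'⟩ := hsplit ⟨c', hc'⟩
      set m := k⁻¹ * ⟨c, hc⟩
      set m' := k'⁻¹ * ⟨c', hc'⟩
      have e1 : (⟨c, hc⟩ : ↥C) = k * m := by rw [mul_inv_cancel_left]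
      have e2 : (⟨c', hc'⟩ : ↥C) = k' * m' := by rw [mul_inv_cancel_left]
      have hm : ∀ y, m * y * m⁻¹ = y := fun y => by rw [(hkc y).eq, mul_inv_cancel_right]
      have hm' : ∀ y, m' * y * m'⁻¹ = y := fun y => by rw [(hkc' y).eq, mul_inv_cancel_right]
      have e3 : (⁅(⟨c, hc⟩ : ↥C), ⟨c', hc'⟩⁆) = ⁅k, k'⁆ := by
        rw [e1, e2, commutatorElement_def, commutatorElement_def]
        calc k * m * (k' * m') * (k * m)⁻¹ * (k' * m')⁻¹
            = k * (m * (k' * (m' * (m⁻¹ * k⁻¹) * m'⁻¹)) * 1) * k'⁻¹ := by group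
          _ = k * (m * (k' * (m⁻¹ * k⁻¹))) * k'⁻¹ := by rw [hm', mul_one]
          _ = k * (m * k' * m⁻¹) * k⁻¹ * k'⁻¹ := by group
          _ = k * k' * k⁻¹ * k'⁻¹ := by rw [hm]
      have e4 := congrArg (fun x : ↥C => (x : G)) e3
      simp only [commutatorElement_def, Subgroup.coe_mul, Subgroup.coe_inv] at e4
      rw [commutatorElement_def, e4]
      exact mul_mem (mul_mem (mul_mem hk hk') (inv_mem hk)) (inv_mem hk')
    exact fun w hw => mem_centralizer_iff.1 (hle hzcomm) w hw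
  intro x hx
  obtain ⟨t, ht, c, hc, rfl⟩ := hdec x hx
  exact mul_mem (hPC (hPW t ht (mem_centralizer_singleton_iff.2 (hzW t ht)))).1 hc.1

end Cfsg.Agent.H69.J4
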