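import Cfsg.Agent.H69.J4.Isolation

/-!
Elements of order three in a group of `J₄` type.
-/

set_option autoImplicit false

namespace Cfsg.Agent.H69.J4

open Subgroup
open scoped commutatorElement

variable {G : Type*} [Group G] [Finite G] [IsSimpleGroup G]
variable {z : G} {P : Subgroup G}

/-- The normalizer of `P` lies in `H`. -/
theorem normalizer_P_le (hG : ¬ IsMulCommutative G) (hJ : Cfsg.IsOfJankoFourTypeWith z P) :
    normalizer (P : Set G) ≤ centralizer ({z} : Set G) := by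
  obtain ⟨hX, -⟩ := exists_local hG hJ
  obtain ⟨hcen, -⟩ := H42.J4.center_cent hJ
  have hzz : z * z = 1 := by rw [← sq, ← hJ.1, pow_orderOf_eq_one]
  have hz1 : z ≠ 1 := fun h => by
    have := hJ.1
    rw [h, orderOf_one] at this
    omega
  intro n hn
  set C := centralizer ({z} : Set G) ⊓ centralizer (P : Set G)
  have hconj : ∀ m ∈ normalizer (P : Set G), ∀ x ∈ centralizer (P : Set G),
      m * x * m⁻¹ ∈ centralizer (P : Set G) := by
    intro m hm x hx
    refine mem_centralizer_iff.2 fun p hp => ?_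
    have h1 : x * (m⁻¹ * p * m) = m⁻¹ * p * m * x := (mem_centralizer_iff.1 hx _
      ((mem_normalizer_iff''.1 hm p).1 hp)).symm
    calc p * (m * x * m⁻¹) = m * (m⁻¹ * p * m * x) * m⁻¹ := by group
      _ = m * (x * (m⁻¹ * p * m)) * m⁻¹ := by rw [h1]
      _ = m * x * m⁻¹ * p := by group
  have hzP : z ∈ centralizer (P : Set G) := (H42.J4.z_mem_cent hJ).2
  have hv : n * z * n⁻¹ ∈ C := ⟨hX (hconj n hn z hzP), hconj n hn z hzP⟩
  have hcv : (⟨_, hv⟩ : ↥C) ∈ center ↥C := mem_center_iff.2 fun c => Subtype.ext (by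
    have h1 : n⁻¹ * c * n * z = z * (n⁻¹ * c * n) :=
      mem_centralizer_singleton_iff.1 (hX (by simpa using hconj n⁻¹ (inv_mem hn) c c.2.2))
    show (c : G) * (n * z * n⁻¹) = n * z * n⁻¹ * c
    calc (c : G) * (n * z * n⁻¹) = n * (n⁻¹ * c * n * z) * n⁻¹ := by group
      _ = n * (z * (n⁻¹ * c * n)) * n⁻¹ := by rw [h1]
      _ = n * z * n⁻¹ * c := by group)
  rw [hcen, mem_subgroupOf] at hcv
  have h3 := H42.J4.cube_mem_z hJ hcv
  have h2 : n * z * n⁻¹ * (n * z * n⁻¹) = 1 := by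
    rw [← MulAut.conj_apply, ← map_mul, hzz, map_one]
  rw [pow_succ, sq, h2, one_mul] at h3
  obtain ⟨i, hi⟩ := mem_zpowers_iff.1 h3
  refine mem_centralizer_singleton_iff.2 ?_
  have key : n * z * n⁻¹ = z := by
    rcases Int.even_or_odd' i with ⟨t, rfl | rfl⟩
    · rw [zpow_mul, zpow_two, hzz, one_zpow, eq_comm, conj_eq_one_iff] at hi
      exact absurd hi hz1
    · rw [zpow_add, zpow_mul, zpow_two, hzz, one_zpow, one_mul, zpow_one] at hi
      exact hi.symm
  exact mul_inv_eq_iff_eq_mul.1 key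

/-- `C_H(P)` is perfect and contains a conjugate of a generator of `P` outside `P`. -/
theorem perfect_and_conj (hG : ¬ IsMulCommutative G) (hJ : Cfsg.IsOfJankoFourTypeWith z P) :
    ⁅centralizer ({z} : Set G) ⊓ centralizer (P : Set G),
        centralizer ({z} : Set G) ⊓ centralizer (P : Set G)⁆ =
      centralizer ({z} : Set G) ⊓ centralizer (P : Set G) ∧
    ∃ b ∈ centralizer ({z} : Set G) ⊓ centralizer (P : Set G), b ∉ P ∧ b ^ 3 = 1 ∧
      ∃ a ∈ P, a ≠ 1 ∧ IsConj a b := by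
  obtain ⟨-, u, hu, huz, hconj⟩ := exists_local hG hJ
  exact H42.J4.of_fusion hJ (normalizer_P_le hG hJ) hu huz hconj

/-- Some Sylow three-subgroup of `G` lies in `C_H(P)`. -/
theorem exists_sylow_cent (hG : ¬ IsMulCommutative G) (hJ : Cfsg.IsOfJankoFourTypeWith z P) :
    ∃ R : Sylow 3 G, (R : Subgroup G) ≤ centralizer ({z} : Set G) ⊓ centralizer (P : Set G) := by
  classical
  haveI : Fact (Nat.Prime 3) := ⟨Nat.prime_three⟩
  set H : Subgroup G := centralizer ({z} : Set G) with hH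
  set C : Subgroup G := H ⊓ centralizer (P : Set G) with hC
  obtain ⟨S⟩ : Nonempty (Sylow 3 C) := inferInstance
  set R₀ : Subgroup G := (S : Subgroup C).map C.subtype with hR₀
  have hR₀C : R₀ ≤ C := map_subtype_le _
  have hR27 : Nat.card R₀ = 27 := by
    rw [card_map_of_injective C.subtype_injective, S.card_eq_multiplicity, H42.J4.card_cent hJ,
      show 6 * 443520 = 27 * 98560 by norm_num, H42.J4.card_three_part (by norm_num)]
  obtain ⟨-, -, -, hNP, -⟩ := H42.J4.of_le_cent hJ hR₀C hR27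
  obtain ⟨Q, hQ⟩ := (S.isPGroup'.map C.subtype).exists_le_sylow
  refine ⟨Q, ?_⟩
  suffices h : (Q : Subgroup G) = R₀ by rw [h]; exact hR₀C
  by_contra hne
  have hlt : R₀ < (Q : Subgroup G) := lt_of_le_of_ne hQ fun h => hne h.symm
  have hncond := (Group.normalizerCondition_of_isNilpotent (h := Q.isPGroup'.isNilpotent))
    (R₀.subgroupOf Q) (lt_top_iff_ne_top.2 fun h => hlt.not_ge fun x hx =>
      mem_subgroupOf.1 (h.symm ▸ mem_top (⟨x, hx⟩ : ↥(Q : Subgroup G))))
  obtain ⟨⟨g, hgQ⟩, hgN, hgR⟩ := SetLike.exists_of_lt hncond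
  have hgn : g ∈ normalizer (R₀ : Set G) := by
    refine Subgroup.mem_normalizer_fintype fun x hx => ?_
    exact mem_subgroupOf.1 ((mem_normalizer_iff.1 hgN ⟨x, hQ hx⟩).1 (mem_subgroupOf.2 hx))
  have hgH : g ∈ H := normalizer_P_le hG hJ (hNP hgn)
  set K : Subgroup G := (Q : Subgroup G) ⊓ H with hK
  have hK27 : Nat.card K ∣ 27 := by
    obtain ⟨k, hk⟩ := (Q.isPGroup'.to_le (inf_le_left : K ≤ Q)).exists_card_eq
    have h1 : Nat.card K ∣ Nat.card H := Subgroup.card_dvd_of_le inf_le_right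
    rw [(H42.J4.exists_hom_norm hJ).1, H42.J4.card_aut22, hk,
      show 3 * 2 ^ 13 * 887040 = (2 ^ 13 * 98560) * 27 by norm_num] at h1
    rw [hk]
    exact (((by norm_num : Nat.Coprime 3 (2 ^ 13 * 98560))).pow_left k).dvd_of_dvd_mul_left h1
  have hle : R₀ ≤ K := le_inf hQ (hR₀C.trans inf_le_left)
  have heq : R₀ = K := Subgroup.eq_of_le_of_card_ge hle (by rw [hR27]; exact Nat.le_of_dvd (by norm_num) hK27)
  exact hgR (mem_subgroupOf.2 (show g ∈ R₀ from heq ▸ ⟨hgQ, hgH⟩))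

/-- All elements of order three are conjugate. -/
theorem one_class_three (hG : ¬ IsMulCommutative G) (hJ : Cfsg.IsOfJankoFourTypeWith z P) {x y : G}
    (hx : orderOf x = 3) (hy : orderOf y = 3) : IsConj x y := by
  classical
  haveI : Fact (Nat.Prime 3) := ⟨Nat.prime_three⟩
  obtain ⟨-, b, hb, hbP, hb3, a, haP, ha1, hab⟩ := perfect_and_conj hG hJ
  obtain ⟨R, hR⟩ := exists_sylow_cent hG hJ
  set H : Subgroup G := centralizer ({z} : Set G) with hH
  set C : Subgroup G := H ⊓ centralizer (P : Set G) with hC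
  obtain ⟨π, hπ, hπk⟩ := H42.J4.exists_hom_cent hJ
  have hker : ∀ c : ↥C, π c = 1 ↔ (c : G) ∈ zpowers z ⊔ P := fun c => by
    rw [← MonoidHom.mem_ker, hπk, mem_subgroupOf]
  have hPC : P ≤ C := H42.J4.p_le_cent hJ
  have hPcard : Nat.card P = 3 := hJ.2.2.2.2.2.1
  have hcube : ∀ p ∈ P, p ^ 3 = 1 := fun p hp => by
    rw [← orderOf_dvd_iff_pow_eq_one, ← hPcard]; exact P.orderOf_dvd_natCard hp
  -- the nontrivial elements of `P` are conjugate
  have hinP : ∀ p ∈ P, p ≠ 1 → IsConj a p := by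
    intro p hp hp1
    have hN : ¬ (H ⊓ normalizer (P : Set G)) ≤ C := fun h =>
      hJ.2.2.2.2.2.2.2.1 (le_antisymm h (H42.J4.cent_le_norm hJ))
    obtain ⟨n, hn, hnC⟩ := SetLike.not_le_iff_exists.1 hN
    have hPa : P = zpowers a := (eq_of_le_of_card_ge (zpowers_le.2 haP) (by
      rw [hPcard, Nat.card_zpowers, orderOf_eq_prime (hcube a haP) ha1])).symm
    have hmem : ∀ q ∈ P, q = 1 ∨ q = a ∨ q = a * a := by
      intro q hq
      obtain ⟨i, rfl⟩ := mem_zpowers_iff.1 (hPa ▸ hq)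
      have e1 : a ^ i = a ^ (i % 3) := by
        conv_lhs => rw [← Int.emod_add_mul_ediv i 3]
        rw [zpow_add, zpow_mul, show a ^ (3 : ℤ) = 1 from by exact_mod_cast hcube a haP, one_zpow, mul_one]
      have h0 := Int.emod_nonneg i (show (3 : ℤ) ≠ 0 by norm_num)
      have h1 := Int.emod_lt_of_pos i (show (0 : ℤ) < 3 by norm_num)
      rw [e1]
      rcases (show i % 3 = 0 ∨ i % 3 = 1 ∨ i % 3 = 2 by omega) with h | h | h <;> rw [h]
      · left; exact zpow_zero a
      · right; left; exact zpow_one a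
      · right; right; exact zpow_two a
    rcases hmem p hp with rfl | rfl | rfl
    · exact absurd rfl hp1
    · exact IsConj.refl _
    · refine isConj_iff.2 ⟨n, ?_⟩
      rcases hmem _ ((mem_normalizer_iff.1 hn.2 a).1 haP) with h | h | h
      · exact absurd (conj_eq_one_iff.1 h) ha1
      · exfalso
        refine hnC ⟨hn.1, mem_centralizer_iff.2 fun q hq => ?_⟩
        have h' : n * a = a * n := mul_inv_eq_iff_eq_mul.1 h
        rcases hmem q hq with rfl | rfl | rfl
        · simp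
        · exact h'.symm
        · exact (Commute.mul_left (Commute.symm h') (Commute.symm h')).eq
      · exact h
  have hbk : ∀ p ∈ P, IsConj b (b * p) := by
    intro p hp
    obtain ⟨c, hc, -, -, a', ha', ha'1, hPa', hcb⟩ := H42.J4.exists_conj_mul hJ hb hb3 hbP
    have hcomm : ∀ q ∈ P, c * q * c⁻¹ = q := fun q hq => by
      rw [← (H42.J4.ker_central hJ (mem_sup_right hq) hc).eq, mul_inv_cancel_right]
    have hpow : ∀ i : ℕ, c ^ i * b * (c ^ i)⁻¹ = b * a' ^ i := by
      intro i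
      induction i with
      | zero => simp
      | succ i ih =>
        calc c ^ (i + 1) * b * (c ^ (i + 1))⁻¹ = c * (c ^ i * b * (c ^ i)⁻¹) * c⁻¹ := by
              rw [pow_succ']; group
          _ = (c * b * c⁻¹) * (c * a' ^ i * c⁻¹) := by rw [ih]; group
          _ = a' * b * a' ^ i := by rw [hcb, hcomm _ (pow_mem ha' i)]
          _ = b * a' * a' ^ i := by rw [(H42.J4.ker_central hJ (mem_sup_right ha') hb).eq]
          _ = b * a' ^ (i + 1) := by rw [mul_assoc, ← pow_succ']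
    obtain ⟨i, rfl⟩ := mem_powers_iff_mem_zpowers.2 (hPa' ▸ hp)
    exact isConj_iff.2 ⟨c ^ i, hpow i⟩
  have hC : ∀ w ∈ C, orderOf w = 3 → IsConj a w := by
    intro w hw hw3
    have hw1 : w ≠ 1 := fun h => by rw [h, orderOf_one] at hw3; omega
    have hw3' : w ^ 3 = 1 := hw3 ▸ pow_orderOf_eq_one w
    by_cases hwP : w ∈ P
    · exact hinP w hwP hw1
    have hne : ∀ {v : G} (hv : v ∈ C), v ^ 3 = 1 → v ∉ P → orderOf (π ⟨v, hv⟩) = 3 := by
      intro v hv hv3 hvP
      refine orderOf_eq_prime ?_ fun h => hvP (H42.J4.mem_p_of_cube hJ ((hker _).1 h)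
        (by rw [show 27 = 3 * 9 from rfl, pow_mul, hv3, one_pow]))
      rw [← map_pow, show (⟨v, hv⟩ : ↥C) ^ 3 = 1 from Subtype.ext hv3, map_one]
    obtain ⟨q, hq⟩ := isConj_iff.1 (H42.J4.isConj_three (hne hw hw3' hwP) (hne hb hb3 hbP))
    obtain ⟨c, rfl⟩ := hπ q
    set v : ↥C := c * ⟨w, hw⟩ * c⁻¹ with hv
    have hvk : (b : G)⁻¹ * v ∈ zpowers z ⊔ P := (hker (⟨b, hb⟩⁻¹ * v)).1 (by
      rw [hv, map_mul, map_mul, map_mul, map_inv, map_inv, hq, inv_mul_cancel])
    have hv3 : (v : G) ^ 3 = 1 := by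
      rw [hv]
      show ((c : G) * w * (c : G)⁻¹) ^ 3 = 1
      rw [conj_pow, hw3', mul_one, mul_inv_cancel]
    have hvb : Commute b ((b : G)⁻¹ * v) := (H42.J4.ker_central hJ hvk hb).symm
    have hk3 : ((b : G)⁻¹ * v) ^ 3 = 1 := by
      have h1 : (v : G) ^ 3 = b ^ 3 * ((b : G)⁻¹ * v) ^ 3 := by rw [← hvb.mul_pow, mul_inv_cancel_left]
      rwa [hv3, hb3, one_mul, eq_comm] at h1
    have hkP := H42.J4.mem_p_of_cube hJ hvk (by rw [show 27 = 3 * 9 from rfl, pow_mul, hk3, one_pow])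
    have h1 := hbk _ hkP
    rw [mul_inv_cancel_left] at h1
    exact hab.trans (h1.trans (isConj_iff.2 ⟨(c : G), rfl⟩ : IsConj w (v : G)).symm)
  have hall : ∀ w : G, orderOf w = 3 → IsConj a w := by
    intro w hw
    have hp : IsPGroup 3 ↥(zpowers w) := IsPGroup.of_card (n := 1) (by rw [Nat.card_zpowers, hw, pow_one])
    obtain ⟨S, hS⟩ := hp.exists_le_sylow
    obtain ⟨g, hg⟩ := MulAction.exists_smul_eq G S R
    have hgw : g * w * g⁻¹ ∈ (R : Subgroup G) := by
      have h1 : MulAut.conj g w ∈ ((g • S : Sylow 3 G) : Subgroup G) :=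
        Subgroup.smul_mem_pointwise_smul w (MulAut.conj g) _ (hS (mem_zpowers w))
      rwa [hg] at h1
    exact (hC _ (hR hgw) (by rw [← MulAut.conj_apply, MulEquiv.orderOf_eq, hw])).trans
      (isConj_iff.2 ⟨g, rfl⟩ : IsConj w (g * w * g⁻¹)).symm
  exact (hall x hx).symm.trans (hall y hy)

end Cfsg.Agent.H69.J4
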