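import Cfsg.Agent.H69.J4.Unique

/-!
A Sylow two-subgroup of a group of `J₄` type has a unique elementary abelian subgroup of order `2 ^ 11`.
-/

set_option autoImplicit false

namespace Cfsg.Agent.H69.J4

open Subgroup
open scoped Pointwise

variable {G : Type*} [Group G] [Finite G]
variable {z : G} {E P N : Subgroup G} {d : Data z E P} (R : Real d)
variable {e : ↥(centralizer ({z} : Set G)) →* MulAut ↥Cfsg.Spor.M22}

namespace Real

include R in
theorem sylow_card (o : Outer z E P N e) (S : Sylow 2 ↥(centralizer ({z} : Set G))) :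
    Nat.card ↥((S : Subgroup ↥(centralizer ({z} : Set G)))) = 2 ^ 21 := by
  haveI : Fact (Nat.Prime 2) := ⟨Nat.prime_two⟩
  obtain ⟨n, hn⟩ := S.isPGroup'.exists_card_eq
  have h1 : Nat.card ↥(centralizer ({z} : Set G)) = 2 ^ 21 * 10395 := by
    rw [← Subgroup.card_mul_index d.ρ.ker, Subgroup.index_ker, o.card_range d, d.ker_eq,
      Nat.card_congr (subgroupOfEquivOfLe d.L.le_H).toEquiv, d.cardE]
    norm_num
  have h2 := Subgroup.card_mul_index (S : Subgroup ↥(centralizer ({z} : Set G)))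
  rw [hn, h1] at h2
  have hodd := S.not_dvd_index
  have hc2 : Nat.Coprime 2 (S : Subgroup ↥(centralizer ({z} : Set G))).index :=
    Nat.prime_two.coprime_iff_not_dvd.2 hodd
  have ha : 2 ^ 21 ∣ 2 ^ n :=
    (hc2.pow_left 21).dvd_of_dvd_mul_right ⟨10395, h2⟩
  have hb : 2 ^ n ∣ 2 ^ 21 :=
    ((by norm_num : Nat.Coprime 2 10395).pow_left n).dvd_of_dvd_mul_right ⟨_, h2.symm⟩
  rw [hn]
  exact Nat.dvd_antisymm hb ha

theorem exists_placed (o : Outer z E P N e) :
    ∃ S : Sylow 2 ↥(centralizer ({z} : Set G)),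
      Placed R ((S : Subgroup ↥(centralizer ({z} : Set G))).map (centralizer ({z} : Set G)).subtype) := by
  classical
  haveI : Fact (Nat.Prime 2) := ⟨Nat.prime_two⟩
  haveI := R.finite_aut
  obtain ⟨S⟩ := (inferInstance : Nonempty (Sylow 2 ↥(centralizer ({z} : Set G))))
  have hES : ∀ S : Sylow 2 ↥(centralizer ({z} : Set G)),
      E.subgroupOf (centralizer ({z} : Set G)) ≤ (S : Subgroup ↥(centralizer ({z} : Set G))) := by
    intro S x hx
    refine H1.pCore_le_sylow S ?_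
    have hx' := mem_subgroupOf.1 hx
    rw [d.L.hE] at hx'
    obtain ⟨y, hy, hyx⟩ := hx'
    exact (show y = x from Subtype.ext hyx) ▸ hy
  have hrange : ∀ S : Sylow 2 ↥(centralizer ({z} : Set G)),
      Nat.card ((S : Subgroup ↥(centralizer ({z} : Set G))).map d.ρ) = 256 := by
    intro S
    have hk : Nat.card (d.ρ.comp (S : Subgroup ↥(centralizer ({z} : Set G))).subtype).ker = 2 ^ 13 := by
      rw [← d.cardE]
      exact Nat.card_congr
        { toFun := fun v => ⟨v.1.1.1, (d.mem_ker_iff).1 (MonoidHom.mem_ker.1 v.2)⟩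
          invFun := fun v => ⟨⟨⟨v, d.L.le_H v.2⟩, hES S (mem_subgroupOf.2 v.2)⟩,
            MonoidHom.mem_ker.2 ((d.mem_ker_iff).2 v.2)⟩
          left_inv := fun _ => rfl
          right_inv := fun _ => rfl }
    have h := Subgroup.card_mul_index (d.ρ.comp (S : Subgroup ↥(centralizer ({z} : Set G))).subtype).ker
    rw [hk, Subgroup.index_ker, MonoidHom.range_comp, Subgroup.range_subtype, R.sylow_card o S] at h
    norm_num at h ⊢
    omega
  set B := (S : Subgroup ↥(centralizer ({z} : Set G))).map d.ρ ⊓ Outer.Y d with hB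
  have hB128 : 128 ≤ Nat.card B := by
    have h256 := hrange S
    by_cases hall : (S : Subgroup ↥(centralizer ({z} : Set G))).map d.ρ ≤ Outer.Y d
    · rw [hB, inf_eq_left.2 hall]; omega
    · obtain ⟨_, ⟨a, ha, rfl⟩, haY⟩ := SetLike.not_le_iff_exists.1 hall
      let g : ((S : Subgroup ↥(centralizer ({z} : Set G))).map d.ρ) → Bool × B := fun x =>
        if hx : x.1 ∈ Outer.Y d then (true, ⟨x.1, x.2, hx⟩)
        else (false, ⟨x.1 * d.ρ a, mul_mem x.2 (mem_map_of_mem _ ha), by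
          obtain ⟨v, -, hv⟩ := x.2
          rw [← hv, ← map_mul]
          exact R.mul_mem_Y o (by rw [hv]; exact hx) haY⟩)
      have hg : Function.Injective g := by
        intro p q h
        by_cases hp : p.1 ∈ Outer.Y d <;> by_cases hq : q.1 ∈ Outer.Y d <;> simp [g, hp, hq] at h
        · exact Subtype.ext (congrArg (fun v : ↥B => (v : MulAut (Bar E))) h)
        · exact Subtype.ext (mul_right_cancel (congrArg (fun v : ↥B => (v : MulAut (Bar E))) h))
      have := Nat.card_le_card_of_injective g hg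
      rw [h256, Nat.card_prod, Nat.card_eq_fintype_card (α := Bool), Fintype.card_bool] at this
      omega
  have hBp : IsPGroup 2 B := (S.isPGroup'.map d.ρ).to_le inf_le_left
  obtain ⟨_, ⟨c, hc, rfl⟩, hconj⟩ := R.exists_conj_le_Q o (inf_le_right : B ≤ Outer.Y d) hBp
  refine ⟨c • S, ?_⟩
  have hmem : ∀ x : ↥(centralizer ({z} : Set G)),
      x ∈ ((c • S : Sylow 2 ↥(centralizer ({z} : Set G))) : Subgroup ↥(centralizer ({z} : Set G))) ↔
        c⁻¹ * x * c ∈ (S : Subgroup ↥(centralizer ({z} : Set G))) := fun x => by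
    show x ∈ MulAut.conj c • (S : Subgroup ↥(centralizer ({z} : Set G))) ↔ _
    rw [Subgroup.mem_pointwise_smul_iff_inv_smul_mem, MulAut.smul_def, MulAut.conj_inv_apply]
  have hlin : ∀ x ∈ (((c • S : Sylow 2 ↥(centralizer ({z} : Set G))) :
      Subgroup ↥(centralizer ({z} : Set G))).map d.ρ ⊓ Outer.Y d), x ∈ R.Q := by
    rintro _ ⟨⟨x, hx, rfl⟩, hY⟩
    have hy : d.ρ (c⁻¹ * x * c) ∈ B := by
      refine ⟨mem_map_of_mem _ ((hmem x).1 hx), ?_⟩
      show d.ρ (c⁻¹ * x * c) ∈ Outer.Y d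
      rw [map_mul, map_mul, map_inv]
      have hcY : d.ρ c ∈ Outer.Y d := mem_map_of_mem _ hc
      have hxY : d.ρ x ∈ Outer.Y d := hY
      exact mul_mem (mul_mem (inv_mem hcY) hxY) hcY
    have := hconj _ hy
    rwa [← map_inv, ← map_mul, ← map_mul,
      show c * (c⁻¹ * x * c) * c⁻¹ = x by group] at this
  refine ⟨map_subtype_le _, fun v hv => ⟨⟨v, d.L.le_H hv⟩, hES _ (mem_subgroupOf.2 hv), rfl⟩,
    fun x hx => ?_, ?_⟩
  · -- the linear part is everything
    let g : B → R.Q := fun b => ⟨d.ρ c * b * (d.ρ c)⁻¹, hconj b b.2⟩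
    have hg : Function.Injective g := fun a b h => Subtype.ext (by
      have := congrArg (fun v : ↥R.Q => (v : MulAut (Bar E))) h
      simpa [g] using this)
    obtain ⟨b, hb⟩ := (hg.bijective_of_nat_card_le (by rw [R.card_Q]; exact hB128)).2 ⟨x, hx⟩
    obtain ⟨v, hv, hvb⟩ := b.2.1
    refine ⟨((c * v * c⁻¹ : ↥(centralizer ({z} : Set G))) : G),
      mem_map_of_mem (centralizer ({z} : Set G)).subtype ((hmem (c * v * c⁻¹)).2 ?_), (c * v * c⁻¹).2, ?_⟩
    · rw [show c⁻¹ * (c * v * c⁻¹) * c = v by group]; exact hv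
    · show d.ρ (c * v * c⁻¹) = x
      rw [map_mul, map_mul, map_inv, hvb]
      exact congrArg Subtype.val hb
  · rintro t h ⟨x, hx, hxt⟩ hY
    have e : (⟨t, h⟩ : ↥(centralizer ({z} : Set G))) = x := Subtype.ext hxt.symm
    rw [e] at hY ⊢
    exact hlin _ ⟨mem_map_of_mem _ hx, hY⟩

end Real

theorem centralizer_sylow_is_sylow (d : Data z E P)
    (S : Sylow 2 ↥(centralizer ({z} : Set G))) (Q : Sylow 2 G)
    (hQ : (S : Subgroup ↥(centralizer ({z} : Set G))).map (centralizer ({z} : Set G)).subtype ≤ Q) :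
    (Q : Subgroup G) =
      (S : Subgroup ↥(centralizer ({z} : Set G))).map (centralizer ({z} : Set G)).subtype := by
  haveI : Fact (Nat.Prime 2) := ⟨Nat.prime_two⟩
  set T := (S : Subgroup ↥(centralizer ({z} : Set G))).map (centralizer ({z} : Set G)).subtype with hT
  have hTH : T ≤ centralizer ({z} : Set G) := map_subtype_le _
  have hET : ∀ v ∈ E, v ∈ T := fun v hv => by
    refine ⟨⟨v, d.L.le_H hv⟩, H1.pCore_le_sylow S ?_, rfl⟩
    have hx := hv
    rw [d.L.hE] at hx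
    obtain ⟨y, hy, hyx⟩ := hx
    exact (show y = ⟨v, d.L.le_H hv⟩ from Subtype.ext hyx) ▸ hy
  by_contra hne
  have hlt : T < (Q : Subgroup G) := lt_of_le_of_ne hQ fun h => hne h.symm
  have hnil := Q.isPGroup'.isNilpotent
  have hncond := (Group.normalizerCondition_of_isNilpotent (h := hnil)) (T.subgroupOf Q)
    (lt_top_iff_ne_top.2 fun h => hlt.not_ge fun x hx =>
      mem_subgroupOf.1 (h.symm ▸ mem_top (⟨x, hx⟩ : ↥(Q : Subgroup G))))
  obtain ⟨⟨g, hgQ⟩, hgN, hgT⟩ := SetLike.exists_of_lt hncond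
  have hnorm : ∀ x ∈ T, g⁻¹ * x * g ∈ T := by
    intro x hx
    have := (mem_normalizer_iff''.1 hgN ⟨x, hQ hx⟩).1 (mem_subgroupOf.2 hx)
    exact mem_subgroupOf.1 this
  have hnorm' : ∀ x ∈ T, g * x * g⁻¹ ∈ T := by
    intro x hx
    have := (mem_normalizer_iff.1 hgN ⟨x, hQ hx⟩).1 (mem_subgroupOf.2 hx)
    exact mem_subgroupOf.1 this
  have hgz : g * z = z * g := by
    rcases d.L.eq_one_or_z_of_centralizes (c := g * z * g⁻¹) (fun v hv => by
      have h1 := hnorm v (hET v hv)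
      have h2 : g⁻¹ * v * g * z = z * (g⁻¹ * v * g) := mem_centralizer_singleton_iff.1 (hTH h1)
      calc v * (g * z * g⁻¹) = g * (g⁻¹ * v * g * z) * g⁻¹ := by group
        _ = g * (z * (g⁻¹ * v * g)) * g⁻¹ := by rw [h2]
        _ = g * z * g⁻¹ * v := by group) with h | h
    · exact absurd (conj_eq_one_iff.1 h) d.L.z_ne_one
    · exact mul_inv_eq_iff_eq_mul.1 h
  -- `⟨S, g⟩` would be a larger two-subgroup of the centralizer
  have hsup : IsPGroup 2 ↥(((Q : Subgroup G) ⊓ centralizer ({z} : Set G)).subgroupOf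
      (centralizer ({z} : Set G))) :=
    (Q.isPGroup'.to_le inf_le_left).of_equiv (subgroupOfEquivOfLe inf_le_right).symm
  have hle : (S : Subgroup ↥(centralizer ({z} : Set G))) ≤
      ((Q : Subgroup G) ⊓ centralizer ({z} : Set G)).subgroupOf (centralizer ({z} : Set G)) :=
    fun x hx => mem_subgroupOf.2 ⟨hQ (mem_map_of_mem _ hx), x.2⟩
  have heq := S.is_maximal' hsup hle
  have hgH : g ∈ centralizer ({z} : Set G) := mem_centralizer_singleton_iff.2 hgz
  have : (⟨g, hgH⟩ : ↥(centralizer ({z} : Set G))) ∈ (S : Subgroup ↥(centralizer ({z} : Set G))) := by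
    rw [← heq]; exact mem_subgroupOf.2 ⟨hgQ, hgH⟩
  exact hgT (mem_subgroupOf.2 ⟨_, this, rfl⟩)

theorem sylow_unique_elementary {z : G} {P : Subgroup G} (h : Cfsg.IsOfJankoFourTypeWith z P)
    (T : Sylow 2 G) :
    ∃! V : Subgroup G, V ≤ (T : Subgroup G) ∧ Cfsg.IsElementaryAbelian 2 V ∧ Nat.card V = 2 ^ 11 := by
  haveI : Fact (Nat.Prime 2) := ⟨Nat.prime_two⟩
  have d := data_of_type h
  obtain ⟨N, e, o⟩ := outer_of_type h
  obtain ⟨R⟩ := exists_real o d
  obtain ⟨S, hS⟩ := R.exists_placed o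
  obtain ⟨Q, hQ⟩ := (S.isPGroup'.map (centralizer ({z} : Set G)).subtype).exists_le_sylow
  have hQS := centralizer_sylow_is_sylow d S Q hQ
  rw [← hQS] at hS
  obtain ⟨V, hV, huniq⟩ := R.exists_unique_of_placed o hS
  obtain ⟨g, hg⟩ := MulAction.exists_smul_eq G Q T
  have hmem : ∀ x, x ∈ (T : Subgroup G) ↔ g⁻¹ * x * g ∈ (Q : Subgroup G) := fun x => by
    rw [← hg]
    show x ∈ MulAut.conj g • (Q : Subgroup G) ↔ _
    rw [Subgroup.mem_pointwise_smul_iff_inv_smul_mem, MulAut.smul_def, MulAut.conj_inv_apply]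
  have hel : ∀ (W : Subgroup G) (k : G), Cfsg.IsElementaryAbelian 2 W →
      Cfsg.IsElementaryAbelian 2 (W.map (MulAut.conj k).toMonoidHom) := by
    rintro W k ⟨⟨⟨hc⟩⟩, he⟩
    refine ⟨⟨⟨?_⟩⟩, ?_⟩
    · rintro ⟨_, a, ha, rfl⟩ ⟨_, b, hb, rfl⟩
      refine Subtype.ext ?_
      show (MulAut.conj k).toMonoidHom a * (MulAut.conj k).toMonoidHom b = _ * _
      rw [← map_mul, ← map_mul]
      exact congrArg _ (congrArg Subtype.val (hc ⟨a, ha⟩ ⟨b, hb⟩))
    · rintro _ ⟨a, ha, rfl⟩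
      rw [← map_pow, he a ha, map_one]
  have hcard : ∀ (W : Subgroup G) (k : G),
      Nat.card ↥(W.map (MulAut.conj k).toMonoidHom) = Nat.card W := fun W k =>
    Nat.card_congr (W.equivMapOfInjective _ (MulAut.conj k).injective).toEquiv.symm
  refine ⟨V.map (MulAut.conj g).toMonoidHom, ⟨?_, hel _ _ hV.2.1, by rw [hcard, hV.2.2]⟩, ?_⟩
  · rintro _ ⟨a, ha, rfl⟩
    rw [hmem]
    simpa [MulAut.conj_apply, mul_assoc] using hV.1 ha
  · rintro W ⟨hW, hWe, hWc⟩
    have hWV : W.map (MulAut.conj g⁻¹).toMonoidHom = V := by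
      refine huniq _ ⟨?_, hel _ _ hWe, by rw [hcard, hWc]⟩
      rintro _ ⟨a, ha, rfl⟩
      simpa [MulAut.conj_apply, mul_assoc] using (hmem a).1 (hW ha)
    rw [← hWV, Subgroup.map_map]
    conv_lhs => rw [← Subgroup.map_id W]
    congr 1
    ext x
    simp [MulAut.conj_apply, mul_assoc]

end Cfsg.Agent.H69.J4
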