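import Cfsg.Agent.H69.J4.Frame

/-!
Soundness of the search for commuting sets of involutions, and generation of the Sylow list.
-/

set_option autoImplicit false

namespace Cfsg.Agent.H69.J4

theorem card_le_pop : ∀ (n m : ℕ) (X : Finset ℕ), (∀ i ∈ X, i < n ∧ m.testBit i = true) →
    X.card ≤ pop n m
  | 0, _, X, h => by
    have : X = ∅ := Finset.eq_empty_of_forall_notMem fun i hi => absurd (h i hi).1 (Nat.not_lt_zero i)
    simp [this]
  | n + 1, m, X, h => by
    classical
    let Y : Finset ℕ := (X.erase 0).image (· - 1)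
    have hY : ∀ i ∈ Y, i < n ∧ (m / 2).testBit i = true := by
      intro i hi
      obtain ⟨j, hj, rfl⟩ := Finset.mem_image.1 hi
      obtain ⟨hj0, hj⟩ := Finset.mem_erase.1 hj
      obtain ⟨h1, h2⟩ := h j hj
      refine ⟨by omega, ?_⟩
      rw [← Nat.testBit_add_one]
      rwa [show j - 1 + 1 = j by omega]
    have hc : Y.card = (X.erase 0).card := Finset.card_image_of_injOn fun a ha b hb e => by
      have := (Finset.mem_erase.1 ha).1
      have := (Finset.mem_erase.1 hb).1
      omega
    have := card_le_pop n (m / 2) Y hY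
    rw [pop]
    by_cases h0 : 0 ∈ X
    · have hb := (h 0 h0).2
      rw [Nat.testBit_zero, decide_eq_true_eq] at hb
      rw [← Finset.card_erase_add_one h0, ← hc, hb]
      omega
    · rw [← Finset.erase_eq_of_notMem h0, ← hc]
      omega

theorem testBit_maskOf (l : List ℕ) (i : ℕ) : (maskOf l).testBit i = true ↔ i ∈ l := by
  induction l with
  | nil => simp [maskOf]
  | cons a as ih =>
    rw [maskOf, List.foldr_cons, Nat.testBit_or, Bool.or_eq_true, Nat.testBit_two_pow, decide_eq_true_eq,
      List.mem_cons]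
    exact or_congr eq_comm ih

theorem search_step {fuel ch ca : ℕ} (h : search (fuel + 1) ch ca = true) :
    pop 35 (ch ||| ca) < 15 ∨ (ch ||| ca) &&& maskOf k1Idx = ch ||| ca ∨
      (ch ||| ca) &&& maskOf k2Idx = ch ||| ca ∨
      ∃ v, search fuel (ch ||| 2 ^ v) (ca &&& com.getD v 0) = true ∧
        search fuel ch (ca ^^^ 2 ^ v) = true := by
  generalize e35 : (35 : ℕ) = n at *
  rw [search, e35] at h
  simp only [Bool.or_eq_true, List.any_eq_true, Bool.and_eq_true] at h
  rcases h with ((h | h) | h) | ⟨v, -, ⟨-, h1⟩, h2⟩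
  · exact Or.inl (by simpa using h)
  · exact Or.inr (Or.inl (Nat.eq_of_beq_eq_true h))
  · exact Or.inr (Or.inr (Or.inl (Nat.eq_of_beq_eq_true h)))
  · exact Or.inr (Or.inr (Or.inr ⟨v, h1, h2⟩))

theorem search_sound (fuel : ℕ) : ∀ (ch ca : ℕ), search fuel ch ca = true → ∀ X : Finset ℕ,
    (∀ i ∈ X, i < 35) → 15 ≤ X.card → (∀ i ∈ X, (ch ||| ca).testBit i = true) →
    (∀ i ∈ X, ∀ j ∈ X, i ≠ j → (com.getD i 0).testBit j = true) →
    (∀ i ∈ X, i ∈ k1Idx) ∨ (∀ i ∈ X, i ∈ k2Idx) := by
  induction fuel with
  | zero => intro ch ca h; simp [search] at h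
  | succ fuel ih =>
    intro ch ca h X h35 h15 hu hcom
    have sub : ∀ k, (ch ||| ca) &&& maskOf k = ch ||| ca → ∀ i ∈ X, i ∈ k := fun k e i hi => by
      have := hu i hi
      rw [← e, Nat.testBit_and, Bool.and_eq_true] at this
      exact (testBit_maskOf k i).1 this.2
    rcases search_step h with h | h | h | ⟨v, hin, hout⟩
    · exfalso
      have := card_le_pop 35 _ X fun i hi => ⟨h35 i hi, hu i hi⟩
      omega
    · exact Or.inl (sub _ h)
    · exact Or.inr (sub _ h)
    · skip
      by_cases hvX : v ∈ X
      · refine ih _ _ hin X h35 h15 (fun i hi => ?_) hcom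
        have := hu i hi
        simp only [Nat.testBit_or, Nat.testBit_and, Bool.or_eq_true, Bool.and_eq_true,
          Nat.testBit_two_pow, decide_eq_true_eq] at this ⊢
        rcases eq_or_ne v i with e | e
        · exact Or.inl (Or.inr e)
        · exact this.imp Or.inl fun h => ⟨h, hcom v hvX i hi e⟩
      · refine ih _ _ hout X h35 h15 (fun i hi => ?_) hcom
        have := hu i hi
        simp only [Nat.testBit_or, Bool.or_eq_true, Nat.testBit_xor, Nat.testBit_two_pow] at this ⊢
        have e : v ≠ i := fun e => hvX (e ▸ hi)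
        simpa [e] using this

/-- The list of the Sylow two-subgroup is closed under products. -/
theorem mQ_mul {a b : List ℕ} (ha : a ∈ mQ) (hb : b ∈ mQ) : mm a b ∈ mQ := by
  have key : ∀ i < 128, ∀ a ∈ mQ, mm a (mQ.getD i []) ∈ mQ := by
    intro i
    induction i using Nat.strong_induction_on with
    | _ i ih =>
      intro hi a ha
      have hr := (List.all_eq_true.1 q_reach) i (List.mem_range.2 hi)
      simp only [Bool.or_eq_true] at hr
      rcases hr with h0 | hr
      · rw [Nat.eq_of_beq_eq_true h0, q_one]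
        have hb := (List.all_eq_true.1 q_bound) a ha
        simp only [Bool.and_eq_true] at hb
        have : mm a mI = a := by
          have hlen := Nat.eq_of_beq_eq_true hb.1
          match a, hlen with
          | [_, _, _, _, _, _, _, _, _, _, _, _], _ =>
            simp [mm, mI, ap, beq_zero_one, beq_one_one]
        rw [this]; exact ha
      · obtain ⟨j, hj, hr⟩ := List.any_eq_true.1 hr
        obtain ⟨g, hg, hr⟩ := List.any_eq_true.1 hr
        rw [beq_iff_eq] at hr
        rw [hr, ← mm_assoc]
        have h1 := ih j (List.mem_range.1 hj) ((List.mem_range.1 hj).trans hi) a ha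
        have h2 := (List.all_eq_true.1 ((List.all_eq_true.1 q_closed) _ h1)) g hg
        simpa using h2
  obtain ⟨i, hi, rfl⟩ := List.getElem_of_mem hb
  rw [← List.getD_eq_getElem (d := [])]
  exact key i (q_len ▸ hi) a ha

end Cfsg.Agent.H69.J4
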