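import Cfsg.Agent.H69.J4.Realise
import Cfsg.Agent.H69.J4.Search

/-!
The Sylow two-subgroup of the model inside `Aut(E / Z(E))`, and its subgroups of order sixteen.
-/

set_option autoImplicit false

namespace Cfsg.Agent.H69.J4

open Subgroup

variable {G : Type*} [Group G] [Finite G]
variable {z : G} {E P : Subgroup G} {d : Data z E P} (R : Real d)

namespace Real

/-- The coordinate map. -/
def φ (v : ℕ) : Bar E := @Frame.φ (Bar E) d.barGroup R.F v

/-- The matrix of an automorphism. -/
noncomputable def code (x : MulAut (Bar E)) : List ℕ := @Frame.mat (Bar E) d.barGroup R.F x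

theorem finite_aut (_ : Real d) : Finite (MulAut (Bar E)) :=
  Finite.of_injective (fun x => (x : Bar E → Bar E)) DFunLike.coe_injective

theorem mat_lt (x : MulAut (Bar E)) : ∀ a ∈ R.code x, a < 4096 := by
  letI := d.barGroup
  exact R.F.mat_lt x

theorem apply (x : MulAut (Bar E)) (v : ℕ) : x (R.φ v) = R.φ (ap (R.code x) v) := by
  letI := d.barGroup
  exact (R.F.mat_spec x).apply v

theorem mat_eq {x : MulAut (Bar E)} {A : List ℕ} (hA : ∀ a ∈ A, a < 4096)
    (h : @Frame.Mat (Bar E) d.barGroup R.F x A) : R.code x = A := by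
  letI := d.barGroup
  exact Frame.Mat.unique (R.F.mat_lt x) hA (R.F.mat_spec x) h

theorem mat_inj {x y : MulAut (Bar E)} (h : R.code x = R.code y) : x = y := by
  letI := d.barGroup
  have h1 := R.F.mat_spec x
  rw [show R.F.mat x = R.F.mat y from h] at h1
  exact Frame.Mat.eq_aut h1 (R.F.mat_spec y)

theorem mat_mul (x y : MulAut (Bar E)) : R.code (x * y) = mm (R.code x) (R.code y) := by
  letI := d.barGroup
  exact R.mat_eq (Frame.mm_lt (R.mat_lt x)) ((R.F.mat_spec x).mul (R.F.mat_spec y))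

theorem mat_one : R.code 1 = mI := by
  letI := d.barGroup
  exact R.mat_eq (by decide +kernel) R.F.mat_one

theorem φ_surj (m : Bar E) : ∃ v < 4096, R.φ v = m := by
  letI := d.barGroup
  exact R.F.surj m

theorem φ_inj {u v : ℕ} (hu : u < 4096) (hv : v < 4096) (h : R.φ u = R.φ v) : u = v := by
  letI := d.barGroup
  exact R.F.inj u hu v hv h

/-- The element of a word. -/
def word : List ℕ → ↥(centralizer ({z} : Set G))
  | [] => 1
  | i :: w => R.g i * word w

theorem word_mem : ∀ w, R.word w ∈ Outer.cP z P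
  | [] => one_mem _
  | i :: w => mul_mem (R.memC i) (word_mem w)

theorem mat_letter (i : ℕ) : R.code (d.ρ (R.g i)) = letter i := by
  refine R.mat_eq ?_ (R.mat i)
  have h := lists_ok
  simp only [List.all_cons, List.all_nil, Bool.and_true, Bool.and_eq_true, List.all_eq_true,
    Nat.blt_eq] at h
  match i with
  | 0 => exact h.1.2
  | 1 => exact h.2.1.2
  | 2 => exact h.2.2.2.1.2
  | _ + 3 => exact h.2.2.1.2

theorem mat_word : ∀ w, R.code (d.ρ (R.word w)) = evalM w
  | [] => by rw [word, map_one, R.mat_one]; rfl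
  | i :: w => by rw [word, map_mul, R.mat_mul, R.mat_letter, mat_word w]; rfl

/-- The subgroup of automorphisms with matrix in a closed finite list. -/
def listSub (L : List (List ℕ)) (h1 : mI ∈ L) (hmul : ∀ a ∈ L, ∀ b ∈ L, mm a b ∈ L) :
    Subgroup (MulAut (Bar E)) where
  carrier := {x | R.code x ∈ L}
  one_mem' := by show R.code 1 ∈ L; rw [R.mat_one]; exact h1
  mul_mem' {x y} hx hy := by show R.code (x * y) ∈ L; rw [R.mat_mul]; exact hmul _ hx _ hy
  inv_mem' {x} hx := by
    show R.code x⁻¹ ∈ L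
    haveI := R.finite_aut
    have hpow : ∀ n : ℕ, R.code (x ^ n) ∈ L := fun n => by
      induction n with
      | zero => rw [pow_zero, R.mat_one]; exact h1
      | succ n ih => rw [pow_succ, R.mat_mul]; exact hmul _ ih _ hx
    have ho := orderOf_pos x
    have : x⁻¹ = x ^ (orderOf x - 1) := inv_eq_of_mul_eq_one_right (by
      rw [← pow_succ', show orderOf x - 1 + 1 = orderOf x by omega, pow_orderOf_eq_one])
    rw [this]; exact hpow _

theorem mI_mem_mQ : mI ∈ mQ := by decide +kernel

/-- The Sylow two-subgroup. -/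
def Q : Subgroup (MulAut (Bar E)) := R.listSub mQ mI_mem_mQ fun _ ha _ hb => mQ_mul ha hb

/-- The elementary subgroup of order sixteen. -/
def A0 : Subgroup (MulAut (Bar E)) :=
  R.listSub (mI :: mK2) (List.mem_cons_self ..) fun a ha b hb => by
    have := (List.all_eq_true.1 ((List.all_eq_true.1 k2_closed) a ha)) b hb
    simpa using this

theorem exists_of_mem_mQ : ∀ i < 128, ∃ w, R.code (d.ρ (R.word w)) = mQ.getD i [] := by
  intro i
  induction i using Nat.strong_induction_on with
  | _ i ih =>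
    intro hi
    have hr := (List.all_eq_true.1 q_reach) i (List.mem_range.2 hi)
    simp only [Bool.or_eq_true] at hr
    rcases hr with h0 | hr
    · refine ⟨[], ?_⟩
      rw [Nat.eq_of_beq_eq_true h0, q_one, R.mat_word]; rfl
    · obtain ⟨j, hj, hr⟩ := List.any_eq_true.1 hr
      obtain ⟨g, -, hr⟩ := List.any_eq_true.1 hr
      rw [beq_iff_eq] at hr
      obtain ⟨w, hw⟩ := ih j (List.mem_range.1 hj) ((List.mem_range.1 hj).trans hi)
      refine ⟨w ++ g, ?_⟩
      have happ : ∀ a b : List ℕ, R.word (a ++ b) = R.word a * R.word b := by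
        intro a b
        induction a with
        | nil => simp [word]
        | cons x a ih' => simp [word, ih', mul_assoc]
      rw [hr, happ, map_mul, R.mat_mul, hw, R.mat_word]

theorem Q_le_Y : R.Q ≤ Outer.Y d := by
  intro x hx
  obtain ⟨i, hi, hix⟩ := List.getElem_of_mem (show R.code x ∈ mQ from hx)
  obtain ⟨w, hw⟩ := R.exists_of_mem_mQ i (q_len ▸ hi)
  refine ⟨R.word w, R.word_mem w, R.mat_inj ?_⟩
  rw [hw, List.getD_eq_getElem (hn := hi), hix]

theorem card_Q : Nat.card R.Q = 128 := by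
  let f : Fin 128 → R.Q := fun i => ⟨d.ρ (R.word (R.exists_of_mem_mQ i i.2).choose), by
    show R.code _ ∈ mQ
    rw [(R.exists_of_mem_mQ i i.2).choose_spec, List.getD_eq_getElem (hn := lt_of_lt_of_eq i.2 q_len.symm)]
    exact List.getElem_mem _⟩
  have hf : ∀ i : Fin 128, R.code (f i).1 = mQ.getD i [] := fun i =>
    (R.exists_of_mem_mQ i i.2).choose_spec
  refine (Nat.card_congr (Equiv.ofBijective f ⟨fun i j e => ?_, fun x => ?_⟩)).symm.trans (by simp)
  · have h : mQ.getD i [] = mQ.getD j [] := by rw [← hf, ← hf, e]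
    rcases lt_trichotomy i.1 j.1 with hl | hl | hl
    · have := (List.all_eq_true.1 ((List.all_eq_true.1 q_nodup) j (List.mem_range.2 j.2))) i
        (List.mem_range.2 hl)
      simp only [h, beq_self_eq_true, Bool.not_true] at this
      exact absurd this (by decide)
    · exact Fin.ext hl
    · have := (List.all_eq_true.1 ((List.all_eq_true.1 q_nodup) i (List.mem_range.2 i.2))) j
        (List.mem_range.2 hl)
      simp only [h, beq_self_eq_true, Bool.not_true] at this
      exact absurd this (by decide)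
  · obtain ⟨i, hi, hix⟩ := List.getElem_of_mem (show R.code x.1 ∈ mQ from x.2)
    exact ⟨⟨i, q_len ▸ hi⟩, Subtype.ext (R.mat_inj (by
      rw [hf, List.getD_eq_getElem (hn := hi), hix]))⟩

theorem exists_conj_le_Q {N : Subgroup G}
    {e : ↥(centralizer ({z} : Set G)) →* MulAut ↥Cfsg.Spor.M22} (o : Outer z E P N e)
    {B : Subgroup (MulAut (Bar E))} (hB : B ≤ Outer.Y d) (h2 : IsPGroup 2 B) :
    ∃ y ∈ Outer.Y d, ∀ x ∈ B, y * x * y⁻¹ ∈ R.Q := by
  haveI := R.finite_aut
  haveI : Fact (Nat.Prime 2) := ⟨Nat.prime_two⟩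
  have hQc : Nat.card (R.Q.subgroupOf (Outer.Y d)) = 2 ^ 7 := by
    rw [Nat.card_congr (subgroupOfEquivOfLe R.Q_le_Y).toEquiv, R.card_Q]; rfl
  have hidx : ¬ 2 ∣ (R.Q.subgroupOf (Outer.Y d)).index := by
    intro h
    have h1 : 2 ^ 8 ∣ Nat.card (Outer.Y d) := by
      rw [← Subgroup.card_mul_index (R.Q.subgroupOf (Outer.Y d)), hQc, pow_succ]
      exact Nat.mul_dvd_mul_left _ h
    exact absurd (h1.trans (o.card_Y_dvd d)) (by norm_num)
  let S : Sylow 2 (Outer.Y d) := (IsPGroup.of_card (n := 7) hQc).toSylow hidx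
  obtain ⟨T, hT⟩ :=
    (h2.of_equiv (subgroupOfEquivOfLe hB).symm : IsPGroup 2 (B.subgroupOf (Outer.Y d))).exists_le_sylow
  obtain ⟨g, hg⟩ := MulAction.exists_smul_eq (Outer.Y d) T S
  refine ⟨g, g.2, fun x hx => ?_⟩
  have : MulAut.conj g ⟨x, hB hx⟩ ∈ ((g • T : Sylow 2 (Outer.Y d)) : Subgroup (Outer.Y d)) :=
    Subgroup.smul_mem_pointwise_smul _ (MulAut.conj g) _ (hT (mem_subgroupOf.2 hx))
  rw [hg] at this
  exact mem_subgroupOf.1 this

theorem mem_mInv {x : MulAut (Bar E)} (hx : x ∈ R.Q) (h2 : x * x = 1) (h1 : x ≠ 1) :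
    R.code x ∈ mInv := by
  rw [← q_inv, List.mem_filter]
  refine ⟨hx, ?_⟩
  rw [Bool.and_eq_true, beq_iff_eq, ← R.mat_mul, h2, R.mat_one]
  refine ⟨rfl, ?_⟩
  simp only [Bool.not_eq_true', beq_eq_false_iff_ne, ne_eq]
  exact fun h => h1 (R.mat_inj (h.trans R.mat_one.symm))

/-- The common fixed points of a set of automorphisms. -/
def fixed (B : Subgroup (MulAut (Bar E))) : Set (Bar E) := {m | ∀ x ∈ B, x m = m}

theorem card_fixed_le {B : Subgroup (MulAut (Bar E))} {K : List (List ℕ)}
    (hK : ∀ A ∈ K, ∃ x ∈ B, R.code x = A) :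
    Nat.card (fixed B) ≤
      ((List.range 4096).filter fun v => K.all fun A => Nat.beq (ap A v) v).length := by
  classical
  set L := (List.range 4096).filter fun v => K.all fun A => Nat.beq (ap A v) v with hL
  let f : fixed B → {v // v ∈ L} := fun m => ⟨(R.φ_surj m.1).choose, by
    obtain ⟨hv, hvm⟩ := (R.φ_surj m.1).choose_spec
    rw [hL, List.mem_filter]
    refine ⟨List.mem_range.2 hv, List.all_eq_true.2 fun A hA => ?_⟩
    obtain ⟨x, hx, rfl⟩ := hK A hA
    have h := m.2 x hx
    rw [← hvm, R.apply] at h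
    have hlt : ap (R.code x) (R.φ_surj m.1).choose < 4096 := ap_lt (n := 12) (R.mat_lt x) _
    rw [R.φ_inj hlt hv h]
    exact Nat.beq_refl _⟩
  have hf : Function.Injective f := fun a b e => by
    have e' : (R.φ_surj a.1).choose = (R.φ_surj b.1).choose := congrArg Subtype.val e
    apply Subtype.ext
    rw [← (R.φ_surj a.1).choose_spec.2, ← (R.φ_surj b.1).choose_spec.2, e']
  refine (Nat.card_le_card_of_injective f hf).trans ?_
  rw [Nat.card_congr (Equiv.subtypeEquivRight (fun v => (List.mem_toFinset (l := L)).symm)),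
    Nat.card_eq_finsetCard]
  exact List.toFinset_card_le L

/-- Subgroups of exponent two and order at least sixteen are given by one of two lists. -/
theorem elementary_lists {B : Subgroup (MulAut (Bar E))} (hB : B ≤ R.Q)
    (hexp : ∀ x ∈ B, x * x = 1) (h16 : 16 ≤ Nat.card B) :
    Nat.card B = 16 ∧ ∃ K ∈ [mK1, mK2], (∀ x ∈ B, x = 1 ∨ R.code x ∈ K) ∧
      ∀ A ∈ K, ∃ x ∈ B, R.code x = A := by
  classical
  haveI := R.finite_aut
  let idx : MulAut (Bar E) → ℕ := fun x => mInv.idxOf (R.code x)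
  let Bs : Finset (MulAut (Bar E)) := ((Set.toFinite (B : Set (MulAut (Bar E)))).toFinset).erase 1
  have hBs : ∀ x, x ∈ Bs ↔ x ∈ B ∧ x ≠ 1 := fun x => by simp [Bs, and_comm]
  have hlen : mInv.length = 35 := by decide +kernel
  have hidx : ∀ x ∈ Bs, idx x < 35 ∧ mInv.getD (idx x) [] = R.code x := by
    intro x hx
    obtain ⟨h1, h2⟩ := (hBs x).1 hx
    have hm := R.mem_mInv (hB h1) (hexp x h1) h2
    have hlt : mInv.idxOf (R.code x) < mInv.length := List.idxOf_lt_length_iff.2 hm
    refine ⟨hlen ▸ hlt, ?_⟩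
    rw [List.getD_eq_getElem (hn := hlt)]
    exact List.getElem_idxOf hlt
  have hinj : Set.InjOn idx Bs := fun a ha b hb e => R.mat_inj (by
    rw [← (hidx a ha).2, ← (hidx b hb).2, e])
  have hcard : (Bs.image idx).card = Nat.card B - 1 := by
    rw [Finset.card_image_of_injOn hinj, Finset.card_erase_of_mem (by simp [one_mem]),
      ← Nat.card_eq_card_finite_toFinset]
    rfl
  have hcomm : ∀ a ∈ B, ∀ b ∈ B, a * b = b * a := by
    intro a ha b hb
    have h := hexp (a * b) (mul_mem ha hb)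
    rw [← inv_eq_of_mul_eq_one_right h, mul_inv_rev, inv_eq_of_mul_eq_one_right (hexp b hb),
      inv_eq_of_mul_eq_one_right (hexp a ha)]
  have hs := search_sound 36 0 (2 ^ 35 - 1) search_ok (Bs.image idx)
    (fun i hi => by obtain ⟨x, hx, rfl⟩ := Finset.mem_image.1 hi; exact (hidx x hx).1) (by omega)
    (fun i hi => by
      obtain ⟨x, hx, rfl⟩ := Finset.mem_image.1 hi
      rw [Nat.zero_or, Nat.testBit_two_pow_sub_one, decide_eq_true_eq]
      exact (hidx x hx).1)
    (fun i hi j hj hne => by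
      obtain ⟨x, hx, rfl⟩ := Finset.mem_image.1 hi
      obtain ⟨y, hy, rfl⟩ := Finset.mem_image.1 hj
      have h := (List.all_eq_true.1 ((List.all_eq_true.1 com_ok) _ (List.mem_range.2 (hidx x hx).1)))
        _ (List.mem_range.2 (hidx y hy).1)
      rw [(hidx x hx).2, (hidx y hy).2, ← R.mat_mul, ← R.mat_mul,
        hcomm x ((hBs x).1 hx).1 y ((hBs y).1 hy).1] at h
      simp only [beq_self_eq_true, Bool.not_true, Bool.or_false, Bool.or_eq_true] at h
      exact h.resolve_left fun e => hne (Nat.eq_of_beq_eq_true e))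
  -- in either case all fifteen positions occur
  have main : ∀ (kI : List ℕ), kI.length = 15 → kI.Nodup → (∀ i ∈ Bs.image idx, i ∈ kI) →
      Nat.card B = 16 ∧ (∀ x ∈ B, x = 1 ∨ R.code x ∈ kI.map (fun i => mInv.getD i [])) ∧
      ∀ A ∈ kI.map (fun i => mInv.getD i []), ∃ x ∈ B, R.code x = A := by
    intro kI hl hnd hsub
    have hkc : kI.toFinset.card = 15 := by rw [List.toFinset_card_of_nodup hnd, hl]
    have hle : (Bs.image idx).card ≤ 15 :=
      hkc ▸ Finset.card_le_card fun i hi => List.mem_toFinset.2 (hsub i hi)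
    have heq : Bs.image idx = kI.toFinset :=
      Finset.eq_of_subset_of_card_le (fun i hi => List.mem_toFinset.2 (hsub i hi)) (by omega)
    refine ⟨by omega, fun x hx => ?_, fun A hA => ?_⟩
    · rcases eq_or_ne x 1 with h1 | h1
      · exact Or.inl h1
      · right
        have hxs : x ∈ Bs := (hBs x).2 ⟨hx, h1⟩
        exact List.mem_map.2 ⟨idx x, hsub _ (Finset.mem_image_of_mem _ hxs), (hidx x hxs).2⟩
    · obtain ⟨i, hi, rfl⟩ := List.mem_map.1 hA
      obtain ⟨x, hx, rfl⟩ := Finset.mem_image.1 (heq ▸ List.mem_toFinset.2 hi : i ∈ Bs.image idx)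
      exact ⟨x, ((hBs x).1 hx).1, ((hidx x hx).2).symm⟩
  rcases hs with h | h
  · obtain ⟨h1, h2, h3⟩ := main k1Idx rfl (by decide +kernel) h
    exact ⟨h1, mK1, List.mem_cons_self .., h2, h3⟩
  · obtain ⟨h1, h2, h3⟩ := main k2Idx rfl (by decide +kernel) h
    exact ⟨h1, mK2, List.mem_cons_of_mem _ (List.mem_cons_self ..), h2, h3⟩

/-- Subgroups of exponent two and order at least sixteen in the Sylow two-subgroup. -/
theorem elementary_cases {B : Subgroup (MulAut (Bar E))} (hB : B ≤ R.Q)
    (hexp : ∀ x ∈ B, x * x = 1) (h16 : 16 ≤ Nat.card B) :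
    Nat.card B = 16 ∧ Nat.card (fixed B) ≤ 64 ∧ (Nat.card (fixed B) ≤ 4 ∨ B = R.A0) := by
  obtain ⟨h1, K, hK, h2, h3⟩ := R.elementary_lists hB hexp h16
  rcases List.mem_cons.1 hK with rfl | hK
  · have := R.card_fixed_le (B := B) (K := mK1) h3
    rw [fix_K1] at this
    exact ⟨h1, by omega, Or.inl this⟩
  · obtain rfl : K = mK2 := List.mem_singleton.1 hK
    have := R.card_fixed_le (B := B) (K := mK2) h3
    rw [fix_K2] at this
    refine ⟨h1, this.trans (by decide +kernel), Or.inr ?_⟩
    refine le_antisymm (fun x hx => ?_) fun x hx => ?_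
    · show R.code x ∈ mI :: mK2
      rcases h2 x hx with rfl | h
      · rw [R.mat_one]; exact List.mem_cons_self ..
      · exact List.mem_cons_of_mem _ h
    · rcases List.mem_cons.1 (show R.code x ∈ mI :: mK2 from hx) with h | h
      · rw [R.mat_inj (h.trans R.mat_one.symm)]; exact one_mem B
      · obtain ⟨y, hy, hyx⟩ := h3 _ h
        rw [← R.mat_inj hyx]; exact hy

end Real

end Cfsg.Agent.H69.J4
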