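import Cfsg.Agent.H69.J4.FusionBase
import Cfsg.Agent.H85.BrauerSuzuki
import Cfsg.Agent.H8.Rank3Basic

/-!
A conjugate of `z` other than `z` in the elementary group of order `2 ^ 11`.
-/

set_option autoImplicit false

namespace Cfsg.Agent.H69.J4

open Subgroup

variable {G : Type*} [Group G] [Finite G]
variable {z : G} {E P N : Subgroup G} {d : Data z E P} {R : Real d}

/-- If products of two outsiders are inside, the index is at most two. -/
theorem card_le_two_mul {M : Type*} [Group M] [Finite M] (A B : Subgroup M)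
    (h : ∀ a ∈ A, ∀ b ∈ A, a ∉ B → b ∉ B → a * b ∈ B) :
    Nat.card A ≤ 2 * Nat.card ↥(A ⊓ B) := by
  classical
  by_cases hle : A ≤ B
  · rw [inf_eq_left.2 hle]; omega
  obtain ⟨a, ha, haB⟩ := SetLike.not_le_iff_exists.1 hle
  let f : A → Bool × ↥(A ⊓ B) := fun x => if hx : x.1 ∈ B then (true, ⟨x.1, x.2, hx⟩)
    else (false, ⟨a * x.1, mul_mem ha x.2, h a ha x.1 x.2 haB hx⟩)
  have hf : Function.Injective f := by
    intro p q e
    by_cases hp : p.1 ∈ B <;> by_cases hq : q.1 ∈ B <;> simp [f, hp, hq] at e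
    · exact Subtype.ext (congrArg (fun x : ↥(A ⊓ B) => (x : M)) e)
    · exact Subtype.ext (mul_left_cancel (congrArg (fun x : ↥(A ⊓ B) => (x : M)) e))
  refine (Nat.card_le_card_of_injective f hf).trans (le_of_eq ?_)
  simp [Nat.card_prod]

/-- A subgroup with more elements than a list has an element outside it. -/
theorem exists_not_mem_list {M : Type*} [Group M] [Finite M] (A : Subgroup M) (l : List M)
    (h : l.length < Nat.card A) : ∃ x ∈ A, x ∉ l := by
  classical
  by_contra hne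
  push Not at hne
  let f : A → {x // x ∈ l.toFinset} := fun x => ⟨x, List.mem_toFinset.2 (hne x x.2)⟩
  have := Nat.card_le_card_of_injective f fun a b e =>
    Subtype.ext (congrArg (fun x : {x // x ∈ l.toFinset} => (x : M)) e)
  rw [Nat.card_eq_finsetCard] at this
  exact absurd (this.trans (List.toFinset_card_le l)) (by omega)

/-- Some conjugate of `z` other than `z` commutes with `z`. -/
theorem exists_conj_commute [IsSimpleGroup G] (hG : ¬ IsMulCommutative G) (hz : orderOf z = 2) :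
    ∃ g : G, g * z * g⁻¹ ∈ centralizer ({z} : Set G) ∧ g * z * g⁻¹ ≠ z := by
  by_contra h
  push Not at h
  have hiso : Cfsg.IsIsolatedInvolution z := ⟨hz, fun g hg =>
    h g (mem_centralizer_singleton_iff.2 hg.symm.eq)⟩
  have hc := H85.zStar hiso
  have hz1 : z ∈ center G := by
    refine Subgroup.mem_center_iff.2 fun g => ?_
    have h1 := hc g
    rw [H8.Rank3.pPrimeCore_eq_bot hG, Subgroup.mem_bot] at h1
    have h2 : z * g * z⁻¹ = g := mul_inv_eq_one.1 h1
    exact (mul_inv_eq_iff_eq_mul.1 h2).symm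
  have hne : z ≠ 1 := fun e => by rw [e, orderOf_one] at hz; exact absurd hz (by norm_num)
  rcases (inferInstance : (center G).Normal).eq_bot_or_eq_top with e | e
  · rw [e, Subgroup.mem_bot] at hz1; exact hne hz1
  · exact hG ⟨⟨fun a b => (Subgroup.mem_center_iff.1 (e ▸ Subgroup.mem_top b : b ∈ center G) a)⟩⟩

/-- Transport from the centralizer of a conjugate of `z`. -/
def kap {g v : G} (hg : g * z * g⁻¹ = v) :
    ↥(centralizer ({v} : Set G)) →* ↥(centralizer ({z} : Set G)) where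
  toFun x := ⟨g⁻¹ * x * g, mem_centralizer_singleton_iff.2 (by
    have h : (x : G) * v = v * x := mem_centralizer_singleton_iff.1 x.2
    calc g⁻¹ * x * g * z = g⁻¹ * (x * (g * z * g⁻¹)) * g := by group
      _ = g⁻¹ * (g * z * g⁻¹ * x) * g := by rw [hg, h]
      _ = z * (g⁻¹ * x * g) := by group)⟩
  map_one' := Subtype.ext (by simp)
  map_mul' a b := Subtype.ext (by simp [mul_assoc])

omit [Finite G] in
theorem kap_coe {g v : G} (hg : g * z * g⁻¹ = v) (x : ↥(centralizer ({v} : Set G))) :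
    (kap hg x : G) = g⁻¹ * x * g := rfl

namespace Real

variable (R)

/-- The outcome: a conjugate of `z` other than `z` in `V₀`. -/
def Fused : Prop := ∃ g : G, g * z * g⁻¹ ∈ R.V0 ∧ g * z * g⁻¹ ≠ z

theorem qv_one : R.qv 1 = 1 := by
  rcases zmod2_cases (R.qv 1) with h | h
  swap
  · exact h
  exfalso
  have key : ∀ n v, walk n v = true → R.qv v = 0 := by
    intro n
    induction n with
    | zero =>
      intro v hv
      simp only [walk, Bool.or_eq_true] at hv
      rcases hv with hv | hv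
      · rcases lt_or_ge v 4096 with hlt | hge
        · have := (List.all_eq_true.1 sMask_ok) v (List.mem_range.2 hlt)
          simp only [hv, Bool.not_true, Bool.false_or, List.contains_iff_mem] at this
          exact R.qv_sVec this
        · exfalso
          have hb : sMask < 2 ^ 4096 := by decide +kernel
          rw [Nat.testBit_lt_two_pow (lt_of_lt_of_le hb (Nat.pow_le_pow_right (by norm_num) hge))] at hv
          exact Bool.false_ne_true hv
      · rw [Nat.eq_of_beq_eq_true hv]; exact h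
    | succ n ih =>
      intro v hv
      simp only [walk, Bool.or_eq_true] at hv
      rcases hv with (hv | hv) | hv
      · rcases lt_or_ge v 4096 with hlt | hge
        · have := (List.all_eq_true.1 sMask_ok) v (List.mem_range.2 hlt)
          simp only [hv, Bool.not_true, Bool.false_or, List.contains_iff_mem] at this
          exact R.qv_sVec this
        · exfalso
          have hb : sMask < 2 ^ 4096 := by decide +kernel
          rw [Nat.testBit_lt_two_pow (lt_of_lt_of_le hb (Nat.pow_le_pow_right (by norm_num) hge))] at hv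
          exact Bool.false_ne_true hv
      · rw [Nat.eq_of_beq_eq_true hv]; exact h
      · have h1 := ih _ hv
        rwa [← R.mat_letter, R.qv_apply] at h1
  have hall : ∀ a ∈ E, a * a = 1 := by
    intro a ha
    obtain ⟨v, hv, hva⟩ := R.φ_surj (QuotientGroup.mk ⟨a, ha⟩)
    have hq : Data.quad a = 0 := by
      rw [← R.qv_mk ⟨a, ha⟩ v hva]
      rcases Nat.eq_zero_or_pos v with rfl | hpos
      · exact R.qv_sVec (by decide +kernel)
      · refine key 12 v ?_
        have := (List.all_eq_true.1 walk_ok) v (List.mem_range.2 hv)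
        simpa [show Nat.beq v 0 = false from by
          cases h0 : Nat.beq v 0
          · rfl
          · exact absurd (Nat.eq_of_beq_eq_true h0) hpos.ne'] using this
    rw [d.sq_eq ha, hq]; rfl
  have hb := d.abelian_bound (le_refl E) fun a ha b hb => by
    rw [← inv_eq_of_mul_eq_one_right (hall (a * b) (mul_mem ha hb)), mul_inv_rev,
      inv_eq_of_mul_eq_one_right (hall b hb), inv_eq_of_mul_eq_one_right (hall a ha)]
  have := hb.1
  rw [d.cardE] at this
  norm_num at this

/-- By the table, a nonzero vector is moved into the fixed space or to the first representative. -/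
theorem exists_walk : ∀ n v, v < 4096 → walk n v = true → ∃ h ∈ Outer.cP z P, ∃ v' < 4096,
    d.ρ h (R.φ v) = R.φ v' ∧ (v' ∈ sVec ∨ v' = 1) := by
  have base : ∀ v, v < 4096 → (sMask.testBit v || Nat.beq v 1) = true →
      ∃ h ∈ Outer.cP z P, ∃ v' < 4096, d.ρ h (R.φ v) = R.φ v' ∧ (v' ∈ sVec ∨ v' = 1) := by
    intro v hlt hv
    refine ⟨1, one_mem _, v, hlt, by rw [map_one, MulAut.one_apply], ?_⟩
    rw [Bool.or_eq_true] at hv
    rcases hv with h | h
    · left
      have := (List.all_eq_true.1 sMask_ok) v (List.mem_range.2 hlt)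
      simpa [h] using this
    · exact Or.inr (Nat.eq_of_beq_eq_true h)
  intro n
  induction n with
  | zero => intro v hlt hv; exact base v hlt hv
  | succ n ih =>
    intro v hlt hv
    rw [walk] at hv
    rw [Bool.or_eq_true] at hv
    rcases hv with h | h
    · exact base v hlt h
    · set i := (stepTable >>> (2 * v)) % 4
      have hlt' : ap (letter i) v < 4096 := by
        rw [← R.mat_letter]; exact ap_lt (n := 12) (R.mat_lt _) v
      obtain ⟨k, hk, v', hv', he, hor⟩ := ih _ hlt' h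
      refine ⟨k * R.g i, mul_mem hk (R.memC i), v', hv', ?_, hor⟩
      rw [map_mul, MulAut.mul_apply, R.apply (d.ρ (R.g i)), R.mat_letter, he]

/-- Involutions of `E` other than `z` are conjugate in `H` into `V₀`. -/
theorem exists_conj_sHat {v : G} (hv : v ∈ E) (hv2 : v * v = 1) (hv1 : v ≠ 1) (hvz : v ≠ z) :
    ∃ h ∈ centralizer ({z} : Set G), h * v * h⁻¹ ∈ R.V0 := by
  obtain ⟨w, hw, hwv⟩ := R.φ_surj (QuotientGroup.mk ⟨v, hv⟩)
  have hw0 : Nat.beq w 0 = false := by
    cases h0 : Nat.beq w 0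
    · rfl
    · exfalso
      rw [Nat.eq_of_beq_eq_true h0, R.φ_zero] at hwv
      rcases (d.mk_eq_one).1 hwv.symm with e | e
      · exact hv1 e
      · exact hvz e
  have hwalk := (List.all_eq_true.1 walk_ok) w (List.mem_range.2 hw)
  rw [hw0, Bool.false_or] at hwalk
  obtain ⟨h, -, v', hv', he, hor⟩ := R.exists_walk 12 w hw hwalk
  have hE : (h : G) * v * (h : G)⁻¹ ∈ E := d.L.conj_mem h.2 hv
  have hmk : (QuotientGroup.mk (⟨_, hE⟩ : E) : Bar E) = R.φ v' := by
    rw [← he, hwv, d.ρ_mk]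
  refine ⟨h, h.2, R.sHat_le_V0 ⟨hE, ?_⟩⟩
  rw [hmk]
  rcases hor with hs | hs
  · exact (R.fixed_A0 _).2 ⟨v', hs, rfl⟩
  · exfalso
    have h1 := R.qv_one
    rw [← hs, R.qv_mk ⟨_, hE⟩ v' hmk.symm] at h1
    have hsq : (h : G) * v * (h : G)⁻¹ * ((h : G) * v * (h : G)⁻¹) = 1 := by
      rw [← MulAut.conj_apply, ← map_mul, hv2, map_one]
    classical
    simp only [Data.quad, hsq, if_true] at h1
    exact absurd h1 (by decide)

variable {R}

/-- The hypothesis that `z` is the only conjugate of `z` in `E`. -/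
def Lonely (d : Data z E P) : Prop := ∀ g : G, g * z * g⁻¹ ∈ E → g * z * g⁻¹ = z

theorem Lonely.inv (hI : Lonely d) {g : G} (h : g⁻¹ * z * g ∈ E) : g⁻¹ * z * g = z := by
  have := hI g⁻¹ (by rwa [inv_inv])
  rwa [inv_inv] at this

variable {e : ↥(centralizer ({z} : Set G)) →* MulAut ↥Cfsg.Spor.M22}

theorem exists_involution_conj {g : G} (hz : z * z = 1) :
    g * z * g⁻¹ * (g * z * g⁻¹) = 1 := by
  rw [← MulAut.conj_apply, ← map_mul, hz, map_one]

/-- A conjugate of `z` whose image lies in the linear part gives fusion. -/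
theorem fused_of_linear (o : Outer z E P N e) (hI : Lonely d) {g₀ : G}
    (hH : g₀ * z * g₀⁻¹ ∈ centralizer ({z} : Set G)) (hne : g₀ * z * g₀⁻¹ ≠ z)
    (hY : d.ρ ⟨_, hH⟩ ∈ Outer.Y d) : R.Fused := by
  classical
  haveI := R.finite_aut
  obtain ⟨u, hu⟩ := R.exists_base
  have hx1 : d.ρ ⟨_, hH⟩ ≠ 1 := fun h => hne (hI g₀ ((d.mem_ker_iff).1 h))
  have hx2 : d.ρ ⟨_, hH⟩ * d.ρ ⟨_, hH⟩ = 1 := by
    rw [← map_mul, show (⟨_, hH⟩ : centralizer ({z} : Set G)) * ⟨_, hH⟩ = 1 from
      Subtype.ext (exists_involution_conj d.L.zz), map_one]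
  obtain ⟨c, -, hcode⟩ := R.exists_conj_code o hY hx2 hx1
  set g : G := (c : G) * g₀ with hg
  set v : G := g * z * g⁻¹ with hv
  have hvH : v ∈ centralizer ({z} : Set G) := by
    rw [hv, hg, show (c : G) * g₀ * z * ((c : G) * g₀)⁻¹ = c * (g₀ * z * g₀⁻¹) * (c : G)⁻¹ by group]
    exact mul_mem (mul_mem c.2 hH) (inv_mem c.2)
  have hρv : d.ρ ⟨v, hvH⟩ = d.ρ hu.el := by
    refine R.mat_inj ?_
    rw [show R.code (d.ρ hu.el) = mA from hu.code, ← hcode, ← map_inv, ← map_mul, ← map_mul]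
    refine congrArg R.code (congrArg d.ρ (Subtype.ext ?_))
    show v = (c : G) * (g₀ * z * g₀⁻¹) * (c : G)⁻¹
    rw [hv, hg]; group
  have hvE : v ∉ E := fun h => hx1 (by
    have h1 : d.ρ hu.el = 1 := hρv ▸ (d.mem_ker_iff (h := ⟨v, hvH⟩)).2 h
    exact absurd ((d.mem_ker_iff).1 h1) hu.not_mem_E)
  have hvz : v ≠ z := fun h => hvE (h ▸ d.L.z_mem)
  have hv2 : v * v = 1 := exists_involution_conj d.L.zz
  have hu2 : u * u = 1 := R.V0_sq hu.mem
  have heE : u * v ∈ E := by
    have h1 : d.ρ (hu.el * ⟨v, hvH⟩) = 1 := by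
      rw [map_mul, hρv, ← map_mul, show hu.el * hu.el = 1 from Subtype.ext hu2, map_one]
    exact (d.mem_ker_iff).1 h1
  set e0 : G := u * v with he0
  have hve : v = u * e0 := by rw [he0, ← mul_assoc, hu2, one_mul]
  -- the second factor commutes with the base
  have hue : u * e0 = e0 * u := by
    refine hu.fix_comm ⟨e0, heE⟩ ?_
    rw [d.ρ_mk]
    have hsq : e0 * e0 = 1 ∨ e0 * e0 = z := d.L.sq_cases heE
    have h1 : u * e0 * u⁻¹ = e0⁻¹ := by
      rw [he0, mul_inv_rev, inv_eq_of_mul_eq_one_right hv2, hu.inv, ← mul_assoc u u, hu2, one_mul]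
    rw [d.mk_eq_iff]
    show e0 = u * e0 * u⁻¹ ∨ e0 = u * e0 * u⁻¹ * z
    rw [h1]
    rcases hsq with h | h
    · left; exact (inv_eq_of_mul_eq_one_right h).symm
    · right; rw [← h, inv_mul_cancel_left]
  by_cases hcen : ∀ x ∈ E, u * x = x * u → x * e0 = e0 * x
  · refine ⟨g, ?_, hvz⟩
    show v ∈ R.V0
    rw [hve]
    exact mul_mem hu.mem (R.sHat_le_V0 (hu.rHat_le_sHat (hu.mem_rHat_of_comm heE hcen)))
  exfalso
  push Not at hcen
  obtain ⟨f₀, hf₀, hf₀u, hf₀e⟩ := hcen
  have hcl : ∀ {x : G}, x ∈ E → (x * v = v * x ↔ u * x = x * u ∧ x * e0 = e0 * x) := by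
    intro x hx
    constructor
    · intro h
      have hxu : u * x = x * u := by
        refine hu.fix_comm ⟨x, hx⟩ ?_
        rw [← hρv, d.ρ_mk]
        refine congrArg QuotientGroup.mk (Subtype.ext ?_)
        show v * x * v⁻¹ = x
        rw [← h, mul_inv_cancel_right]
      refine ⟨hxu, ?_⟩
      rw [hve, ← mul_assoc, ← hxu, mul_assoc, mul_assoc u] at h
      exact mul_left_cancel h
    · rintro ⟨h1, h2⟩
      rw [hve]
      exact ((show Commute x u from h1.symm).mul_right h2).eq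
  have hf₀v : f₀ * v * f₀⁻¹ = v * z := by
    have h1 : f₀ * e0 * f₀⁻¹ = z * e0 := (d.L.conj_cases hf₀ heE).resolve_left fun h => hf₀e h
    have h2 : f₀ * u * f₀⁻¹ = u := by rw [← hf₀u, mul_inv_cancel_right]
    calc f₀ * v * f₀⁻¹ = (f₀ * u * f₀⁻¹) * (f₀ * e0 * f₀⁻¹) := by rw [hve]; group
      _ = u * (z * e0) := by rw [h1, h2]
      _ = u * (e0 * z) := by rw [d.L.commute_z heE]
      _ = v * z := by rw [hve]; group
  -- the centralizer of the conjugate in `E`
  set D : Subgroup G := E ⊓ centralizer ({v} : Set G) with hD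
  have hDmem : ∀ {x : G}, x ∈ D ↔ x ∈ E ∧ x * v = v * x := by
    intro x; rw [hD, Subgroup.mem_inf, mem_centralizer_singleton_iff]
  have hcardD : 256 ≤ Nat.card D := by
    have h1 := card_le_two_mul (E ⊓ centralizer ({u} : Set G)) (centralizer ({v} : Set G))
      (fun a ha b hb hav hbv => by
        have hau : u * a = a * u := (mem_centralizer_singleton_iff.1 ha.2).symm
        have hbu : u * b = b * u := (mem_centralizer_singleton_iff.1 hb.2).symm
        have hae : ¬ a * e0 = e0 * a := fun h =>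
          hav (mem_centralizer_singleton_iff.2 ((hcl ha.1).2 ⟨hau, h⟩))
        have hbe : ¬ b * e0 = e0 * b := fun h =>
          hbv (mem_centralizer_singleton_iff.2 ((hcl hb.1).2 ⟨hbu, h⟩))
        refine mem_centralizer_singleton_iff.2 ((hcl (mul_mem ha.1 hb.1)).2
          ⟨((show Commute u a from hau).mul_right hbu).eq, ?_⟩)
        have ha' : a * e0 * a⁻¹ = z * e0 := (d.L.conj_cases ha.1 heE).resolve_left fun h =>
          hae h
        have hb' : b * e0 * b⁻¹ = z * e0 := (d.L.conj_cases hb.1 heE).resolve_left fun h =>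
          hbe h
        have haz : a * z * a⁻¹ = z := by rw [d.L.commute_z ha.1, mul_inv_cancel_right]
        rw [← mul_inv_eq_iff_eq_mul]
        calc a * b * e0 * (a * b)⁻¹ = a * (b * e0 * b⁻¹) * a⁻¹ := by group
          _ = (a * z * a⁻¹) * (a * e0 * a⁻¹) := by rw [hb']; group
          _ = z * (z * e0) := by rw [haz, ha']
          _ = e0 := by rw [← mul_assoc, d.L.zz, one_mul])
    have h2 := hu.card_cent
    have h3 : Nat.card ↥(E ⊓ centralizer ({u} : Set G) ⊓ centralizer ({v} : Set G)) ≤ Nat.card D :=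
      card_le_of_le fun x hx => ⟨hx.1.1, hx.2⟩
    omega
  let F : ↥D →* MulAut (Bar E) :=
    d.ρ.comp ((kap hv.symm).comp (Subgroup.inclusion (inf_le_right : D ≤ centralizer ({v} : Set G))))
  have hFker : ∀ {x : ↥D}, x ∈ F.ker → g⁻¹ * x * g ∈ E := fun hx => (d.mem_ker_iff).1 hx
  -- the moved subgroup meets the kernel trivially
  have hrD : ∀ {x : G}, x ∈ hu.rHat → x ∈ D := fun hx => by
    have hxE := moveSub_le _ hx
    have hxu : u * _ = _ * u := (R.V0_elementary.1.is_comm.comm ⟨u, hu.mem⟩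
      ⟨_, R.sHat_le_V0 (hu.rHat_le_sHat hx)⟩ |> congrArg Subtype.val)
    exact hDmem.2 ⟨hxE, (hcl hxE).2 ⟨hxu, (hu.rHat_comm hx heE hue).symm⟩⟩
  have hmv : ∀ {x : G}, x ∈ hu.rHat → ∃ f ∈ E, f * v * f⁻¹ = x * v := by
    intro x hx
    have hx2 : x * x = 1 := R.sHat_sq (hu.rHat_le_sHat hx)
    have hxE := moveSub_le _ hx
    have hxz : x * z = z * x := d.L.commute_z hxE
    obtain ⟨f, hf, hfx⟩ := exists_commutator hu.el hx
    change x = u * f * u⁻¹ * f⁻¹ ∨ x = u * f * u⁻¹ * f⁻¹ * z at hfx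
    have hfz : f * z = z * f := d.L.commute_z hf
    have hzu : u * z = z * u := mem_centralizer_singleton_iff.1 hu.mem.1
    have hfu : f * u * f⁻¹ = x * u ∨ f * u * f⁻¹ = x * u * z := by
      have hxi : x⁻¹ = x := inv_eq_of_mul_eq_one_right hx2
      rcases hfx with h | h
      · left
        rw [← hxi, h]; group
      · right
        have h' : x * z = u * f * u⁻¹ * f⁻¹ := by rw [h, mul_assoc, d.L.zz, mul_one]
        have h'' : z * x = f * u * f⁻¹ * u⁻¹ := by
          rw [← inv_eq_of_mul_eq_one_right d.L.zz, ← hxi, ← mul_inv_rev, h']; group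
        rw [mul_assoc x u z, hzu, ← mul_assoc, hxz, h'']; group
    have hfe : f * e0 * f⁻¹ = e0 ∨ f * e0 * f⁻¹ = z * e0 :=
      (d.L.conj_cases hf heE).imp_left fun h => mul_inv_eq_iff_eq_mul.2 h
    have hkey : f * v * f⁻¹ = x * v ∨ f * v * f⁻¹ = x * v * z := by
      have he : f * v * f⁻¹ = (f * u * f⁻¹) * (f * e0 * f⁻¹) := by rw [hve]; group
      rw [he]
      rcases hfu with h | h <;> rcases hfe with h' | h' <;> rw [h, h']
      · left; rw [hve, mul_assoc]
      · right; rw [hve, ← d.L.commute_z heE]; group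
      · right; rw [hve, mul_assoc _ z, ← d.L.commute_z heE]; group
      · left; rw [hve, ← mul_assoc (x * u * z), mul_assoc (x * u) z z, d.L.zz, mul_one, mul_assoc]
    rcases hkey with h | h
    · exact ⟨f, hf, h⟩
    · refine ⟨f₀ * f, mul_mem hf₀ hf, ?_⟩
      have hxf : f₀ * x * f₀⁻¹ = x := by
        rw [(hu.rHat_comm hx hf₀ hf₀u), mul_inv_cancel_right]
      have hzf : f₀ * z * f₀⁻¹ = z := by rw [d.L.commute_z hf₀, mul_inv_cancel_right]
      calc f₀ * f * v * (f₀ * f)⁻¹ = f₀ * (f * v * f⁻¹) * f₀⁻¹ := by group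
        _ = (f₀ * x * f₀⁻¹) * (f₀ * v * f₀⁻¹) * (f₀ * z * f₀⁻¹) := by rw [h]; group
        _ = x * v * (z * z) := by rw [hxf, hf₀v, hzf]; group
        _ = x * v := by rw [d.L.zz, mul_one]
  have hinj : ∀ {x : G} (hx : x ∈ hu.rHat), F ⟨x, hrD hx⟩ = 1 → x = 1 := by
    intro x hx h1
    have hxE : g⁻¹ * x * g ∈ E := hFker (MonoidHom.mem_ker.2 h1)
    obtain ⟨f, hf, hfx⟩ := hmv hx
    have he : g⁻¹ * f * g * z * (g⁻¹ * f * g)⁻¹ = g⁻¹ * x * g * z := by
      calc g⁻¹ * f * g * z * (g⁻¹ * f * g)⁻¹ = g⁻¹ * (f * (g * z * g⁻¹) * f⁻¹) * g := by group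
        _ = g⁻¹ * (x * v) * g := by rw [← hv, hfx]
        _ = g⁻¹ * x * g * z := by rw [hv]; group
    have h2 := hI (g⁻¹ * f * g) (by rw [he]; exact mul_mem hxE d.L.z_mem)
    rw [he, mul_eq_right] at h2
    have h3 : g⁻¹ * x = g⁻¹ := mul_eq_one_iff_eq_inv.1 h2
    exact mul_eq_left.1 h3
  -- the kernel is central
  have hR0 : ∀ r ∈ F.ker, ∀ x : ↥D, (r : G) * x = x * r := by
    intro r hr x
    rcases d.L.conj_cases r.2.1 x.2.1 with h | h
    · exact h
    · exfalso
      have hr' : g⁻¹ * r * g ∈ E := hFker hr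
      have hxH : g⁻¹ * (x : G) * g ∈ centralizer ({z} : Set G) :=
        (kap hv.symm ⟨x, x.2.2⟩).2
      have hzE : g⁻¹ * z * g ∈ E := by
        have h1 : g⁻¹ * z * g = (g⁻¹ * r * g) * ((g⁻¹ * x * g) * (g⁻¹ * r * g)⁻¹ * (g⁻¹ * x * g)⁻¹) := by
          have h2 : z = (r : G) * x * (r : G)⁻¹ * (x : G)⁻¹ := by rw [h, mul_inv_cancel_right]
          conv_lhs => rw [h2]
          group
        rw [h1]
        exact mul_mem hr' (d.L.conj_mem hxH (inv_mem hr'))
      have h3 := hI.inv hzE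
      refine hvz ?_
      rw [hv]
      conv_lhs => rw [← h3]
      group
  -- so the image is large
  have hker4 : Nat.card F.ker ≤ 4 := by
    set K0 := F.ker.map D.subtype
    set A := K0 ⊔ hu.rHat with hA
    have hK0E : K0 ≤ E := by rintro _ ⟨r, -, rfl⟩; exact r.2.1
    have hAE : A ≤ E := sup_le hK0E (moveSub_le _)
    have hrc : hu.rHat ≤ centralizer (hu.rHat : Set G) := fun x hx => mem_centralizer_iff.2 fun y hy =>
      R.sHat_comm (hu.rHat_le_sHat hy) (hu.rHat_le_sHat hx)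
    have hK1 : K0 ≤ centralizer (K0 : Set G) := by
      rintro _ ⟨r, hr, rfl⟩
      exact mem_centralizer_iff.2 fun y ⟨s, hs, hsy⟩ => hsy ▸ hR0 s hs r
    have hK2 : hu.rHat ≤ centralizer (K0 : Set G) := fun x hx => mem_centralizer_iff.2 fun y ⟨s, hs, hsy⟩ =>
      hsy ▸ hR0 s hs ⟨x, hrD hx⟩
    have hAc : A ≤ centralizer (A : Set G) := by
      rw [hA]
      refine sup_le ?_ ?_ <;> rw [Subgroup.le_centralizer_iff]
      · exact sup_le hK1 hK2
      · exact sup_le (Subgroup.le_centralizer_iff.1 hK2) hrc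
    have h128 := (d.abelian_bound hAE fun a ha b hb => (mem_centralizer_iff.1 (hAc ha) b hb).symm).1
    have hprod : Nat.card F.ker * Nat.card hu.rHat ≤ Nat.card A := by
      rw [← Nat.card_prod]
      refine Nat.card_le_card_of_injective
        (fun p => (⟨((p.1 : ↥D) : G) * p.2, mul_mem (hA ▸ Subgroup.mem_sup_left ⟨p.1.1, p.1.2, rfl⟩)
          (hA ▸ Subgroup.mem_sup_right p.2.2)⟩ : A)) ?_
      rintro ⟨⟨r, hr⟩, ⟨x, hx⟩⟩ ⟨⟨r', hr'⟩, ⟨x', hx'⟩⟩ h
      have h' : (r : G) * x = (r' : G) * x' := congrArg (fun a : A => (a : G)) h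
      have hxx : x * x'⁻¹ = (r : G)⁻¹ * r' := by
        calc x * x'⁻¹ = (r : G)⁻¹ * ((r : G) * x) * x'⁻¹ := by group
          _ = _ := by rw [h']; group
      have h1 : x * x'⁻¹ = 1 := by
        refine hinj (mul_mem hx (inv_mem hx')) ?_
        have : (⟨x * x'⁻¹, hrD (mul_mem hx (inv_mem hx'))⟩ : ↥D) = r⁻¹ * r' := Subtype.ext hxx
        rw [this]; exact mul_mem (inv_mem hr) hr'
      have e1 : x = x' := mul_inv_eq_one.1 h1
      subst e1
      have e2 : r = r' := Subtype.ext (mul_right_cancel h')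
      subst e2
      rfl
    rw [hu.card_rHat] at hprod
    omega
  have hrange : 64 ≤ Nat.card F.range := by
    rw [← Subgroup.index_ker]
    have h1 := Subgroup.card_mul_index F.ker
    have h2 := Nat.mul_le_mul hker4 (le_refl F.ker.index)
    omega
  have htwo : ∀ (A : Subgroup (MulAut (Bar E))), A ≤ F.range →
      Nat.card A ≤ 2 * Nat.card ↥(A ⊓ Outer.Y d) := fun A hA =>
    card_le_two_mul A _ fun a ha b hb haY hbY => by
      obtain ⟨s, rfl⟩ := hA ha
      obtain ⟨t, rfl⟩ := hA hb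
      show d.ρ _ * d.ρ _ ∈ _
      rw [← map_mul]
      exact R.mul_mem_Y o haY hbY
  set Rm := (hu.rHat.subgroupOf D).map F with hRm
  have hRcard : Nat.card Rm = 32 := by
    rw [← hu.card_rHat, ← Nat.card_congr (subgroupOfEquivOfLe fun x hx => hrD hx).toEquiv]
    refine (Nat.card_congr (Equiv.ofBijective
      (fun x : ↥(hu.rHat.subgroupOf D) => (⟨F x, x, x.2, rfl⟩ : Rm)) ⟨fun a b h => ?_, ?_⟩)).symm
    · have h1 : F (a.1 * b.1⁻¹) = 1 := by
        have hab : F a.1 = F b.1 := congrArg Subtype.val h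
        rw [map_mul, map_inv, hab, mul_inv_cancel]
      have h2 := hinj (x := ((a.1 * b.1⁻¹ : ↥D) : G)) (mul_mem a.2 (inv_mem b.2)) h1
      exact Subtype.ext (mul_inv_eq_one.1 (Subtype.ext h2 : a.1 * b.1⁻¹ = 1))
    · rintro ⟨_, x, hx, rfl⟩
      exact ⟨⟨x, hx⟩, rfl⟩
  have hRle : Rm ≤ F.range := Subgroup.map_le_range _ _
  set B := F.range ⊓ Outer.Y d
  set K := Rm ⊓ Outer.Y d
  have hB : 32 ≤ Nat.card B := by
    have := htwo _ le_rfl
    show 32 ≤ Nat.card ↥(F.range ⊓ Outer.Y d)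
    omega
  have hK : 16 ≤ Nat.card K := by
    have := htwo _ hRle
    show 16 ≤ Nat.card ↥(Rm ⊓ Outer.Y d)
    omega
  have hKB : K ≤ B := inf_le_inf_right _ hRle
  have hKc : ∀ k ∈ K, ∀ b ∈ B, b * k = k * b := by
    rintro _ ⟨⟨x, hx, rfl⟩, -⟩ _ ⟨⟨s, rfl⟩, -⟩
    rw [← map_mul, ← map_mul]
    refine congrArg F (Subtype.ext ?_)
    obtain ⟨hs1, -⟩ := (hcl s.2.1).1 (hDmem.1 s.2).2
    exact hu.rHat_comm hx s.2.1 hs1
  have hKexp : ∀ k ∈ K, k * k = 1 := by
    rintro _ ⟨⟨x, hx, rfl⟩, -⟩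
    rw [← map_mul, show x * x = 1 from Subtype.ext (R.sHat_sq (hu.rHat_le_sHat hx)), map_one]
  have hBp : IsPGroup 2 B := by
    have hp : IsPGroup 2 ↥D := d.L.isPGroup_E.to_le inf_le_left
    exact (hp.of_surjective F.rangeRestrict F.rangeRestrict_surjective).to_le inf_le_left
  obtain ⟨y, -, hy⟩ := R.exists_conj_le_Q o (inf_le_right : B ≤ Outer.Y d) hBp
  set B' := B.map (MulAut.conj y).toMonoidHom
  set K' := K.map (MulAut.conj y).toMonoidHom
  have hK'Q : K' ≤ R.Q := by rintro _ ⟨k, hk, rfl⟩; exact hy k (hKB hk)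
  have hK'16 : 16 ≤ Nat.card K' := by
    rwa [← Nat.card_congr (K.equivMapOfInjective _ (MulAut.conj y).injective).toEquiv]
  obtain ⟨-, L, hL, -, hLK⟩ := R.elementary_lists hK'Q (by
    rintro _ ⟨k, hk, rfl⟩; rw [← map_mul, hKexp k hk, map_one]) hK'16
  have hsub : ∀ b ∈ B', R.code b ∈ mI :: L := by
    rintro _ ⟨b, hb, rfl⟩
    have h := (List.all_eq_true.1 ((List.all_eq_true.1 cent_K) L hL)) _ (hy b hb)
    rw [Bool.or_eq_true, Bool.not_eq_true', List.contains_iff_mem] at h
    refine h.resolve_left fun h1 => ?_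
    obtain ⟨A, hA, hne'⟩ := List.all_eq_false.1 h1
    obtain ⟨_, ⟨k, hk, rfl⟩, rfl⟩ := hLK A hA
    refine hne' ?_
    rw [beq_iff_eq, ← R.mat_mul, ← R.mat_mul]
    refine congrArg R.code ?_
    show (MulAut.conj y) b * (MulAut.conj y) k = (MulAut.conj y) k * (MulAut.conj y) b
    rw [← map_mul, ← map_mul, hKc k hk b hb]
  have hB'16 : Nat.card B' ≤ 16 := by
    have hlen : (mI :: L).length ≤ 16 := by
      rcases List.mem_cons.1 hL with rfl | hL
      · simp [k_len.1]
      · rw [List.mem_singleton.1 hL]; simp [k_len.2]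
    let f : B' → {A // A ∈ (mI :: L).toFinset} := fun b => ⟨R.code b, List.mem_toFinset.2 (hsub b b.2)⟩
    have := Nat.card_le_card_of_injective f fun a b h => Subtype.ext (R.mat_inj
      (congrArg (fun A : {A // A ∈ (mI :: L).toFinset} => (A : List ℕ)) h))
    rw [Nat.card_eq_finsetCard] at this
    exact this.trans ((List.toFinset_card_le _).trans hlen)
  rw [← Nat.card_congr (B.equivMapOfInjective _ (MulAut.conj y).injective).toEquiv] at hB'16
  omega

/-- For an element outside the linear part, pairs of fixed vectors inject. -/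
theorem pair_injective (R : Real d) (o : Outer z E P N e) {h : centralizer ({z} : Set G)}
    (hh : d.ρ h ∉ Outer.Y d) : Function.Injective
      (fun p : {m : Bar E // d.ρ h m = m} × {m : Bar E // d.ρ h m = m} => p.1.1 * d.ρ (R.g 3) p.2.1) := by
  set σ := d.ρ h
  set w := d.ρ (R.g 3)
  have haw : σ * w = w * w * σ := R.outer_apply o hh
  have hap : ∀ u, σ (w u) = w (w (σ u)) := fun u => DFunLike.congr_fun haw u
  let f : {m : Bar E // σ m = m} × {m : Bar E // σ m = m} → Bar E := fun p => p.1.1 * w p.2.1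
  have hf : Function.Injective f := by
    rintro ⟨⟨x, hx⟩, ⟨y, hy⟩⟩ ⟨⟨x', hx'⟩, ⟨y', hy'⟩⟩ h'
    change x * w y = x' * w y' at h'
    have hy2 : y = y' := by
      have h1 := congrArg σ h'
      rw [map_mul, map_mul, hap, hap, hx, hx', hy, hy'] at h1
      have h2 : (w (w y))⁻¹ * w y = (w (w y'))⁻¹ * w y' := by
        calc (w (w y))⁻¹ * w y = (x * w (w y))⁻¹ * (x * w y) := by group
          _ = (x' * w (w y'))⁻¹ * (x' * w y') := by rw [h1, h']
          _ = _ := by group
      have hq : (y * y'⁻¹) = 1 := by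
        refine R.fpf _ ?_
        show w _ = _
        have h3 : (w (w (y * y'⁻¹)))⁻¹ * w (y * y'⁻¹) = 1 := by
          simp only [map_mul, map_inv, mul_inv_rev, inv_inv]
          calc w (w y') * (w (w y))⁻¹ * (w y * (w y')⁻¹)
              = w (w y') * ((w (w y))⁻¹ * w y) * (w y')⁻¹ := by group
            _ = w (w y') * ((w (w y'))⁻¹ * w y') * (w y')⁻¹ := by rw [h2]
            _ = 1 := by group
        exact w.injective (inv_mul_eq_one.1 h3)
      exact mul_inv_eq_one.1 hq
    subst hy2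
    have hx2 := mul_right_cancel h'
    subst hx2
    rfl
  exact hf

/-- The fixed space of an element outside the linear part has order at most `64`. -/
theorem card_fixed_outer (R : Real d) (o : Outer z E P N e) {h : centralizer ({z} : Set G)}
    (hh : d.ρ h ∉ Outer.Y d) : Nat.card {m : Bar E // d.ρ h m = m} ≤ 64 := by
  have h1 := Nat.card_le_card_of_injective _ (R.pair_injective o hh)
  rw [Nat.card_prod, d.card_bar] at h1
  nlinarith

/-- The preimage of the image of `σ + 1` has order at least `128` for `σ` outside the linear part. -/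
theorem card_moveSub_outer (R : Real d) (o : Outer z E P N e) {h : centralizer ({z} : Set G)}
    (hh : d.ρ h ∉ Outer.Y d) : 128 ≤ Nat.card (moveSub d (d.ρ h)) := by
  set σ := d.ρ h
  let F : Bar E →* Bar E := MonoidHom.mk' (fun m => σ m * m) fun a b => by
    rw [map_mul, mul_assoc, ← mul_assoc (σ b) a, d.comm_bar (σ b) a, mul_assoc a, ← mul_assoc]
  have hk : Nat.card F.ker ≤ 64 := by
    refine le_trans (le_of_eq (Nat.card_congr (Equiv.subtypeEquivRight fun m => ?_))) (R.card_fixed_outer o hh)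
    show σ m * m = 1 ↔ σ m = m
    exact ⟨fun e => mul_right_cancel (e.trans (d.sq_bar m).symm), fun e => by rw [e, d.sq_bar]⟩
  have hr : 64 ≤ Nat.card F.range := by
    rw [← Subgroup.index_ker]
    have h1 := Subgroup.card_mul_index F.ker
    rw [d.card_bar] at h1
    have h2 := Nat.mul_le_mul hk (le_refl F.ker.index)
    omega
  have hpre : Nat.card ↥((QuotientGroup.mk : ↥E → Bar E) ⁻¹' (F.range : Set (Bar E))) =
      Nat.card (moveSub d σ) :=
    Nat.card_congr
      { toFun := fun a => ⟨(a.1 : G), a.1.2, by obtain ⟨m, hm⟩ := a.2; exact ⟨m, hm.symm⟩⟩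
        invFun := fun x => ⟨⟨x.1, x.2.1⟩, by obtain ⟨_, m, hm⟩ := x.2; exact ⟨m, hm.symm⟩⟩
        left_inv := fun _ => rfl
        right_inv := fun _ => rfl }
  rw [← hpre, Nat.card_congr (QuotientGroup.preimageMkEquivSubgroupProdSet (center ↥E) _),
    Nat.card_prod, d.L.hext.2]
  have : Nat.card ↥(F.range : Set (Bar E)) = Nat.card F.range := rfl
  omega

variable (R) in
/-- A conjugate of `z` in `H` outside the linear part gives fusion. -/
theorem fused_of_outer (o : Outer z E P N e) (hI : Lonely d) {g : G}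
    (hH : g * z * g⁻¹ ∈ centralizer ({z} : Set G)) (hne : g * z * g⁻¹ ≠ z)
    (hY : d.ρ ⟨_, hH⟩ ∉ Outer.Y d) : R.Fused := by
  classical
  by_contra hnot
  set v := g * z * g⁻¹ with hv
  have hv2 : v * v = 1 := exists_involution_conj d.L.zz
  have hvz : v * z = z * v := mem_centralizer_singleton_iff.1 hH
  -- conjugates in `C(v)` transport outside the linear part
  have houter : ∀ (k : G), k * z * k⁻¹ ≠ v → (hk : k * z * k⁻¹ ∈ centralizer ({v} : Set G)) →
      d.ρ (kap hv.symm ⟨_, hk⟩) ∉ Outer.Y d := by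
    intro k hkv hk hmem
    have he : g⁻¹ * k * z * (g⁻¹ * k)⁻¹ = g⁻¹ * (k * z * k⁻¹) * g := by group
    have hkH : g⁻¹ * k * z * (g⁻¹ * k)⁻¹ ∈ centralizer ({z} : Set G) := he ▸ (kap hv.symm ⟨_, hk⟩).2
    refine hnot (fused_of_linear o hI hkH (fun h => hkv ?_) ?_)
    · rw [hv]
      rw [he] at h
      conv_rhs => rw [← h]
      group
    · rwa [show (⟨_, hkH⟩ : centralizer ({z} : Set G)) = kap hv.symm ⟨_, hk⟩ from Subtype.ext he]
  have hzC : z ∈ centralizer ({v} : Set G) := mem_centralizer_singleton_iff.2 hvz.symm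
  have houtz : d.ρ (kap hv.symm ⟨z, hzC⟩) ∉ Outer.Y d := by
    have h := houter 1 (by simpa using fun h : z = v => hne h.symm) (by simpa using hzC)
    simpa using h
  set σ : centralizer ({z} : Set G) := ⟨v, hH⟩
  have hM := R.card_moveSub_outer o (h := σ) hY
  have hMv : ∀ {x : G}, x ∈ moveSub d (d.ρ σ) → v * x * v⁻¹ = x ∨ v * x * v⁻¹ = x * z := by
    rintro x ⟨hx, m, hm⟩
    have h1 : d.ρ σ (QuotientGroup.mk ⟨x, hx⟩) = QuotientGroup.mk ⟨x, hx⟩ := by
      rw [hm, map_mul, show d.ρ σ (d.ρ σ m) = m from by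
        rw [← MulAut.mul_apply, ← map_mul, show σ * σ = 1 from Subtype.ext hv2, map_one, MulAut.one_apply],
        d.comm_bar]
    rw [d.ρ_mk, d.mk_eq_iff] at h1
    change x = v * x * v⁻¹ ∨ x = v * x * v⁻¹ * z at h1
    rcases h1 with h | h
    · exact Or.inl h.symm
    · right; conv_rhs => rw [h, mul_assoc, d.L.zz, mul_one]
  set D := moveSub d (d.ρ σ) ⊓ centralizer ({v} : Set G)
  have hD : 64 ≤ Nat.card D := by
    have h1 := card_le_two_mul (moveSub d (d.ρ σ)) (centralizer ({v} : Set G)) fun a ha b hb hav hbv => by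
      have ha' := (hMv ha).resolve_left fun h =>
        hav (mem_centralizer_singleton_iff.2 (mul_inv_eq_iff_eq_mul.1 h).symm)
      have hb' := (hMv hb).resolve_left fun h =>
        hbv (mem_centralizer_singleton_iff.2 (mul_inv_eq_iff_eq_mul.1 h).symm)
      refine mem_centralizer_singleton_iff.2 (Eq.symm ?_)
      rw [← mul_inv_eq_iff_eq_mul]
      calc v * (a * b) * v⁻¹ = (v * a * v⁻¹) * (v * b * v⁻¹) := by group
        _ = a * (z * b) * z := by rw [ha', hb']; group
        _ = a * (b * z) * z := by rw [← d.L.commute_z (moveSub_le _ hb)]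
        _ = a * b * (z * z) := by group
        _ = a * b := by rw [d.L.zz, mul_one]
    show 64 ≤ Nat.card ↥(moveSub d (d.ρ σ) ⊓ centralizer ({v} : Set G))
    omega
  -- commutators in `D`
  have hcomm : ∀ {a : G}, a ∈ D → ∃ f ∈ E, ∃ a', (a' = a ∨ a' = a * z) ∧ f * v * f⁻¹ = a' * v := by
    intro a ha
    obtain ⟨f, hf, hfa⟩ := exists_commutator σ ha.1
    change a = v * f * v⁻¹ * f⁻¹ ∨ a = v * f * v⁻¹ * f⁻¹ * z at hfa
    have hc : (v * f * v⁻¹ * f⁻¹) * v = v * (v * f * v⁻¹ * f⁻¹) := by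
      have hav : a * v = v * a := mem_centralizer_singleton_iff.1 ha.2
      rcases hfa with h | h
      · rwa [← h]
      · have h' : v * f * v⁻¹ * f⁻¹ = a * z := by rw [h, mul_assoc _ z z, d.L.zz, mul_one]
        rw [h']
        exact ((show Commute a v from hav).mul_left (show Commute z v from hvz.symm)).eq
    refine ⟨f, hf, v * f * v⁻¹ * f⁻¹, ?_, ?_⟩
    · rcases hfa with h | h
      · exact Or.inl h.symm
      · right; rw [h, mul_assoc _ z z, d.L.zz, mul_one]
    · rw [hc]
      have hvi : v⁻¹ = v := inv_eq_of_mul_eq_one_right hv2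
      rw [hvi]
      calc f * v * f⁻¹ = (v * v) * f * v * f⁻¹ := by rw [hv2, one_mul]
        _ = _ := by group
  have hDc : ∀ {a : G}, a ∈ D → a * v = v * a := fun ha => mem_centralizer_singleton_iff.1 ha.2
  have hzD : z ∈ D := ⟨z_mem_moveSub _, hzC⟩
  let F : ↥D →* MulAut (Bar E) :=
    d.ρ.comp ((kap hv.symm).comp (Subgroup.inclusion (inf_le_right : D ≤ centralizer ({v} : Set G))))
  have hX : ∀ {a : G} (ha : a ∈ D), a ≠ 1 → (∃ f ∈ E, f * v * f⁻¹ = a * v) →
      F ⟨a, ha⟩ ∉ Outer.Y d := by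
    intro a ha ha1 hf hmem
    obtain ⟨f, hf, hfe⟩ := hf
    have hC : f * g * z * (f * g)⁻¹ ∈ centralizer ({v} : Set G) := by
      rw [show f * g * z * (f * g)⁻¹ = f * (g * z * g⁻¹) * f⁻¹ by group, ← hv, hfe]
      exact mul_mem ha.2 (mem_centralizer_singleton_iff.2 rfl)
    have hne' : f * g * z * (f * g)⁻¹ ≠ v := by
      rw [show f * g * z * (f * g)⁻¹ = f * (g * z * g⁻¹) * f⁻¹ by group, ← hv, hfe]
      exact fun h => ha1 (mul_eq_right.1 h)
    refine houter (f * g) hne' hC ?_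
    have he : kap hv.symm ⟨_, hC⟩ = kap hv.symm ⟨a, ha.2⟩ * ⟨z, mem_centralizer_singleton_iff.2 rfl⟩ := by
      refine Subtype.ext ?_
      show g⁻¹ * (f * g * z * (f * g)⁻¹) * g = g⁻¹ * a * g * z
      rw [show f * g * z * (f * g)⁻¹ = f * (g * z * g⁻¹) * f⁻¹ by group, ← hv, hfe, hv]
      group
    rw [he, map_mul, (d.mem_ker_iff (h := ⟨z, mem_centralizer_singleton_iff.2 rfl⟩)).2 d.L.z_mem, mul_one]
    exact hmem
  have hprod : ∀ {a b : ↥D}, F a ∉ Outer.Y d → F b ∉ Outer.Y d → F (a * b) ∈ Outer.Y d := by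
    intro a b ha hb
    rw [map_mul]
    show d.ρ _ * d.ρ _ ∈ _
    rw [← map_mul]
    exact R.mul_mem_Y o ha hb
  clear_value F
  obtain ⟨x₁, hx₁, hx₁n⟩ := exists_not_mem_list D [1, z] (by simp only [List.length]; omega)
  simp only [List.mem_cons, List.not_mem_nil, or_false, not_or] at hx₁n
  obtain ⟨f₁, hf₁, a₁, ha₁, hfa₁⟩ := hcomm hx₁
  have ha₁D : a₁ ∈ D := by
    rcases ha₁ with rfl | rfl
    · exact hx₁
    · exact mul_mem hx₁ hzD
  have ha₁n : a₁ ≠ 1 ∧ a₁ ≠ z := by
    rcases ha₁ with rfl | rfl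
    · exact hx₁n
    · refine ⟨fun h => hx₁n.2 ?_, fun h => hx₁n.1 ?_⟩
      · rw [eq_inv_of_mul_eq_one_left h]; exact inv_eq_of_mul_eq_one_right d.L.zz
      · exact mul_eq_right.1 h
  have ha₁out := hX ha₁D ha₁n.1 ⟨f₁, hf₁, hfa₁⟩
  have hanti : ∀ a ∈ D, a ∉ [1, z, a₁, a₁ * z] → ¬ f₁ * a = a * f₁ := by
    intro a ha han hc
    simp only [List.mem_cons, List.not_mem_nil, or_false, not_or] at han
    obtain ⟨f, hf, a', ha', hfa⟩ := hcomm ha
    have ha'D : a' ∈ D := by
      rcases ha' with rfl | rfl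
      · exact ha
      · exact mul_mem ha hzD
    have hc' : f₁ * a' = a' * f₁ := by
      rcases ha' with rfl | rfl
      · exact hc
      · exact ((show Commute f₁ a from hc).mul_right (d.L.commute_z hf₁)).eq
    have ha'1 : a' ≠ 1 := by
      rcases ha' with rfl | rfl
      · exact han.1
      · exact fun h => han.2.1 (by rw [eq_inv_of_mul_eq_one_left h]; exact inv_eq_of_mul_eq_one_right d.L.zz)
    have hne : a' * a₁ ≠ 1 := by
      intro h
      have hinv : a₁⁻¹ = a₁ ∨ a₁⁻¹ = a₁ * z := by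
        rcases d.L.sq_cases (moveSub_le _ ha₁D.1) with e | e
        · exact Or.inl (inv_eq_of_mul_eq_one_right e)
        · refine Or.inr (inv_eq_of_mul_eq_one_right ?_)
          rw [← mul_assoc, e, d.L.zz]
      rw [eq_inv_of_mul_eq_one_left h] at ha'
      rcases hinv with e | e <;> rw [e] at ha' <;> rcases ha' with e' | e'
      · exact han.2.2.1 e'.symm
      · exact han.2.2.2 (by rw [e', mul_assoc, d.L.zz, mul_one])
      · exact han.2.2.2 e'.symm
      · exact han.2.2.1 (mul_right_cancel e').symm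
    have hout := hX (mul_mem ha'D ha₁D) hne ⟨f₁ * f, mul_mem hf₁ hf, by
      calc f₁ * f * v * (f₁ * f)⁻¹ = f₁ * (f * v * f⁻¹) * f₁⁻¹ := by group
        _ = (f₁ * a') * v * f₁⁻¹ := by rw [hfa]; group
        _ = a' * (f₁ * v * f₁⁻¹) := by rw [hc']; group
        _ = a' * a₁ * v := by rw [hfa₁]; group⟩
    exact hout (hprod (hX ha'D ha'1 ⟨f, hf, hfa⟩) ha₁out)
  obtain ⟨x, hx, hxn⟩ := exists_not_mem_list D [1, z, a₁, a₁ * z] (by simp only [List.length]; omega)
  obtain ⟨y, hy, hyn⟩ := exists_not_mem_list D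
    [1, z, a₁, a₁ * z, x⁻¹, x⁻¹ * z, x⁻¹ * a₁, x⁻¹ * (a₁ * z)] (by simp only [List.length]; omega)
  have hxy : x * y ∉ [1, z, a₁, a₁ * z] := by
    intro h
    refine hyn ?_
    simp only [List.mem_cons, List.not_mem_nil, or_false] at h ⊢
    have hy' : y = x⁻¹ * (x * y) := by group
    rcases h with h | h | h | h <;> rw [h] at hy'
    · rw [hy']; simp
    · rw [hy']; simp
    · rw [hy']; simp
    · rw [hy']; simp
  have h1 := hanti x hx hxn
  have h2 := hanti y hy (fun h => hyn (by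
    simp only [List.mem_cons, List.not_mem_nil, or_false] at h ⊢; tauto))
  have h3 := hanti (x * y) (mul_mem hx hy) hxy
  refine h3 ?_
  have hxE := moveSub_le _ hx.1
  have hyE := moveSub_le _ hy.1
  have e1 : f₁ * x * f₁⁻¹ = z * x := (d.L.conj_cases hf₁ hxE).resolve_left fun h => h1 h
  have e2 : f₁ * y * f₁⁻¹ = z * y := (d.L.conj_cases hf₁ hyE).resolve_left fun h => h2 h
  rw [← mul_inv_eq_iff_eq_mul]
  calc f₁ * (x * y) * f₁⁻¹ = (f₁ * x * f₁⁻¹) * (f₁ * y * f₁⁻¹) := by group
    _ = z * (x * z) * y := by rw [e1, e2]; group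
    _ = z * (z * x) * y := by rw [d.L.commute_z hxE]
    _ = x * y := by rw [← mul_assoc, d.L.zz, one_mul]

variable (R) in
/-- Some conjugate of `z` other than `z` lies in `V₀`. -/
theorem exists_fused [IsSimpleGroup G] (hG : ¬ IsMulCommutative G) (o : Outer z E P N e) : R.Fused := by
  by_cases hI : Lonely d
  · obtain ⟨g, hH, hne⟩ := exists_conj_commute hG d.L.hz
    by_cases hY : d.ρ ⟨_, hH⟩ ∈ Outer.Y d
    · exact fused_of_linear o hI hH hne hY
    · exact R.fused_of_outer o hI hH hne hY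
  · simp only [Lonely, not_forall] at hI
    obtain ⟨g, hgE, hgne⟩ := hI
    have hv2 := exists_involution_conj (g := g) d.L.zz
    have hv1 : g * z * g⁻¹ ≠ 1 := fun h => d.L.z_ne_one (conj_eq_one_iff.1 h)
    obtain ⟨h, hh, hV⟩ := R.exists_conj_sHat hgE hv2 hv1 hgne
    refine ⟨h * g, by rwa [show h * g * z * (h * g)⁻¹ = h * (g * z * g⁻¹) * h⁻¹ by group], ?_⟩
    intro he
    refine hgne ?_
    rw [show h * g * z * (h * g)⁻¹ = h * (g * z * g⁻¹) * h⁻¹ by group] at he
    have hhz : h * z = z * h := mem_centralizer_singleton_iff.1 hh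
    calc g * z * g⁻¹ = h⁻¹ * (h * (g * z * g⁻¹) * h⁻¹) * h := by group
      _ = h⁻¹ * (z * h) := by rw [he]; group
      _ = z := by rw [← hhz, inv_mul_cancel_left]

end Real

end Cfsg.Agent.H69.J4
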