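import Mathlib

/-!
Certificates for the primitivity of the action of `H` on the seventy-seven blocks: three words fixing
the base block, paths to two points and derivations of all points from each of them.
-/

set_option autoImplicit false

namespace Cfsg.Agent.H69.J4

/-- Three words fixing the base block. -/
def primStab : List (List ℕ) := [[2], [0, 2, 0], [0, 2, 2, 2, 0]]

/-- The two target points. -/
def primTgt : List ℕ := [3, 1]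

/-- For each point a path to one of the targets. -/
def primPath : List (List ℕ) := [[], [], [1, 1, 2, 1, 0], [], [1, 2, 1, 0], [0], [1, 1, 2, 0], [0, 0, 2, 1, 1, 0], [0, 0, 0], [0, 0, 1, 0], [0, 1, 0, 1, 2, 1, 0], [0, 1, 0, 0, 2, 0], [1, 0, 2, 2, 0], [2, 1, 1, 2, 1, 0], [0, 2, 1, 1], [0, 1, 0], [0, 1, 0, 2, 0], [0, 1, 0, 1, 1, 0], [2, 1, 1, 0], [0, 2, 1, 1, 0], [1, 1, 1, 0], [0, 0], [2, 0, 1], [0, 1, 2, 2, 0], [1, 1, 0, 2, 2, 0], [0, 2, 0, 1, 0], [1, 0, 1, 2, 1, 0], [0, 2, 1, 1, 2, 1, 0], [1, 0, 0, 2, 0], [1, 0, 2, 0], [0, 1, 2, 1, 0], [0, 0, 1, 2, 1, 0], [0, 1, 1, 1], [2, 1, 1], [0, 1], [1, 0], [0, 0, 2, 0], [1, 0, 1, 1, 0], [0, 0, 0, 2, 1, 0], [2, 0, 0, 2, 0], [0, 2, 1, 0], [1, 0, 1, 0], [0, 0, 1], [1], [0], [0, 0, 0, 1, 0], [1, 0, 1], [0, 1, 0, 1], [2, 2, 2, 0], [1, 2, 2, 0], [0, 1, 1, 0, 2, 2, 0], [0, 1, 1, 0], [2, 0, 1, 0], [2,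 1, 0], [0, 0, 1, 1, 0], [1, 1, 1, 2, 0], [1, 2, 2, 2, 0], [1, 1, 1], [1, 2, 0], [1, 0, 1, 0, 2, 0], [0, 2, 2, 0], [0, 2, 0], [1, 1], [0, 0, 2, 1, 0], [2, 0, 0, 2, 2, 0], [1, 1, 0], [1, 1, 1, 1, 2, 0], [1, 0, 0], [0, 1, 0, 2, 0, 1, 0], [0, 1, 2, 2, 2, 0], [0, 0, 0, 2, 2, 0], [1, 0, 2, 0, 1, 0], [0, 0, 2, 2, 0], [1, 1, 0, 0, 2, 0], [0, 1, 1, 1, 2, 0], [2, 2, 0], [2, 0]]

/-- Derivations of all points from each target. -/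
def primDer : List (List (ℕ × ℕ × ℕ)) := [
  [(8, 0, 3), (42, 1, 3), (20, 3, 3), (21, 0, 8), (47, 1, 8), (67, 2, 8), (40, 3, 8), (34, 0, 42), (57, 1, 42), (28, 3, 42), (41, 0, 20), (65, 1, 20), (64, 3, 20), (44, 0, 21), (43, 2, 21), (66, 3, 21), (46, 0, 47), (33, 1, 47), (26, 3, 47), (22, 0, 67), (63, 3, 67), (53, 0, 40), (50, 1, 40), (59, 2, 40), (76, 3, 40), (48, 3, 34), (14, 0, 57), (62, 1, 57), (72, 3, 57), (27, 0, 28), (36, 1, 28), (7, 2, 28), (70, 3, 28), (25, 0, 41), (15, 1, 41), (45, 2, 41), (68, 3, 41), (39, 0, 65), (35, 1, 65), (37, 2, 65), (52, 3, 65), (74, 0, 64), (73, 1, 64), (32, 2, 44), (60, 3, 44), (0, 3, 43), (55, 1, 66), (12, 2, 66), (49, 3, 66), (11, 3, 46), (10, 0, 26), (30, 1, 26), (2, 3, 22), (23, 1, 63), (38, 0, 53), (54, 3, 53), (24, 0, 50), (16, 1, 59), (61, 3, 59), (58, 0, 76), (5, 2, 76), (6, 0, 48), (75, 2,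 48), (4, 3, 14), (19, 1, 72), (13, 0, 27), (18, 3, 27), (69, 1, 36), (31, 1, 7), (17, 2, 70), (9, 2, 15), (71, 0, 68), (51, 1, 37), (29, 2, 37), (56, 3, 37), (1, 0, 5)], 
  [(5, 0, 1), (20, 1, 1), (48, 2, 1), (3, 3, 1), (0, 3, 5), (41, 0, 20), (65, 1, 20), (40, 3, 20), (6, 0, 48), (74, 1, 48), (75, 2, 48), (60, 3, 48), (8, 0, 3), (42, 1, 3), (25, 0, 41), (15, 1, 41), (45, 2, 41), (47, 3, 41), (39, 0, 65), (35, 1, 65), (37, 2, 65), (54, 3, 65), (53, 0, 40), (50, 1, 40), (59, 2, 40), (64, 3, 40), (16, 0, 6), (58, 1, 6), (61, 2, 6), (14, 3, 6), (55, 0, 74), (13, 1, 74), (70, 0, 75), (18, 1, 75), (76, 2, 75), (9, 1, 60), (49, 2, 60), (27, 3, 60), (21, 0, 8), (67, 2, 8), (34, 0, 42), (57, 1, 42), (66, 3, 42), (52, 0, 25), (31, 2, 25), (23, 3, 25), (11, 3, 15), (17, 1, 45), (38, 2, 45), (2, 3, 45), (46, 0, 47), (33, 1, 47), (68, 3, 47), (7,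 1, 39), (36, 2, 39), (51, 1, 37), (29, 2, 37), (24, 0, 50), (26, 1, 50), (71, 3, 50), (73, 1, 64), (72, 2, 64), (4, 3, 16), (19, 2, 61), (32, 1, 14), (62, 3, 76), (69, 2, 9), (22, 3, 9), (44, 0, 21), (43, 2, 21), (12, 2, 66), (28, 3, 66), (30, 0, 31), (63, 1, 31), (56, 3, 31), (10, 2, 11)]]

end Cfsg.Agent.H69.J4
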