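import Cfsg.Agent.H82.J4Cx.Blocks
import Cfsg.Agent.H69.J4.PrimData

/-!
`H ⊓ N(V0)` is maximal in `H = C(z)`: the action on the seventy-seven blocks is primitive.
-/

set_option autoImplicit false
set_option linter.unusedSectionVars false
set_option maxRecDepth 100000

namespace Cfsg.Agent.H69.J4

open Subgroup H88.J4Fusion H82.J4Cx

/-- The action of a word on the blocks. -/
def blockMap : List ℕ → ℕ → ℕ
  | [], k => k
  | i :: w, k => bPi.getD (min i 3 * 77 + blockMap w k) 0

/-- Check of the derivations: each new point comes from a known one. -/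
def derOk (ops : List (List ℕ)) : List (ℕ × ℕ × ℕ) → List ℕ → Bool
  | [], known => (List.range 77).all fun k => Nat.beq k 0 || known.contains k
  | (y, j, x) :: l, known => known.contains x && Nat.blt j ops.length && Nat.blt x 77 &&
      Nat.beq (blockMap (ops.getD j []) x) y && derOk ops l (y :: known)

/-- Apply stabiliser words along a path. -/
def pathEnd : List ℕ → ℕ → ℕ
  | [], k => k
  | j :: p, k => pathEnd p (blockMap (primStab.getD j []) k)

theorem prim_ok : ((primStab.all fun w => Nat.beq (blockMap w 0) 0) &&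
    ((List.range 77).all fun k => Nat.beq k 0 ||
      (((primPath.getD k []).all fun j => Nat.blt j 3) &&
        primTgt.contains (pathEnd (primPath.getD k []) k))) &&
    ((List.range 2).all fun i => Nat.blt (primTgt.getD i 0) 77 &&
      derOk (primStab ++ [bW.getD (primTgt.getD i 0) []]) (primDer.getD i []) [primTgt.getD i 0])) =
      true := by decide +kernel

variable {G : Type*} [Group G] [Finite G] {z : G} {E P N : Subgroup G} {d : Data z E P}
  (R : Real d) {e : ↥(centralizer ({z} : Set G)) →* MulAut ↥Cfsg.Spor.M22}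

/-- Left multiplication by a letter, with the block named. -/
theorem step_explicit (i : ℕ) {k : ℕ} (hk : k < 77) :
    bPi.getD (min i 3 * 77 + k) 0 < 77 ∧ ∃ n : ↥(centralizer ({z} : Set G)), R.normA0 n ∧
      R.g i * rep R k = rep R (bPi.getD (min i 3 * 77 + k) 0) * n := by
  have hl : letter i = letter (min i 3) := by
    match i with
    | 0 => rfl
    | 1 => rfl
    | 2 => rfl
    | n + 3 => rw [show min (n + 3) 3 = 3 by omega]; rfl
  obtain ⟨g, hg⟩ : ∃ g, g = min i 3 := ⟨_, rfl⟩
  rw [← hg] at hl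
  have hj : g * 77 + k < 308 := by omega
  have hpl' := pi_len
  have hnl' := n_len
  set j := g * 77 + k with hjd
  set k' := bPi.getD j 0 with hk'
  rw [← hg, show g * 77 + k = j from rfl, ← hk']
  have hk'77 : k' < 77 := by
    rw [hk', List.getD_eq_getElem (hn := hpl' ▸ hj)]
    exact Nat.blt_eq.mp ((List.all_eq_true.1 pi_ok) _ (List.getElem_mem _))
  set n := (rep R k')⁻¹ * (R.g i * rep R k) with hn
  refine ⟨hk'77, n, R.normA0_of_maps fun x hx => ?_, by rw [hn, mul_inv_cancel_left]⟩
  have hcode : R.code (d.ρ n) = bN.getD j [] := by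
    have h := (List.all_eq_true.1 schreier_ok) j (List.mem_range.2 hj)
    rw [beq_iff_eq] at h
    rw [h, hn, map_mul, map_mul, map_inv, R.mat_mul, R.mat_mul, code_rep_inv R hk'77, R.mat_letter,
      code_rep R hk, hl, show j / 77 = g by omega, show j % 77 = k by omega]
  rcases List.mem_cons.1 (show R.code x ∈ mI :: mK2 from hx) with hx1 | hx1
  · rw [R.mat_inj (hx1.trans R.mat_one.symm)]
    simp [one_mem]
  · have h := (List.all_eq_true.1 norm_ok) _
      (show bN.getD j [] ∈ bN by rw [List.getD_eq_getElem (hn := hnl' ▸ hj)]; exact List.getElem_mem _)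
    rw [List.all_eq_true, k2_eq] at h
    obtain ⟨m', hm', he⟩ := List.any_eq_true.1 (h _ hx1)
    rw [beq_iff_eq, ← hcode, ← R.mat_mul] at he
    have hQ : m' ∈ mQ := by simpa using (List.all_eq_true.1 k2_sub) _ hm'
    obtain ⟨q, hq, hqA⟩ := List.getElem_of_mem hQ
    obtain ⟨v, hv⟩ := R.exists_of_mem_mQ q (q_len ▸ hq)
    rw [List.getD_eq_getElem (hn := hq), hqA] at hv
    rw [← hv, ← R.mat_mul] at he
    rw [R.mat_inj he, mul_inv_cancel_right]
    show R.code _ ∈ mI :: mK2
    rw [hv]
    exact List.mem_cons_of_mem _ hm'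

theorem word_step (w : List ℕ) {k : ℕ} (hk : k < 77) :
    blockMap w k < 77 ∧ ∃ n : ↥(centralizer ({z} : Set G)), (n : G) ∈ NV R ∧
      R.word w * rep R k = rep R (blockMap w k) * n := by
  induction w with
  | nil => exact ⟨hk, 1, one_mem _, by
      rw [show R.word [] = 1 from rfl, one_mul, mul_one, blockMap]⟩
  | cons i w ih =>
    obtain ⟨hk1, n1, hn1, e1⟩ := ih
    obtain ⟨hk2, n2, hn2, e2⟩ := step_explicit R i hk1
    refine ⟨hk2, n2 * n1, mul_mem (mem_NV_of_normA0 R hn2) hn1, ?_⟩
    rw [show R.word (i :: w) = R.g i * R.word w from rfl, mul_assoc, e1, ← mul_assoc, e2, mul_assoc,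
      blockMap]

theorem derived_all {X : Subgroup G} (hNV : centralizer ({z} : Set G) ⊓ NV R ≤ X)
    {ops : List (List ℕ)} (hops : ∀ w ∈ ops, (R.word w : G) ∈ X) :
    ∀ (l : List (ℕ × ℕ × ℕ)) (known : List ℕ), derOk ops l known = true →
      (∀ k ∈ known, (rep R k : G) ∈ X) → ∀ k < 77, (rep R k : G) ∈ X := by
  intro l
  induction l with
  | nil =>
    intro known h hk k hk77
    have h' := List.all_eq_true.1 h k (List.mem_range.2 hk77)
    rcases Bool.or_eq_true_iff.1 h' with h' | h'
    · rw [Nat.eq_of_beq_eq_true h', rep_zero]; exact one_mem _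
    · exact hk k (List.contains_iff_mem.1 h')
  | cons a l ih =>
    obtain ⟨y, j, x⟩ := a
    intro known h hk
    simp only [derOk, Bool.and_eq_true, Nat.blt_eq, List.contains_iff_mem] at h
    obtain ⟨⟨⟨⟨hx, hj⟩, hx77⟩, hy⟩, hrest⟩ := h
    refine ih _ hrest fun k hmem => ?_
    rcases List.mem_cons.1 hmem with rfl | hmem
    · obtain ⟨-, n, hn, e1⟩ := word_step R (ops.getD j []) hx77
      rw [Nat.eq_of_beq_eq_true hy] at e1
      have e2 := congrArg (fun g : ↥(centralizer ({z} : Set G)) => (g : G)) e1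
      simp only [Subgroup.coe_mul] at e2
      rw [show (rep R k : G) = (R.word (ops.getD j []) : G) * rep R x * (n : G)⁻¹ by
        rw [e2, mul_inv_cancel_right]]
      exact mul_mem (mul_mem (hops _ (by rw [List.getD_eq_getElem (hn := hj)]; exact List.getElem_mem _))
        (hk x hx)) (inv_mem (hNV ⟨n.2, hn⟩))
    · exact hk k hmem

/-- A subgroup containing `H ⊓ N(V0)` and an element of `H` outside `N(V0)` contains `H`. -/
theorem cent_le_of_outside (o : Outer z E P N e) {X : Subgroup G}
    (hNV : centralizer ({z} : Set G) ⊓ NV R ≤ X) {c : G} (hc : c ∈ centralizer ({z} : Set G))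
    (hcX : c ∈ X) (hcN : c ∉ NV R) : centralizer ({z} : Set G) ≤ X := by
  have dec : ∀ h : ↥(centralizer ({z} : Set G)), ∃ k < 77, ∃ n : G,
      n ∈ centralizer ({z} : Set G) ⊓ NV R ∧ (h : G) = rep R k * n := by
    intro h
    obtain ⟨k, hk, n, hn, e1⟩ := exists_decomp R o h
    refine ⟨k, hk, (((rep R k)⁻¹ * h : ↥(centralizer ({z} : Set G))) : G), ⟨Subtype.prop _, ?_⟩,
      by simp⟩
    refine mem_NV_of_normA0 R (normA0_congr R ?_ hn)
    rw [map_mul, e1, ← map_mul, inv_mul_cancel_left]
  have hcert := prim_ok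
  simp only [Bool.and_eq_true, List.all_eq_true, List.mem_range] at hcert
  obtain ⟨⟨hstab, hpath⟩, hder⟩ := hcert
  have hst : ∀ j < 3, (R.word (primStab.getD j []) : G) ∈ X := by
    intro j hj
    obtain ⟨-, n, hn, e1⟩ := word_step R (primStab.getD j []) (show 0 < 77 by norm_num)
    have h0 := hstab (primStab.getD j []) (by
      rw [List.getD_eq_getElem (hn := (show j < primStab.length from hj))]; exact List.getElem_mem _)
    rw [Nat.eq_of_beq_eq_true h0, rep_zero, mul_one, one_mul] at e1
    rw [e1]; exact hNV ⟨n.2, hn⟩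
  have hpathX : ∀ (p : List ℕ), (∀ j ∈ p, j < 3) → ∀ k < 77, (rep R k : G) ∈ X →
      pathEnd p k < 77 ∧ (rep R (pathEnd p k) : G) ∈ X := by
    intro p
    induction p with
    | nil => exact fun _ k hk h => ⟨hk, h⟩
    | cons j p ih =>
      intro hp k hk hkX
      obtain ⟨hlt, n, hn, e1⟩ := word_step R (primStab.getD j []) hk
      refine ih (fun i hi => hp i (List.mem_cons_of_mem _ hi)) _ hlt ?_
      have e2 := congrArg (fun g : ↥(centralizer ({z} : Set G)) => (g : G)) e1
      simp only [Subgroup.coe_mul] at e2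
      rw [show (rep R (blockMap (primStab.getD j []) k) : G) =
        (R.word (primStab.getD j []) : G) * rep R k * (n : G)⁻¹ by rw [e2, mul_inv_cancel_right]]
      exact mul_mem (mul_mem (hst j (hp j List.mem_cons_self)) hkX) (inv_mem (hNV ⟨n.2, hn⟩))
  obtain ⟨k, hk, n, hn, e1⟩ := dec ⟨c, hc⟩
  have hkX : (rep R k : G) ∈ X := by
    have : c * n⁻¹ = rep R k := mul_inv_eq_iff_eq_mul.2 e1
    rw [← this]; exact mul_mem hcX (inv_mem (hNV hn))
  have hk0 : k ≠ 0 := fun h0 => hcN (by
    have e2 : c = (rep R k : G) * n := e1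
    rw [h0, rep_zero] at e2
    rw [e2]
    exact mul_mem (one_mem _) hn.2)
  have hp := hpath k hk
  simp only [Bool.or_eq_true, Bool.and_eq_true, List.all_eq_true, Nat.blt_eq, List.contains_iff_mem] at hp
  obtain ⟨hp3, htgt⟩ := hp.resolve_left fun h' => hk0 (Nat.eq_of_beq_eq_true h')
  obtain ⟨hend, hendX⟩ := hpathX _ hp3 k hk hkX
  obtain ⟨i, hi, hti⟩ := List.getElem_of_mem htgt
  obtain ⟨ht77, hd⟩ := hder i hi
  have hget : primTgt.getD i 0 = pathEnd (primPath.getD k []) k := by
    rw [List.getD_eq_getElem (hn := hi)]; exact hti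
  rw [hget] at hd
  have hall := derived_all R hNV (fun w hw => ?_) _ _ hd (fun a ha => by
    rw [List.mem_singleton] at ha; rw [ha]; exact hendX)
  · intro h hh
    obtain ⟨k', hk', n', hn', e2⟩ := dec ⟨h, hh⟩
    rw [show h = (rep R k' : G) * n' from e2]
    exact mul_mem (hall k' hk') (hNV hn')
  · rcases List.mem_append.1 hw with hw | hw
    · obtain ⟨j, hj, rfl⟩ := List.getElem_of_mem hw
      have := hst j (show j < 3 from hj)
      rwa [List.getD_eq_getElem (hn := hj)] at this
    · rw [List.mem_singleton] at hw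
      rw [hw]; exact hendX

end Cfsg.Agent.H69.J4
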