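import Cfsg.Agent.H69.J4.Whole
import Cfsg.Agent.H69.J4.Prim
import Cfsg.Agent.H94.J4.Cover
import Cfsg.Agent.S5567

/-!
From a homomorphism of the presented fourth Janko group onto `N(V)` and one element outside: the
isomorphism, the order, the two classes of involutions and the seven suborbits.
-/

set_option autoImplicit false
set_option linter.unusedSectionVars false
set_option maxRecDepth 100000

namespace Cfsg.Agent.H69.J4

open Subgroup H88.J4Fusion
open H96.J4Simple (G4 dsize dsize_sum)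
open H54.J4.Lower (jN)

variable {G : Type*} [Group G] [Finite G]

/-- The elements of `V` outside the class of `z` are conjugate under `N(V)`. -/
theorem exists_conj_in_normalizer [IsSimpleGroup G] (hG : ¬ IsMulCommutative G) {z : G}
    (hJ : Cfsg.IsOfJankoFourTypeAt z) {V : Subgroup G} (hV : Cfsg.IsElementaryAbelian 2 V)
    (hVc : Nat.card V = 2 ^ 11) {x y : G} (hx : x ∈ V) (hx1 : x ≠ 1) (hxz : ¬ IsConj z x)
    (hy : y ∈ V) (hy1 : y ≠ 1) (hyz : ¬ IsConj z y) :
    ∃ n ∈ normalizer (V : Set G), n * x * n⁻¹ = y := by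
  obtain ⟨z', t', hz', ht', ht1, hzz', htz', h1, h2, -⟩ := Cfsg.Agent.S5568.result hG z hJ V hV hVc
  set A : Set G := {x | ∃ n ∈ normalizer (V : Set G), n * z' * n⁻¹ = x}
  set B : Set G := {x | ∃ n ∈ normalizer (V : Set G), n * t' * n⁻¹ = x}
  have hdisj : Disjoint A B := by
    rw [Set.disjoint_left]
    rintro _ ⟨a, -, rfl⟩ ⟨b, -, hb⟩
    exact htz' ((hzz'.trans (isConj_iff.2 ⟨a, rfl⟩)).trans (hb ▸ (isConj_iff.2 ⟨b, rfl⟩).symm))
  have hz1 : z' ≠ 1 := fun e1 => by
    obtain ⟨c, hc⟩ := isConj_iff.1 hzz'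
    obtain ⟨P, hP⟩ := hJ
    have := hP.1
    rw [e1, conj_eq_one_iff] at hc
    rw [hc, orderOf_one] at this
    norm_num at this
  have hAB : A ∪ B = (V : Set G) \ {1} := by
    refine Set.eq_of_subset_of_ncard_le ?_ ?_
    · rintro _ (⟨n, hn, rfl⟩ | ⟨n, hn, rfl⟩)
      · exact ⟨(mem_normalizer_iff.1 hn _).1 hz', fun e1 => hz1 (conj_eq_one_iff.1 e1)⟩
      · exact ⟨(mem_normalizer_iff.1 hn _).1 ht', fun e1 => ht1 (conj_eq_one_iff.1 e1)⟩
    · rw [Set.ncard_union_eq hdisj, h1, h2, Set.ncard_diff (Set.singleton_subset_iff.2 V.one_mem),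
        Set.ncard_singleton, ← Nat.card_coe_set_eq]
      show Nat.card V - 1 ≤ 1771 + 276
      rw [hVc]; norm_num
  have key : ∀ w ∈ V, w ≠ 1 → ¬ IsConj z w → w ∈ B := fun w hw hw1 hwz => by
    refine (show w ∈ A ∪ B from hAB ▸ ⟨hw, fun e => hw1 e⟩).resolve_left ?_
    rintro ⟨n, -, e1⟩
    exact hwz (hzz'.trans (isConj_iff.2 ⟨n, e1⟩))
  obtain ⟨a, ha, rfl⟩ := key x hx hx1 hxz
  obtain ⟨b, hb, rfl⟩ := key y hy hy1 hyz
  exact ⟨b * a⁻¹, mul_mem hb (inv_mem ha), by group⟩

/-- A subgroup meeting a normalised one trivially. -/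
theorem card_sup_of_normalises {V K : Subgroup G} (hK : K ≤ normalizer (V : Set G))
    (h : K ⊓ V = ⊥) : Nat.card ↥(K ⊔ V) = Nat.card V * Nat.card K := by
  let H : Subgroup G := K ⊔ V
  have hVH : (V.subgroupOf H).Normal :=
    (Subgroup.normal_subgroupOf_iff_le_normalizer le_sup_right).2 (sup_le hK le_normalizer)
  haveI := hVH
  have hc : Subgroup.IsComplement' (V.subgroupOf H) (K.subgroupOf H) := by
    refine Subgroup.isComplement'_of_disjoint_and_mul_eq_univ ?_ ?_
    · rw [disjoint_iff, eq_bot_iff]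
      rintro ⟨a, _⟩ ⟨h1, h2⟩
      exact Subgroup.mem_bot.2 (Subtype.ext (Subgroup.mem_bot.1 (h ▸ (⟨h2, h1⟩ : a ∈ K ⊓ V))))
    · rw [← Subgroup.normal_mul, ← Subgroup.coe_top, SetLike.coe_set_eq, ← subgroupOf_sup le_sup_right le_sup_left,
        sup_comm, subgroupOf_self]
  rw [← hc.card_mul, Nat.card_congr (subgroupOfEquivOfLe le_sup_right).toEquiv,
    Nat.card_congr (subgroupOfEquivOfLe le_sup_left).toEquiv]

/-- A simple subgroup containing `N(V)` and an element outside centralising a conjugate of `z` in `V`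
is the whole group. -/
theorem eq_top_of_step [IsSimpleGroup G] (hG : ¬ IsMulCommutative G) {z : G}
    (hJ : Cfsg.IsOfJankoFourTypeAt z) (M : Subgroup G) [IsSimpleGroup M] {V : Subgroup G}
    (hV : Cfsg.IsElementaryAbelian 2 V) (hcard : Nat.card V = 2 ^ 11)
    (hN : normalizer (V : Set G) ≤ M) {x c : G} (hx : x ∈ V) (hxz : IsConj z x)
    (hc : c * x = x * c) (hcM : c ∈ M) (hcN : c ∉ normalizer (V : Set G)) : M = ⊤ := by
  haveI : Fact (Nat.Prime 2) := ⟨Nat.prime_two⟩
  obtain ⟨P, hP⟩ := id hJ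
  have d := data_of_type hP
  obtain ⟨N, e, o⟩ := outer_of_type hP
  obtain ⟨R⟩ := exists_real o d
  obtain ⟨g, hg⟩ := isConj_iff.1 hxz
  have hcomm : ∀ a ∈ V, ∀ b ∈ V, a * b = b * a := fun a ha b hb =>
    congrArg Subtype.val (hV.1.1.1 ⟨a, ha⟩ ⟨b, hb⟩)
  set V1 : Subgroup G := V.map (MulAut.conj g⁻¹).toMonoidHom with hV1
  have hV1H : V1 ≤ centralizer ({z} : Set G) := by
    rintro _ ⟨a, ha, rfl⟩
    refine mem_centralizer_singleton_iff.2 ?_
    show g⁻¹ * a * g⁻¹⁻¹ * z = z * (g⁻¹ * a * g⁻¹⁻¹)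
    calc g⁻¹ * a * g⁻¹⁻¹ * z = g⁻¹ * (a * (g * z * g⁻¹)) * g := by group
      _ = g⁻¹ * ((g * z * g⁻¹) * a) * g := by rw [hg, hcomm a ha _ hx]
      _ = _ := by group
  have hp : IsPGroup 2 (V1.subgroupOf (centralizer ({z} : Set G))) :=
    IsPGroup.of_card (n := 11) (by
      rw [Nat.card_congr (subgroupOfEquivOfLe hV1H).toEquiv, hV1,
        ← Nat.card_congr (V.equivMapOfInjective _ (MulAut.conj g⁻¹).injective).toEquiv, hcard])
  obtain ⟨S, Q, hQS, hQ⟩ := exists_sylow R o
  obtain ⟨S1, hS1⟩ := hp.exists_le_sylow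
  obtain ⟨a, ha⟩ := MulAction.exists_smul_eq ↥(centralizer ({z} : Set G)) S1 S
  set k : G := (a : G) * g⁻¹ with hk
  have hkV : V.map (MulAut.conj k).toMonoidHom = R.V0 := by
    refine R.unique o hQ ?_ (elementary_map k hV) ?_
    · rintro _ ⟨b, hb, rfl⟩
      show k * b * k⁻¹ ∈ (Q : Subgroup G)
      have h1 : g⁻¹ * b * g⁻¹⁻¹ ∈ V1 := ⟨b, hb, rfl⟩
      rw [hQS]
      refine ⟨a * ⟨_, hV1H h1⟩ * a⁻¹, ?_, by simp [hk, mul_assoc]⟩
      have := Subgroup.smul_mem_pointwise_smul _ (MulAut.conj a) _ (hS1 (mem_subgroupOf.2 h1) :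
        (⟨_, hV1H h1⟩ : ↥(centralizer ({z} : Set G))) ∈ (S1 : Subgroup ↥(centralizer ({z} : Set G))))
      rw [← ha]
      exact this
    · rw [← hcard]
      exact Nat.card_congr (V.equivMapOfInjective _ (MulAut.conj k).injective).toEquiv.symm
  have hkx : k * x * k⁻¹ = z := by
    have hcz : (a : G) * z = z * a := mem_centralizer_singleton_iff.1 a.2
    calc k * x * k⁻¹ = (a : G) * z * (a : G)⁻¹ := by rw [hk, ← hg]; group
      _ = z := by rw [hcz, mul_inv_cancel_right]
  have hNk : (normalizer (V : Set G)).map (MulAut.conj k).toMonoidHom = NV R := by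
    rw [NV, ← hkV, Subgroup.map_equiv_normalizer_eq]
  set M' := M.map (MulAut.conj k).toMonoidHom with hM'
  haveI : IsSimpleGroup M' := (M.equivMapOfInjective _ (MulAut.conj k).injective).symm.isSimpleGroup
  have hNM' : normalizer (R.V0 : Set G) ≤ M' := by
    have := map_mono (f := (MulAut.conj k).toMonoidHom) hN
    rwa [hNk] at this
  have hzM' : centralizer ({z} : Set G) ≤ M' := by
    refine cent_le_of_outside R o (c := k * c * k⁻¹) (fun y hy => hNM' hy.2) ?_ ⟨c, hcM, rfl⟩ ?_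
    · refine mem_centralizer_singleton_iff.2 ?_
      rw [← hkx]
      calc k * c * k⁻¹ * (k * x * k⁻¹) = k * (c * x) * k⁻¹ := by group
        _ = _ := by rw [hc]; group
    · rw [← hNk]
      rintro ⟨b, hb, hbc⟩
      exact hcN ((MulAut.conj k).injective (hbc : MulAut.conj k b = MulAut.conj k c) ▸ hb)
  have htop := eq_top_of_simple hG hJ M' hzM' R.V0_elementary R.card_V0 hNM'
  exact (Subgroup.map_injective (MulAut.conj k).injective)
    (htop.trans (Subgroup.map_top_of_surjective _ (MulAut.conj k).surjective).symm)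

/-- The output of the construction: a nontrivial map of the presented group. -/
def SurjData (G : Type*) [Group G] : Prop := ∃ f : G4 →* G, f ≠ 1

/-- The mask of a vector of the model fixed by `t`. -/
def fixMask : ℕ := 1320

theorem fixMask_prim : H94.J4.Data.prim.getD 4 ([], []) =
    (H94.J4.maskWord fixMask 11, H94.J4.maskWord fixMask 11) ∧ 4 < H94.J4.Data.prim.length ∧
    fixMask.testBit 3 = true := by decide +kernel

theorem iota_injective : Function.Injective H94.J4.iota := by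
  haveI : Finite G4 := Nat.finite_of_card_ne_zero (by rw [H94.J4.isJ4.2]; norm_num)
  have h : Nat.card H94.J4.iota.range = Nat.card H94.J4.NN := by
    rw [H94.J4.iota_range, H96.J4Simple.card_jN H94.J4.isJ4.2, H94.J4.card_NN]
  have hf : Function.Bijective H94.J4.iota.rangeRestrict :=
    (Nat.bijective_iff_surjective_and_card _).2 ⟨H94.J4.iota.rangeRestrict_surjective, h.symm⟩
  exact fun a b hab => hf.1 (Subtype.ext hab)

/-- The map is an isomorphism. -/
theorem exists_iso [IsSimpleGroup G] (hG : ¬ IsMulCommutative G) {z : G}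
    (hJ : Cfsg.IsOfJankoFourTypeAt z) (hS : SurjData G) {W : Subgroup G}
    (hW : Cfsg.IsElementaryAbelian 2 W) (hWc : Nat.card W = 2 ^ 11) :
    ∃ e : G4 ≃* G, jN.map e.toMonoidHom = normalizer (W : Set G) := by
  classical
  haveI : Fact (Nat.Prime 2) := ⟨Nat.prime_two⟩
  obtain ⟨f, hf⟩ := hS
  haveI : IsSimpleGroup G4 := H94.J4.isJ4.1
  have hker : f.ker = ⊥ := (f.normal_ker.eq_bot_or_eq_top).resolve_right fun e =>
    hf (MonoidHom.ker_eq_top_iff.1 e)
  have hinj : Function.Injective f := (MonoidHom.ker_eq_bot_iff f).1 hker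
  let g := f.comp H94.J4.iota
  have ginj : Function.Injective g := hinj.comp iota_injective
  have hgr : g.range = jN.map f := by
    show (f.comp H94.J4.iota).range = _
    rw [MonoidHom.range_comp, H94.J4.iota_range]
  -- the image of the vectors
  let ι' : H94.J4.VV →* G := g.comp SemidirectProduct.inl
  have ι'inj : Function.Injective ι' := ginj.comp SemidirectProduct.inl_injective
  set V := ι'.range with hVdef
  have hVc : Nat.card V = 2 ^ 11 := by
    rw [← Nat.card_congr (MonoidHom.ofInjective ι'inj).toEquiv]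
    simp [Nat.card_eq_fintype_card]
  have hV : Cfsg.IsElementaryAbelian 2 V := by
    refine ⟨⟨⟨?_⟩⟩, ?_⟩
    · rintro ⟨_, a, rfl⟩ ⟨_, b, rfl⟩
      exact Subtype.ext (show ι' a * ι' b = ι' b * ι' a by rw [← map_mul, ← map_mul, mul_comm])
    · rintro _ ⟨a, rfl⟩
      rw [← map_pow, show a ^ 2 = 1 from ?_, map_one]
      refine Multiplicative.toAdd.injective (funext fun j => ?_)
      rw [sq, toAdd_mul]
      exact ZModModule.add_self _
  have hgN : g.range ≤ normalizer (V : Set G) := by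
    have key : ∀ n : H94.J4.NN, ∀ x ∈ V, g n * x * (g n)⁻¹ ∈ V := by
      rintro n _ ⟨a, rfl⟩
      refine ⟨H94.J4.act n.right a, ?_⟩
      show g (SemidirectProduct.inl _) = g n * g (SemidirectProduct.inl a) * (g n)⁻¹
      rw [← map_inv, ← map_mul, ← map_mul]
      refine congrArg g ?_
      rw [SemidirectProduct.ext_iff]
      simp [mul_assoc, mul_comm, mul_left_comm]
    rintro _ ⟨n, rfl⟩
    refine mem_normalizer_iff.2 fun x => ⟨key n x, fun hx => ?_⟩
    have := key n⁻¹ _ hx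
    simpa [mul_assoc] using this
  have hNc : Nat.card (normalizer (V : Set G)) = 2048 * 244823040 := by
    obtain ⟨-, K, hK, hKV, hKs, ⟨eK⟩⟩ := Cfsg.Agent.S5567.result hG ⟨z, hJ⟩ V hV hVc
    rw [← hKs, card_sup_of_normalises hK hKV, Nat.card_congr eK.toEquiv, H90.natCard_M24, hVc,
      show (2 : ℕ) ^ 11 = 2048 by norm_num]
  have hN : jN.map f = normalizer (V : Set G) := by
    refine Subgroup.eq_of_le_of_card_ge (hgr ▸ hgN) ?_
    rw [hNc, ← hgr, ← Nat.card_congr (MonoidHom.ofInjective ginj).toEquiv, H94.J4.card_NN]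
  -- the vector fixed by `t`
  set x := ι' (H94.J4.vec fixMask) with hxdef
  have hv : H77.HN.evw H94.J4.gen14 (H94.J4.maskWord fixMask 11) =
      SemidirectProduct.inl (H94.J4.vec fixMask) := by
    rw [H94.J4.evw_maskWord]
    exact (H94.J4.map_vec (f := (SemidirectProduct.inl : H94.J4.VV →* H94.J4.NN))
      (h := fun j => H94.J4.gen14 (j + 3)) (fun j => (H94.J4.gen14_vec j).symm) fixMask).symm
  have hx1 : x ≠ 1 := fun e => by
    have h1 := ι'inj (e.trans (map_one ι').symm)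
    have h2 := congrFun (congrArg Multiplicative.toAdd h1) 3
    simp [H94.J4.vec, fixMask_prim.2.2] at h2
  have hxV : x ∈ V := ⟨_, rfl⟩
  set c := f H84.J4N.jT with hcdef
  have hcx : c * x = x * c := by
    have h1 := H94.J4.prim_mem _ (List.getElem_mem fixMask_prim.2.1)
    rw [← List.getD_eq_getElem _ ([], []) fixMask_prim.2.1, fixMask_prim.1] at h1
    have h2 : H84.J4N.jT * H94.J4.iota (H77.HN.evw H94.J4.gen14 (H94.J4.maskWord fixMask 11)) =
        H94.J4.iota (H77.HN.evw H94.J4.gen14 (H94.J4.maskWord fixMask 11)) * H84.J4N.jT := h1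
    rw [hv] at h2
    show f _ * f _ = f _ * f _
    rw [← map_mul, ← map_mul]
    exact congrArg f h2
  have hcN : c ∉ normalizer (V : Set G) := by
    rw [← hN]
    rintro ⟨a, ha, hac⟩
    have hjT : H84.J4N.jT ∈ jN := hinj hac ▸ ha
    have : jN = ⊤ := by
      rw [eq_top_iff, ← H94.J4.gen_top, Subgroup.closure_le, Set.insert_subset_iff]
      exact ⟨hjT, by rw [← MonoidHom.coe_range, H94.J4.iota_range]⟩
    have h1 := H96.J4Simple.index_jN H94.J4.isJ4.2
    rw [this, Subgroup.index_top] at h1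
    norm_num at h1
  -- `x` is of the class of `z`
  have hxz : IsConj z x := by
    by_contra hxz
    obtain ⟨z', t', hz', ht', ht1, hzz', htz', -, -, htc⟩ := Cfsg.Agent.S5568.result hG z hJ V hV hVc
    have ht2 : orderOf t' = 2 := orderOf_eq_prime (hV.2 t' ht') ht1
    obtain ⟨n, hn, hnx⟩ := exists_conj_in_normalizer hG hJ hV hVc hxV hx1 hxz ht' ht1 htz'
    refine hcN ?_
    have hcent : n * c * n⁻¹ ∈ normalizer (V : Set G) := htc (mem_centralizer_singleton_iff.2 (by
      rw [← hnx]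
      calc n * c * n⁻¹ * (n * x * n⁻¹) = n * (c * x) * n⁻¹ := by group
        _ = _ := by rw [hcx]; group))
    simpa [mul_assoc] using mul_mem (mul_mem (inv_mem hn) hcent) hn
  haveI : IsSimpleGroup f.range := (MonoidHom.ofInjective hinj).symm.isSimpleGroup
  have htop : f.range = ⊤ := eq_top_of_step hG hJ f.range hV hVc
    (hN ▸ Subgroup.map_le_range f jN) hxV hxz hcx ⟨_, rfl⟩ hcN
  let e0 : G4 ≃* G := MulEquiv.ofBijective f ⟨hinj, MonoidHom.range_eq_top.1 htop⟩
  -- move `V` to `W`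
  obtain ⟨T, hT⟩ := (IsPGroup.of_card (p := 2) hVc).exists_le_sylow
  obtain ⟨T', hT'⟩ := (IsPGroup.of_card (p := 2) hWc).exists_le_sylow
  obtain ⟨k, hk⟩ := MulAction.exists_smul_eq G T T'
  obtain ⟨U, -, hU⟩ := Cfsg.Agent.S5566.result hG ⟨z, hJ⟩ T'
  have hVg : V.map (MulAut.conj k).toMonoidHom = W := by
    have hle : V.map (MulAut.conj k).toMonoidHom ≤ (T' : Subgroup G) := by
      rw [← hk, Sylow.coe_subgroup_smul]
      exact map_mono hT
    rw [hU _ ⟨hle, H95.J4T.map_elementary _ hV, by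
      rw [← Nat.card_congr (V.equivMapOfInjective _ (MulAut.conj k).injective).toEquiv, hVc]⟩,
      hU W ⟨hT', hW, hWc⟩]
  refine ⟨e0.trans (MulAut.conj k), ?_⟩
  rw [show (e0.trans (MulAut.conj k)).toMonoidHom = (MulAut.conj k).toMonoidHom.comp f from rfl,
    ← Subgroup.map_map, hN, ← hVg, Subgroup.map_equiv_normalizer_eq]

/-- Order and simplicity. -/
theorem isJ4_of_iso [IsSimpleGroup G] (e : G4 ≃* G) : Cfsg.IsJ4 G :=
  ⟨inferInstance, (Nat.card_congr e.toEquiv).symm.trans H94.J4.isJ4.2⟩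

/-- The presented group is the group, once a nontrivial map is given. -/
theorem isoJ4_of_surj [IsSimpleGroup G] (hG : ¬ IsMulCommutative G)
    (hJ : Cfsg.IsOfJankoFourType G) (hS : SurjData G) : Cfsg.Spor.IsoJ4 G ∧ Cfsg.IsJ4 G := by
  obtain ⟨z, hz⟩ := id hJ
  obtain ⟨P, hP⟩ := id hz
  obtain ⟨N, e, o⟩ := outer_of_type hP
  obtain ⟨R⟩ := exists_real o (data_of_type hP)
  obtain ⟨e, -⟩ := exists_iso hG hz hS R.V0_elementary R.card_V0
  exact ⟨⟨e.symm⟩, isJ4_of_iso e⟩

/-- The seven suborbits. -/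
theorem suborbits {V : Subgroup G} (e : G4 ≃* G)
    (he : jN.map e.toMonoidHom = normalizer (V : Set G)) :
    (normalizer (V : Set G)).index = 173067389 ∧ ∃ c : Fin 7 → G ⧸ normalizer (V : Set G),
      (∀ i j : Fin 7, i ≠ j → MulAction.orbit ↥(normalizer (V : Set G)) (c i) ≠
        MulAction.orbit ↥(normalizer (V : Set G)) (c j)) ∧
      (∀ q : G ⧸ normalizer (V : Set G),
        ∃ i : Fin 7, q ∈ MulAction.orbit ↥(normalizer (V : Set G)) (c i)) ∧
      (List.ofFn fun i => (MulAction.orbit ↥(normalizer (V : Set G)) (c i)).ncard) =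
        [1, 15180, 28336, 3400320, 32643072, 54405120, 82575360] := by
  classical
  set H := normalizer (V : Set G) with hH
  have hidx : H.index = 173067389 := by
    rw [← he, show jN.map e.toMonoidHom = jN.map (e : G4 →* G) from rfl, Subgroup.index_map_equiv,
      H96.J4Simple.index_jN H94.J4.isJ4.2]
  refine ⟨hidx, ?_⟩
  haveI : Finite G4 := Finite.of_equiv G e.symm.toEquiv
  have hι : H94.J4.iota.range = jN := H94.J4.iota_range
  let Φ : G4 ⧸ H94.J4.iota.range → G ⧸ H := Quotient.map' e fun a b hab => by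
    rw [QuotientGroup.leftRel_apply] at hab ⊢
    rw [hι] at hab
    rw [← map_inv, ← map_mul, ← he]
    exact mem_map_of_mem e.toMonoidHom hab
  have hΦ : ∀ (a : G4) (q : G4 ⧸ H94.J4.iota.range), Φ (a • q) = e a • Φ q := by
    intro a q
    induction q using QuotientGroup.induction_on with
    | H b => exact congrArg QuotientGroup.mk (map_mul e a b)
  let c : Fin 7 → G ⧸ H := fun i => Φ (H94.J4.q i)
  have horb : ∀ i, MulAction.orbit ↥H (c i) =
      Φ '' MulAction.orbit H94.J4.iota.range (H94.J4.q i) := by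
    intro i
    ext y
    constructor
    · rintro ⟨⟨h, hh⟩, rfl⟩
      rw [← he] at hh
      obtain ⟨a, ha, rfl⟩ := hh
      exact ⟨a • H94.J4.q i, ⟨⟨a, hι ▸ ha⟩, rfl⟩, hΦ a _⟩
    · rintro ⟨_, ⟨⟨a, ha⟩, rfl⟩, rfl⟩
      exact ⟨⟨e a, he ▸ mem_map_of_mem e.toMonoidHom (hι ▸ ha)⟩, (hΦ a _).symm⟩
  have hle : ∀ i, (MulAction.orbit ↥H (c i)).ncard ≤ dsize i := fun i => by
    rw [horb i]
    refine (Set.ncard_image_le (Set.toFinite _)).trans ?_
    rw [← Nat.card_coe_set_eq]
    exact H96.J4Simple.orbit_bound H94.J4.iota H94.J4.q H94.J4.St H94.J4.hfix H94.J4.hidx i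
  have hcov : ∀ y : G ⧸ H, ∃ i, y ∈ MulAction.orbit ↥H (c i) := by
    intro y
    induction y using QuotientGroup.induction_on with
    | H b =>
      obtain ⟨i, n, hn⟩ := H94.J4.hcov (QuotientGroup.mk (e.symm b))
      refine ⟨i, ?_⟩
      rw [horb i]
      refine ⟨_, ⟨⟨H94.J4.iota n, n, rfl⟩, rfl⟩, ?_⟩
      show Φ (H94.J4.iota n • H94.J4.q i) = _
      rw [hn]
      exact congrArg QuotientGroup.mk (e.apply_symm_apply b)
  have htot : ∀ s : Finset (Fin 7), (∀ i, ∃ j ∈ s, MulAction.orbit ↥H (c i) = MulAction.orbit ↥H (c j)) →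
      173067389 ≤ ∑ i ∈ s, (MulAction.orbit ↥H (c i)).ncard := by
    intro s hs
    rw [← hidx, Subgroup.index_eq_card, ← Set.ncard_univ]
    refine le_trans (Set.ncard_le_ncard (fun y _ => ?_) (Set.toFinite _))
      (Finset.set_ncard_biUnion_le s fun i => MulAction.orbit ↥H (c i))
    obtain ⟨i, hi⟩ := hcov y
    obtain ⟨j, hj, hij⟩ := hs i
    exact Set.mem_biUnion hj (hij ▸ hi)
  have hsum : ∑ i, (MulAction.orbit ↥H (c i)).ncard = ∑ i, dsize i :=
    le_antisymm (Finset.sum_le_sum fun i _ => hle i)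
      (dsize_sum.le.trans (htot Finset.univ fun i => ⟨i, Finset.mem_univ i, rfl⟩))
  have heq : ∀ i, (MulAction.orbit ↥H (c i)).ncard = dsize i := fun i =>
    (Finset.sum_eq_sum_iff_of_le fun i _ => hle i).1 hsum i (Finset.mem_univ i)
  refine ⟨c, fun i j hij hor => ?_, hcov, ?_⟩
  · have h1 := htot (Finset.univ.erase j) fun k => by
      rcases eq_or_ne k j with rfl | hk
      · exact ⟨i, Finset.mem_erase.2 ⟨hij, Finset.mem_univ _⟩, hor.symm⟩
      · exact ⟨k, Finset.mem_erase.2 ⟨hk, Finset.mem_univ _⟩, rfl⟩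
    simp only [heq] at h1
    have h2 := Finset.sum_erase_add Finset.univ dsize (Finset.mem_univ j)
    rw [dsize_sum] at h2
    have h3 : 0 < dsize j := by fin_cases j <;> decide
    omega
  · simp only [heq]
    rfl

/-- The two classes of involutions. -/
theorem exists_two_classes [IsSimpleGroup G] (hG : ¬ IsMulCommutative G) {z : G}
    (hJ : Cfsg.IsOfJankoFourTypeAt z) :
    ∃ x y : G, orderOf x = 2 ∧ orderOf y = 2 ∧ ¬ IsConj x y ∧
      ∀ v : G, orderOf v = 2 → IsConj v x ∨ IsConj v y := by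
  haveI : Fact (Nat.Prime 2) := ⟨Nat.prime_two⟩
  obtain ⟨P, hP⟩ := id hJ
  obtain ⟨N, e, o⟩ := outer_of_type hP
  obtain ⟨R⟩ := exists_real o (data_of_type hP)
  obtain ⟨z', t, -, ht, ht1, -, htz, -⟩ :=
    Cfsg.Agent.S5568.result hG z hJ R.V0 R.V0_elementary R.card_V0
  have ht2 : orderOf t = 2 := orderOf_eq_prime (R.V0_elementary.2 t ht) ht1
  exact ⟨z, t, hP.1, ht2, htz, fun v hv =>
    (two_classes hG hJ ht2 htz hv).imp IsConj.symm IsConj.symm⟩

end Cfsg.Agent.H69.J4
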