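import Cfsg.Agent.H69.J4.Model

/-!
Coordinates on an elementary abelian two-group, and matrices of automorphisms.
-/

set_option autoImplicit false

namespace Cfsg.Agent.H69.J4

theorem beq_zero_one : Nat.beq 0 1 = false := rfl

theorem beq_one_one : Nat.beq 1 1 = true := rfl

theorem xor_div_two' (u v : ℕ) : (u ^^^ v) / 2 = u / 2 ^^^ v / 2 := by
  rw [← Nat.shiftRight_one, ← Nat.shiftRight_one, ← Nat.shiftRight_one, Nat.shiftRight_xor_distrib]

theorem ap_zero_right : ∀ l : List ℕ, ap l 0 = 0
  | [] => rfl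
  | a :: as => by simp [ap, ap_zero_right as, beq_zero_one]

theorem ap_xor : ∀ (l : List ℕ) (u v : ℕ), ap l (u ^^^ v) = ap l u ^^^ ap l v
  | [], _, _ => by simp [ap]
  | a :: as, u, v => by
    have h : (u ^^^ v) % 2 = (u % 2) ^^^ (v % 2) := by
      have := Nat.xor_mod_two_pow (a := u) (b := v) (n := 1)
      simpa using this
    rw [ap, ap, ap, xor_div_two', ap_xor as, h]
    rcases Nat.mod_two_eq_zero_or_one u with hu | hu <;>
      rcases Nat.mod_two_eq_zero_or_one v with hv | hv <;> rw [hu, hv] <;>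
      simp [beq_zero_one, beq_one_one, Nat.xor_comm, Nat.xor_assoc, Nat.xor_left_comm,
        ← Nat.xor_assoc a a]

theorem ap_lt {n : ℕ} : ∀ {l : List ℕ}, (∀ a ∈ l, a < 2 ^ n) → ∀ v, ap l v < 2 ^ n
  | [], _, _ => Nat.two_pow_pos n
  | a :: as, h, v => by
    refine Nat.xor_lt_two_pow ?_ (ap_lt (fun b hb => h b (List.mem_cons_of_mem _ hb)) _)
    cases Nat.beq (v % 2) 1
    · exact Nat.two_pow_pos n
    · exact h a (List.mem_cons_self ..)

theorem ap_map {f : ℕ → ℕ} (hf : ∀ a b, f (a ^^^ b) = f a ^^^ f b) (h0 : f 0 = 0) :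
    ∀ (l : List ℕ) (v : ℕ), ap (l.map f) v = f (ap l v)
  | [], _ => by simp [ap, h0]
  | a :: as, v => by
    rw [List.map_cons, ap, ap, hf, ap_map hf h0 as]
    cases Nat.beq (v % 2) 1 <;> simp [h0]

theorem ap_mm (A B : List ℕ) (v : ℕ) : ap (mm A B) v = ap A (ap B v) :=
  ap_map (ap_xor A) (ap_zero_right A) B v

theorem mm_assoc (A B C : List ℕ) : mm (mm A B) C = mm A (mm B C) := by
  simp only [mm, List.map_map]
  exact List.map_congr_left fun x _ => ap_mm A B x

variable {M : Type*} [CommGroup M]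

/-- Linear extension of the images of the unit vectors. -/
def lin : List M → ℕ → M
  | [], _ => 1
  | a :: as, v => (bif Nat.beq (v % 2) 1 then a else 1) * lin as (v / 2)

theorem lin_zero : ∀ l : List M, lin l 0 = 1
  | [] => rfl
  | a :: as => by simp [lin, lin_zero as, beq_zero_one]

theorem lin_xor (hM : ∀ m : M, m * m = 1) :
    ∀ (l : List M) (u v : ℕ), lin l (u ^^^ v) = lin l u * lin l v
  | [], _, _ => by simp [lin]
  | a :: as, u, v => by
    have h : (u ^^^ v) % 2 = (u % 2) ^^^ (v % 2) := by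
      have := Nat.xor_mod_two_pow (a := u) (b := v) (n := 1)
      simpa using this
    rw [lin, lin, lin, xor_div_two', lin_xor hM as, h]
    rcases Nat.mod_two_eq_zero_or_one u with hu | hu <;>
      rcases Nat.mod_two_eq_zero_or_one v with hv | hv <;> rw [hu, hv] <;>
      simp [beq_zero_one, beq_one_one, mul_assoc, mul_left_comm (lin as (u / 2))]
    rw [← mul_assoc a a, hM, one_mul]

theorem lin_map {N : Type*} [CommGroup N] {F : Type*} [FunLike F M N] [MonoidHomClass F M N]
    (f : F) : ∀ (l : List M) (v : ℕ), lin (l.map f) v = f (lin l v)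
  | [], _ => by simp [lin]
  | a :: as, v => by
    rw [List.map_cons, lin, lin, map_mul, lin_map f as]
    cases Nat.beq (v % 2) 1 <;> simp

theorem lin_ap (hM : ∀ m : M, m * m = 1) (img : List M) :
    ∀ (A : List ℕ) (v : ℕ), lin (A.map (lin img)) v = lin img (ap A v)
  | [], _ => by simp [lin, ap, lin_zero]
  | a :: as, v => by
    rw [List.map_cons, lin, ap, lin_xor hM, lin_ap hM img as]
    cases Nat.beq (v % 2) 1 <;> simp [lin_zero]

theorem lin_append : ∀ (l l' : List M) (v : ℕ),
    lin (l ++ l') v = lin l v * lin l' (v / 2 ^ l.length)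
  | [], l', v => by simp [lin]
  | a :: as, l', v => by
    rw [List.cons_append, lin, lin, lin_append as, mul_assoc, List.length_cons, Nat.div_div_eq_div_mul,
      show 2 * 2 ^ as.length = 2 ^ (as.length + 1) by rw [pow_succ']]

/-- Coordinates of a group of order `4096`. -/
structure Frame (M : Type*) [CommGroup M] where
  /-- images of the unit vectors -/
  img : List M
  len : img.length = 12
  exp : ∀ m : M, m * m = 1
  inj : ∀ u < 4096, ∀ v < 4096, lin img u = lin img v → u = v
  surj : ∀ m, ∃ v < 4096, lin img v = m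

namespace Frame

/-- The coordinate map. -/
def φ (F : Frame M) (v : ℕ) : M := lin F.img v

/-- The matrix `A` describes the map `f`. -/
def Mat (F : Frame M) (f : MulAut M) (A : List ℕ) : Prop := F.img.map f = A.map F.φ

variable {F : Frame M} {f g : MulAut M} {A B : List ℕ}

theorem Mat.apply (h : F.Mat f A) (v : ℕ) : f (F.φ v) = F.φ (ap A v) := by
  rw [φ, φ, ← lin_ap F.exp, ← lin_map f, h]
  rfl

theorem Mat.mul (hf : F.Mat f A) (hg : F.Mat g B) : F.Mat (f * g) (mm A B) := by
  rw [Mat, MulAut.coe_mul, ← List.map_map, hg, mm, List.map_map, List.map_map]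
  exact List.map_congr_left fun x _ => hf.apply x

theorem img_eq (F : Frame M) : F.img = mI.map F.φ := by
  obtain ⟨l, hl⟩ : ∃ l, F.img = l := ⟨_, rfl⟩
  have hlen := F.len
  simp only [hl] at hlen ⊢
  match l, hlen with
  | [a, b, c, d, e, f, g, h, i, j, k, m], _ =>
    simp [φ, hl, mI, lin, beq_zero_one, beq_one_one]

theorem mat_one (F : Frame M) : F.Mat 1 mI := by
  rw [Mat, MulAut.coe_one, List.map_id]
  exact F.img_eq

theorem Mat.eq_aut (hf : F.Mat f A) (hg : F.Mat g A) : f = g := by
  ext m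
  obtain ⟨v, -, rfl⟩ := F.surj m
  exact (hf.apply v).trans (hg.apply v).symm

theorem Mat.len (hf : F.Mat f A) : A.length = 12 := by
  have := congrArg List.length hf
  simpa [F.len] using this.symm

theorem map_φ_inj (F : Frame M) : ∀ {A B : List ℕ}, (∀ a ∈ A, a < 4096) → (∀ a ∈ B, a < 4096) →
    A.map F.φ = B.map F.φ → A = B
  | [], B, _, _, e => by simpa using e.symm
  | a :: as, [], _, _, e => by simp at e
  | a :: as, b :: bs, hA, hB, e => by
    simp only [List.map_cons, List.cons.injEq] at e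
    rw [F.inj a (hA a (List.mem_cons_self ..)) b (hB b (List.mem_cons_self ..)) e.1,
      F.map_φ_inj (fun x hx => hA x (List.mem_cons_of_mem _ hx))
        (fun x hx => hB x (List.mem_cons_of_mem _ hx)) e.2]

theorem Mat.unique (hA : ∀ a ∈ A, a < 4096) (hB : ∀ a ∈ B, a < 4096) (h : F.Mat f A)
    (h' : F.Mat f B) : A = B :=
  F.map_φ_inj hA hB (h.symm.trans h')

/-- The coordinates of an element. -/
noncomputable def coord (F : Frame M) (m : M) : ℕ := (F.surj m).choose

theorem coord_lt (F : Frame M) (m : M) : F.coord m < 4096 := (F.surj m).choose_spec.1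

theorem φ_coord (F : Frame M) (m : M) : F.φ (F.coord m) = m := (F.surj m).choose_spec.2

/-- The matrix of an automorphism. -/
noncomputable def mat (F : Frame M) (f : MulAut M) : List ℕ := F.img.map fun x => F.coord (f x)

theorem mat_spec (F : Frame M) (f : MulAut M) : F.Mat f (F.mat f) := by
  rw [Mat, mat, List.map_map]
  exact List.map_congr_left fun x _ => (F.φ_coord _).symm

theorem mat_lt (F : Frame M) (f : MulAut M) : ∀ a ∈ F.mat f, a < 4096 := fun a ha => by
  obtain ⟨x, -, rfl⟩ := List.mem_map.1 ha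
  exact F.coord_lt _

theorem mm_lt (hA : ∀ a ∈ A, a < 4096) : ∀ a ∈ mm A B, a < 4096 := fun a ha => by
  obtain ⟨x, -, rfl⟩ := List.mem_map.1 ha
  exact ap_lt (n := 12) hA x

end Frame

end Cfsg.Agent.H69.J4
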