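import Cfsg.Agent.H84.J4N.Instance

/-!
A setup in a group gives a map of the presented fourth Janko group.
-/

set_option autoImplicit false
set_option maxRecDepth 100000

namespace Cfsg.Agent.H69.J4

open Cfsg H54.J4 H84.J4N

variable {G : Type*} [Group G] (S : H84.J4N.Setup G)

/-- The values of the three generators. -/
noncomputable def genVal : Spor.J4.Gen → G
  | .x => S.φ gA
  | .y => (S.φ gB)⁻¹
  | .t => S.t

theorem pv_zero : S.φ (lv 0) = S.φ gA := rfl
theorem pv_one : S.φ (lv 1) = (S.φ gB)⁻¹ := by simp [lv]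
theorem pv_two : S.φ (lv 2) = S.φ gB := by simp [lv]

theorem rels_hold : ∀ r ∈ jRels, FreeGroup.lift (genVal S) r = 1 := by
  set X := S.φ gA with hX
  set Y := (S.φ gB)⁻¹ with hY
  have hrel : ∀ w ∈ relsP, ev X Y⁻¹ w = 1 := by
    intro w hw
    have h : ev gA gB w = 1 := pres_rel hw
    rw [hX, hY, inv_inv, ← map_ev, h, map_one]
  have X2 : X * X = 1 := by simpa [ev, gen] using hrel [0, 0] (by rw [relsP_eq]; simp)
  have Xi : X⁻¹ = X := inv_eq_of_mul_eq_one_right X2
  have Y3 : Y * Y * Y = 1 := by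
    have := hrel [1, 1, 1] (by rw [relsP_eq]; simp)
    rw [← inv_eq_one] at this
    simpa [ev, gen, mul_assoc] using this
  have Yi : Y⁻¹ = Y * Y := inv_eq_of_mul_eq_one_right ((mul_assoc _ _ _).symm.trans Y3)
  have y3 : ∀ z : G, Y * (Y * (Y * z)) = z := fun z => by
    rw [← mul_assoc, ← mul_assoc, Y3, one_mul]
  have lx : FreeGroup.lift (genVal S) Spor.J4.x = X := FreeGroup.lift_apply_of
  have ly : FreeGroup.lift (genVal S) Spor.J4.y = Y := FreeGroup.lift_apply_of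
  have lt' : FreeGroup.lift (genVal S) Spor.J4.t = S.t := FreeGroup.lift_apply_of
  have tt : S.t⁻¹ = S.t := inv_eq_of_mul_eq_one_right S.sq
  rintro r (hr | hr)
  · obtain ⟨a, ha, -⟩ := hr
    simp [Spor.J4.edges, Spor.coxNodes] at ha
  change r ∈ Spor.J4.extra at hr
  simp only [Spor.J4.extra, List.mem_cons, List.not_mem_nil, or_false] at hr
  rcases hr with rfl | rfl | rfl | rfl | rfl | rfl | rfl | rfl | rfl | rfl | rfl | rfl
  · rw [map_pow, lx, pow_two, X2]
  · rw [map_pow, ly, pow_succ, pow_two, Y3]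
  · rw [← inv_eq_one, ← map_inv, ← hrel ((List.replicate 23 [0, 1]).flatten) (by rw [relsP_eq]; simp),
      ev_pow, map_inv, map_pow, map_mul, lx, ly, ← inv_pow]
    simp [ev, gen, Xi]
  · rw [← inv_eq_one, ← hrel ((List.replicate 12 [0, 2, 0, 1]).flatten) (by rw [relsP_eq]; simp),
      ev_pow, map_pow, ← inv_pow]
    simp [ev, gen, lx, ly, Xi, Yi, mul_assoc, y3]
  · rw [← inv_eq_one, ← hrel ((List.replicate 5 [0, 2, 0, 2, 0, 1, 0, 1]).flatten)
      (by rw [relsP_eq]; simp), ev_pow, map_pow, ← inv_pow]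
    simp [ev, gen, lx, ly, Xi, Yi, mul_assoc, y3]
  · rw [← inv_eq_one, ← hrel ((List.replicate 4 ([0, 1] ++ (List.replicate 3 [0, 1, 0, 2]).flatten)).flatten)
      (by rw [relsP_eq]; simp), ev_pow, map_pow, ev_append, ev_pow, map_mul, map_pow, ← inv_pow,
      mul_inv_rev, ← inv_pow]
    simp [ev, gen, lx, ly, Xi, Yi, mul_assoc, y3]
  · rw [← inv_eq_one, ← hrel ((List.replicate 3 [0, 1, 0, 1, 0, 2]).flatten ++
      (List.replicate 3 [0, 1, 0, 2, 0, 2]).flatten) (by rw [relsP_eq]; simp), ev_append, ev_pow,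
      ev_pow, map_mul, map_pow, map_pow, mul_inv_rev, ← inv_pow, ← inv_pow]
    simp [ev, gen, lx, ly, Xi, Yi, mul_assoc, y3]
  · rw [map_pow, lt', pow_two, S.sq]
  · have h := S.comm [1, 0, 1, 0, 2, 0, 2, 0, 1, 0, 1, 0, 1] (by decide)
    have e : S.φ (pv [1, 0, 1, 0, 2, 0, 2, 0, 1, 0, 1, 0, 1]) = FreeGroup.lift (genVal S)
        (Spor.J4.y * Spor.J4.x * Spor.J4.y * ((Spor.J4.x * (Spor.J4.y⁻¹)) ^ 2) *
          ((Spor.J4.x * Spor.J4.y) ^ 3)) := by
      simp [pv_cons, pv_zero, pv_one, pv_two, lx, ly, hX, hY, pow_succ, mul_assoc]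
    rw [map_mul, map_mul, map_mul, map_inv, map_inv, lt', ← e, mul_assoc (S.t⁻¹ * _), ← h]
    group
  · have h := S.comm [0] (by decide)
    simp only [pv_cons, pv_nil, mul_one, pv_zero] at h
    rw [← hX] at h
    rw [map_mul, map_mul, map_mul, map_inv, map_inv, lt', lx, mul_assoc (S.t⁻¹ * X⁻¹), ← h]
    group
  · rw [← S.relA]
    simp [wLine, pv_cons, pv_zero, pv_one, pv_two, lx, ly, lt', hX, hY, mul_assoc]
  · rw [← S.relB]
    have eU : S.φ (pv wU) = FreeGroup.lift (genVal S)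
        (((Spor.J4.x * Spor.J4.y) ^ 3) * Spor.J4.y * ((Spor.J4.x * Spor.J4.y) ^ 6) * Spor.J4.y) := by
      rw [pv_eq (v := [0, 1, 0, 1, 0, 1, 1, 0, 1, 0, 1, 0, 1, 0, 1, 0, 1, 0, 1, 1]) (by decide +kernel)]
      simp [pv_cons, pv_zero, pv_one, lx, ly, hX, hY, pow_succ, mul_assoc]
    have eP : S.φ (pv wPi) = FreeGroup.lift (genVal S)
        ((Spor.J4.y * Spor.J4.x * Spor.J4.y * Spor.J4.x * Spor.J4.y * Spor.J4.x * Spor.J4.y) ^ 3) := by
      simp [wPi, pv_cons, pv_zero, pv_one, lx, ly, hX, hY, pow_succ, mul_assoc]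
    rw [eU, eP]
    simp only [map_pow, map_mul, map_inv, lt']

/-- The map of the presented group. -/
noncomputable def setupHom : PresentedGroup jRels →* G := PresentedGroup.toGroup (rels_hold S)

theorem setupHom_t : setupHom S jT = S.t := PresentedGroup.toGroup.of _

theorem setupHom_ne_one (h : S.t ≠ 1) : setupHom S ≠ 1 := fun e => h (by
  rw [← setupHom_t S, e, MonoidHom.one_apply])

end Cfsg.Agent.H69.J4
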