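import Mathlib
import Cfsg.Agent.H6.Extraspecial

/-!
The quotient of an extraspecial two-group by its centre, with the squaring form, and the action of a
group containing it as a normal subgroup.
-/

set_option autoImplicit false
set_option linter.unusedSectionVars false

namespace Cfsg.Agent.H69.J4.CentForm

open Subgroup

variable {X : Type*} [Group X]

/-- The abelianised group, written additively. -/
abbrev VX (X : Type*) [Group X] : Type _ := Additive (Abelianization X)

/-- The class of an element. -/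
def mkV (a : X) : VX X := Additive.ofMul (Abelianization.of a)

theorem mkV_surj (v : VX X) : ∃ a : X, mkV a = v := by
  obtain ⟨a, ha⟩ := QuotientGroup.mk_surjective (s := commutator X) (Additive.toMul v)
  exact ⟨a, congrArg Additive.ofMul ha⟩

theorem mkV_mul (a b : X) : mkV (a * b) = mkV a + mkV b :=
  congrArg Additive.ofMul (map_mul Abelianization.of a b)

variable [Finite X] (hX : Cfsg.IsExtraspecial 2 X) {z : X} (hzc : z ∈ center X) (hz1 : z ≠ 1)
include hX

theorem mkV_eq_iff {a b : X} : mkV a = mkV b ↔ a⁻¹ * b ∈ center X := by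
  rw [← hX.1.2.2]
  exact Additive.ofMul.injective.eq_iff.trans QuotientGroup.eq

theorem mkV_eq_zero {a : X} : mkV a = 0 ↔ a ∈ center X := by
  rw [← hX.1.2.2]
  exact Additive.ofMul.injective.eq_iff.trans (QuotientGroup.eq_one_iff a)

include hzc hz1

theorem center_cases {x : X} (hx : x ∈ center X) : x = 1 ∨ x = z := by
  have h2 := hX.2
  rw [Nat.card_eq_two_iff' (⟨1, one_mem _⟩ : center X)] at h2
  obtain ⟨y, -, hu⟩ := h2
  by_cases h1 : x = 1
  · exact Or.inl h1
  · refine Or.inr ?_
    have e1 := hu ⟨x, hx⟩ fun e => h1 (congrArg Subtype.val e)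
    have e2 := hu ⟨z, hzc⟩ fun e => hz1 (congrArg Subtype.val e)
    exact congrArg Subtype.val (e1.trans e2.symm)

theorem zz : z * z = 1 := by
  rcases center_cases hX hzc hz1 (mul_mem hzc hzc) with h | h
  · exact h
  · exact absurd (mul_eq_left.1 h) hz1

omit hX hzc hz1 in
/-- The central element named by a bit. -/
def zp (z : X) (c : ZMod 2) : X := if c = 0 then 1 else z

omit hX hzc hz1 in
/-- The commutator bit. -/
noncomputable def bil (a b : X) : ZMod 2 := by
  classical exact if a * b = b * a then 0 else 1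

omit hX hzc hz1 in
/-- The squaring bit. -/
noncomputable def quad (a : X) : ZMod 2 := by
  classical exact if a * a = 1 then 0 else 1

omit hX hz1 in
theorem zp_mem (c : ZMod 2) : zp z c ∈ center X := by
  unfold zp; split_ifs <;> [exact one_mem _; exact hzc]

omit hX hz1 in
theorem zp_comm (c : ZMod 2) (a : X) : a * zp z c = zp z c * a :=
  Subgroup.mem_center_iff.1 (zp_mem hzc c) a

omit hX hzc in
theorem zp_inj : ∀ {c d : ZMod 2}, zp z c = zp z d → c = d := by
  intro c d
  rcases (by decide : ∀ c : ZMod 2, c = 0 ∨ c = 1) c with rfl | rfl <;>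
    rcases (by decide : ∀ c : ZMod 2, c = 0 ∨ c = 1) d with rfl | rfl <;>
    simp [zp, hz1, hz1.symm]

theorem zp_add (c d : ZMod 2) : zp z (c + d) = zp z c * zp z d := by
  rcases (by decide : ∀ c : ZMod 2, c = 0 ∨ c = 1) c with rfl | rfl <;>
    rcases (by decide : ∀ c : ZMod 2, c = 0 ∨ c = 1) d with rfl | rfl <;>
    simp [zp, zz hX hzc hz1, show (1 : ZMod 2) + 1 = 0 from rfl]

theorem mul_eq (a b : X) : a * b = zp z (bil a b) * (b * a) := by
  classical
  by_cases h : a * b = b * a
  · rw [show bil a b = 0 from if_pos h, zp, if_pos rfl, one_mul, h]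
  · rw [show bil a b = 1 from if_neg h, zp, if_neg one_ne_zero]
    have hc : a * b * a⁻¹ * b⁻¹ ∈ center X := by
      rw [← commutatorElement_def]; exact H6.extraspecial_commutator_mem_center hX a b
    rcases center_cases hX hzc hz1 hc with e | e
    · exact absurd (by rw [mul_inv_eq_one, mul_inv_eq_iff_eq_mul] at e; exact e) h
    · rw [← e]; group

theorem sq_eq (a : X) : a * a = zp z (quad a) := by
  classical
  have hc : a * a ∈ center X := Subgroup.mem_center_iff.2 fun b => by
    have h := mul_eq hX hzc hz1 a b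
    calc b * (a * a) = (zp z (bil a b) * zp z (bil a b)) * (b * (a * a)) := by
          rw [← zp_add hX hzc hz1, (by decide : ∀ c : ZMod 2, c + c = 0) _, zp, if_pos rfl, one_mul]
      _ = zp z (bil a b) * ((zp z (bil a b) * (b * a)) * a) := by group
      _ = zp z (bil a b) * ((a * b) * a) := by rw [← h]
      _ = (zp z (bil a b) * a) * (b * a) := by group
      _ = (a * zp z (bil a b)) * (b * a) := by rw [zp_comm hzc]
      _ = a * (zp z (bil a b) * (b * a)) := by group
      _ = a * a * b := by rw [← h]; group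
  by_cases h : a * a = 1
  · rw [show quad a = 0 from if_pos h, zp, if_pos rfl, h]
  · rw [show quad a = 1 from if_neg h, zp, if_neg one_ne_zero]
    exact (center_cases hX hzc hz1 hc).resolve_left h

theorem bil_symm (a b : X) : bil a b = bil b a := by
  classical simp only [bil, eq_comm]

theorem bil_mul (a b c : X) : bil a (b * c) = bil a b + bil a c := by
  refine zp_inj hz1 (mul_right_cancel (b := b * c * a) ?_)
  rw [← mul_eq hX hzc hz1, zp_add hX hzc hz1]
  calc a * (b * c) = (a * b) * c := by group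
    _ = zp z (bil a b) * (b * (a * c)) := by rw [mul_eq hX hzc hz1 a b]; group
    _ = zp z (bil a b) * ((b * zp z (bil a c)) * (c * a)) := by rw [mul_eq hX hzc hz1 a c]; group
    _ = zp z (bil a b) * ((zp z (bil a c) * b) * (c * a)) := by rw [zp_comm hzc]
    _ = _ := by group

theorem quad_mul (a b : X) : quad (a * b) = quad a + quad b + bil a b := by
  rw [bil_symm hX hzc hz1]
  refine zp_inj hz1 ?_
  rw [← sq_eq hX hzc hz1, zp_add hX hzc hz1, zp_add hX hzc hz1, ← sq_eq hX hzc hz1, ← sq_eq hX hzc hz1]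
  calc a * b * (a * b) = a * (b * a) * b := by group
    _ = (a * zp z (bil b a)) * (a * b) * b := by rw [mul_eq hX hzc hz1 b a]; group
    _ = (zp z (bil b a) * a) * (a * b) * b := by rw [zp_comm hzc]
    _ = zp z (bil b a) * ((a * a) * (b * b)) := by group
    _ = _ := (zp_comm hzc _ _).symm

theorem quad_central {c : X} (hc : c ∈ center X) : quad c = 0 := by
  rcases center_cases hX hzc hz1 hc with rfl | rfl
  · exact if_pos (one_mul 1)
  · exact if_pos (zz hX hzc hz1)

theorem bil_central {a c : X} (hc : c ∈ center X) : bil a c = 0 :=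
  if_pos (Subgroup.mem_center_iff.1 hc a)

theorem quad_congr {a b : X} (h : mkV a = mkV b) : quad a = quad b := by
  have hc := (mkV_eq_iff hX).1 h
  rw [show b = a * (a⁻¹ * b) by group, quad_mul hX hzc hz1, quad_central hX hzc hz1 hc,
    bil_central hX hzc hz1 hc, add_zero, add_zero]

theorem bil_congr {a b : X} (h : mkV a = mkV b) (c : X) : bil c a = bil c b := by
  have hc := (mkV_eq_iff hX).1 h
  rw [show b = a * (a⁻¹ * b) by group, bil_mul hX hzc hz1, bil_central hX hzc hz1 hc, add_zero]

omit hX hzc hz1 in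
/-- The squaring form on the quotient. -/
noncomputable def qV (v : VX X) : ZMod 2 := quad (mkV_surj v).choose

omit hX hzc hz1 in
/-- The commutator form on the quotient. -/
noncomputable def bV (v w : VX X) : ZMod 2 := bil (mkV_surj v).choose (mkV_surj w).choose

theorem qV_mk (a : X) : qV (mkV a) = quad a :=
  quad_congr hX hzc hz1 (mkV_surj (mkV a)).choose_spec

theorem bV_mk (a b : X) : bV (mkV a) (mkV b) = bil a b := by
  rw [bV, bil_congr hX hzc hz1 (mkV_surj (mkV b)).choose_spec, bil_symm hX hzc hz1,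
    bil_congr hX hzc hz1 (mkV_surj (mkV a)).choose_spec, bil_symm hX hzc hz1]

theorem qV_add (v w : VX X) : qV (v + w) = qV v + qV w + bV v w := by
  obtain ⟨a, rfl⟩ := mkV_surj v
  obtain ⟨b, rfl⟩ := mkV_surj w
  rw [← mkV_mul, qV_mk hX hzc hz1, qV_mk hX hzc hz1, qV_mk hX hzc hz1, bV_mk hX hzc hz1,
    quad_mul hX hzc hz1]

theorem bV_add (v w x : VX X) : bV v (w + x) = bV v w + bV v x := by
  obtain ⟨a, rfl⟩ := mkV_surj v
  obtain ⟨b, rfl⟩ := mkV_surj w
  obtain ⟨c, rfl⟩ := mkV_surj x
  rw [← mkV_mul, bV_mk hX hzc hz1, bV_mk hX hzc hz1, bV_mk hX hzc hz1, bil_mul hX hzc hz1]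

theorem bV_symm (v w : VX X) : bV v w = bV w v := bil_symm hX hzc hz1 _ _

theorem bV_nondeg (v : VX X) (h : ∀ w, bV v w = 0) : v = 0 := by
  obtain ⟨a, rfl⟩ := mkV_surj v
  refine (mkV_eq_zero hX).2 (Subgroup.mem_center_iff.2 fun b => ?_)
  have e := h (mkV b)
  rw [bV_mk hX hzc hz1] at e
  have := mul_eq hX hzc hz1 a b
  rw [e, zp, if_pos rfl, one_mul] at this
  exact this.symm

theorem add_self (v : VX X) : v + v = 0 := by
  obtain ⟨a, rfl⟩ := mkV_surj v
  rw [← mkV_mul, mkV_eq_zero hX, sq_eq hX hzc hz1]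
  exact zp_mem hzc _

omit hzc hz1 in
theorem card_V : 2 * Nat.card (VX X) = Nat.card X := by
  rw [← Subgroup.card_mul_index (commutator X), hX.1.2.2, hX.2, ← hX.1.2.2, Subgroup.index_eq_card]
  rfl

omit hX hzc hz1

/-- The endomorphism of the quotient induced by an automorphism. -/
def actV : MulAut X →* AddMonoid.End (VX X) where
  toFun φ := MonoidHom.toAdditive (Abelianization.map φ.toMonoidHom)
  map_one' := AddMonoidHom.ext fun v => by
    obtain ⟨a, rfl⟩ := mkV_surj v
    rfl
  map_mul' φ ψ := AddMonoidHom.ext fun v => by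
    obtain ⟨a, rfl⟩ := mkV_surj v
    rfl

theorem actV_mk (φ : MulAut X) (a : X) : actV φ (mkV a) = mkV (φ a) := rfl

theorem actV_injective (φ : MulAut X) : Function.Injective (actV φ) := fun v w h => by
  have h' : actV (φ⁻¹ * φ) v = actV (φ⁻¹ * φ) w := by
    rw [map_mul]; exact congrArg (actV φ⁻¹) h
  rw [inv_mul_cancel, map_one] at h'
  exact h'

include hX hzc hz1 in
theorem qV_act (φ : MulAut X) (v : VX X) : qV (actV φ v) = qV v := by
  classical
  obtain ⟨a, rfl⟩ := mkV_surj v
  rw [actV_mk, qV_mk hX hzc hz1, qV_mk hX hzc hz1]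
  simp only [quad, ← map_mul, map_eq_one_iff φ φ.injective]

end Cfsg.Agent.H69.J4.CentForm
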