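import Mathlib

/-!
Two facts on an elementary abelian group of order at most `4096` with commuting operators of order
three and seven, respectively three and eleven.
-/

set_option autoImplicit false
set_option linter.unusedSectionVars false

namespace Cfsg.Agent.H69.J4.CentModule

open Finset

variable {M : Type*} [AddCommGroup M]

/-- The sum of the first powers of an operator. -/
def norm (n : ℕ) (a : AddMonoid.End M) : AddMonoid.End M := ∑ i ∈ range n, a ^ i

theorem end_sum_apply {ι : Type*} (s : Finset ι) (f : ι → AddMonoid.End M) (v : M) :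
    (∑ i ∈ s, f i) v = ∑ i ∈ s, f i v := by
  classical
  induction s using Finset.induction_on with
  | empty => simp only [sum_empty]; rfl
  | insert a s ha ih => rw [sum_insert ha, sum_insert ha, ← ih]; rfl

theorem pow_apply_fixed {a : AddMonoid.End M} {v : M} (h : a v = v) : ∀ i : ℕ, (a ^ i) v = v
  | 0 => rfl
  | i + 1 => by rw [pow_succ]; show (a ^ i) (a v) = v; rw [h]; exact pow_apply_fixed h i

variable (h2 : ∀ v : M, v + v = 0)
include h2

theorem nsmul_odd {n : ℕ} (hn : Odd n) (v : M) : n • v = v := by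
  obtain ⟨k, rfl⟩ := hn
  rw [add_nsmul, mul_nsmul, two_nsmul, h2, nsmul_zero, zero_add, one_nsmul]

theorem end_add_self (a : AddMonoid.End M) : a + a = 0 :=
  AddMonoidHom.ext fun v => h2 (a v)

theorem norm_of_fixed {n : ℕ} (hn : Odd n) {a : AddMonoid.End M} {v : M} (h : a v = v) :
    norm n a v = v := by
  rw [norm, end_sum_apply, sum_congr rfl fun i _ => pow_apply_fixed h i, sum_const, card_range,
    nsmul_odd h2 hn]

omit h2 in
theorem apply_norm {n : ℕ} {a : AddMonoid.End M} (ha : a ^ n = 1) (v : M) :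
    a (norm n a v) = norm n a v := by
  rcases n with - | m
  · simp [norm]
  show (a * norm (m + 1) a) v = _
  refine congrArg (fun f : AddMonoid.End M => f v) ?_
  rw [norm, mul_sum, sum_range_succ, sum_range_succ' (fun i => a ^ i), ← pow_succ', ha, pow_zero]
  simp only [← pow_succ']

theorem norm_split {n : ℕ} (hn : Odd n) {a : AddMonoid.End M} (ha : a ^ n = 1) (v : M) :
    norm n a (v + norm n a v) = 0 := by
  rw [map_add, norm_of_fixed h2 hn (apply_norm ha v), h2]

theorem commute_sq {a b : AddMonoid.End M} (h : Commute a b) :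
    (a + b) * (a + b) = a * a + b * b := by
  rw [add_mul, mul_add, mul_add, h.eq]
  calc a * a + b * a + (b * a + b * b) = a * a + (b * a + b * a) + b * b := by abel
    _ = _ := by rw [end_add_self h2, add_zero]

/-- The sum of the powers of `u` with quadratic residue exponents. -/
def qsum (u : AddMonoid.End M) : AddMonoid.End M := u + u ^ 3 + u ^ 4 + u ^ 5 + u ^ 9

theorem qsum_sq {u : AddMonoid.End M} (hu : u ^ 11 = 1) :
    qsum u * qsum u + qsum u + 1 = norm 11 u := by
  have hc : ∀ i j : ℕ, Commute (u ^ i) (u ^ j) := fun i j => (Commute.refl u).pow_pow i j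
  have h1 : ∀ j : ℕ, Commute u (u ^ j) := fun j => (Commute.refl u).pow_right j
  have hs : qsum u * qsum u = u * u + u ^ 6 + u ^ 8 + u ^ 10 + u ^ 7 := by
    rw [qsum, commute_sq h2 ((((h1 9).add_left (hc 3 9)).add_left (hc 4 9)).add_left (hc 5 9)),
      commute_sq h2 (((h1 5).add_left (hc 3 5)).add_left (hc 4 5)),
      commute_sq h2 ((h1 4).add_left (hc 3 4)), commute_sq h2 (h1 3),
      ← pow_add, ← pow_add, ← pow_add, ← pow_add,
      show u ^ (9 + 9) = u ^ 7 by rw [show 9 + 9 = 11 + 7 from rfl, pow_add, hu, one_mul]]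
  rw [hs, qsum, norm]
  simp only [sum_range_succ, sum_range_zero, pow_zero, pow_one, zero_add, pow_two u]
  abel

variable [Finite M]

theorem card_two_pow (K : AddSubgroup M) : ∃ m : ℕ, Nat.card K = 2 ^ m := by
  haveI : Fact (Nat.Prime 2) := ⟨Nat.prime_two⟩
  have hp : IsPGroup 2 (Multiplicative ↥K) := fun v => ⟨1, by
    rw [pow_one, sq]
    exact Multiplicative.toAdd.injective (Subtype.ext (h2 (Multiplicative.toAdd v).1))⟩
  obtain ⟨m, hm⟩ := IsPGroup.iff_card.1 hp
  exact ⟨m, by rw [← hm]; exact Nat.card_congr Multiplicative.ofAdd⟩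

omit h2

theorem modEq_one {p : ℕ} [Fact p.Prime] {a : AddMonoid.End M} (ha : a ^ p = 1) (K : Set M)
    (hK : ∀ v ∈ K, a v ∈ K) (h0 : (0 : M) ∈ K) (hfix : ∀ v ∈ K, a v = v → v = 0) :
    Nat.card K % p = 1 % p := by
  classical
  haveI : Fintype K := Fintype.ofFinite _
  let f : Function.End K := fun v => ⟨a v, hK v v.2⟩
  have hpow : ∀ (i : ℕ) (v : K), (((f ^ i : Function.End K) v : K) : M) = (a ^ i) v := by
    intro i
    induction i with
    | zero => exact fun v => rfl
    | succ i ih =>
      intro v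
      rw [pow_succ, pow_succ]
      exact ih (f v)
  have hf : f ^ p ^ 1 = 1 := funext fun v => Subtype.ext (by rw [pow_one, hpow, ha]; rfl)
  have h := Equiv.Perm.card_fixedPoints_modEq hf
  have hcard : Fintype.card (Function.fixedPoints f) = 1 :=
    Fintype.card_eq_one_iff.2 ⟨⟨⟨0, h0⟩, Subtype.ext (map_zero a)⟩, fun v =>
      Subtype.ext (Subtype.ext (hfix _ v.1.2 (congrArg Subtype.val v.2)))⟩
  rw [hcard] at h
  rw [Nat.card_eq_fintype_card]
  exact h

include h2

/-- An operator of order eleven that commutes with a fixed-point-free operator of order three is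
inverted by no operator commuting with the latter. -/
theorem no_eleven (hM : Nat.card M ≤ 4096) {u w g : AddMonoid.End M} (hu : u ^ 11 = 1)
    (hw : w ^ 3 = 1) (hwf : ∀ v, w v = v → v = 0) (huw : Commute u w) (hg : Function.Injective g)
    (hgw : Commute g w) (hgu : g * u = u ^ 10 * g) : u = 1 := by
  haveI : Fact (Nat.Prime 11) := ⟨by norm_num⟩
  haveI : Fact (Nat.Prime 3) := ⟨Nat.prime_three⟩
  set S := qsum u with hS
  let K : AddSubgroup M := AddMonoidHom.ker (norm 11 u)
  have hwn : w * w + w + 1 = 0 := by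
    refine AddMonoidHom.ext fun v => ?_
    have h := hwf _ (apply_norm hw v)
    rw [norm] at h
    simp only [sum_range_succ, sum_range_zero, pow_zero, pow_one, zero_add, pow_two w] at h
    show w (w v) + w v + v = 0
    calc w (w v) + w v + v = v + w v + w (w v) := by abel
      _ = 0 := h
  have hSw : Commute S w :=
    ((((huw.add_left (huw.pow_left 3)).add_left (huw.pow_left 4)).add_left (huw.pow_left 5)).add_left
      (huw.pow_left 9))
  have hp : (S + w) * (S + w + 1) = norm 11 u := by
    rw [mul_add, mul_one, commute_sq h2 hSw, ← qsum_sq h2 hu, ← hS]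
    calc S * S + w * w + (S + w) = S * S + S + (w * w + w) := by abel
      _ = S * S + S + 1 := by
          have h1 : w * w + w = 1 := by
            calc w * w + w = w * w + w + (1 + 1) := by rw [end_add_self h2, add_zero]
              _ = 1 := by rw [← add_assoc, hwn, zero_add]
          rw [h1]
  have hNw : Commute (norm 11 u) w := Commute.sum_left _ _ _ fun i _ => huw.pow_left i
  have hNg : g * norm 11 u = norm 11 (u ^ 10) * g := by
    rw [norm, norm, mul_sum, sum_mul]
    exact sum_congr rfl fun i _ => SemiconjBy.pow_right (show SemiconjBy g u (u ^ 10) from hgu) i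
  have hu10 : ∀ i j : ℕ, i % 11 = j → u ^ i = u ^ j := fun i j hij => by
    rw [pow_eq_pow_mod i hu, hij]
  have hS' : qsum (u ^ 10) = u ^ 10 + u ^ 8 + u ^ 7 + u ^ 6 + u ^ 2 := by
    simp only [qsum, ← pow_mul]
    rw [hu10 (10 * 3) 8 rfl, hu10 (10 * 4) 7 rfl, hu10 (10 * 5) 6 rfl, hu10 (10 * 9) 2 rfl]
  have hN' : norm 11 (u ^ 10) = norm 11 u := by
    simp only [norm, sum_range_succ, sum_range_zero, ← pow_mul, zero_add]
    rw [hu10 (10 * 2) 9 rfl, hu10 (10 * 3) 8 rfl, hu10 (10 * 4) 7 rfl, hu10 (10 * 5) 6 rfl,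
      hu10 (10 * 6) 5 rfl, hu10 (10 * 7) 4 rfl, hu10 (10 * 8) 3 rfl, hu10 (10 * 9) 2 rfl,
      hu10 (10 * 10) 1 rfl, Nat.mul_one, Nat.mul_zero]
    abel
  have hSS : S + qsum (u ^ 10) + 1 = norm 11 u := by
    rw [hS, hS', qsum, norm]
    simp only [sum_range_succ, sum_range_zero, pow_zero, pow_one, zero_add]
    abel
  have hgS : g * S = qsum (u ^ 10) * g := by
    have hk : ∀ i : ℕ, g * u ^ i = (u ^ 10) ^ i * g := fun i =>
      SemiconjBy.pow_right (show SemiconjBy g u (u ^ 10) from hgu) i
    rw [hS, qsum, qsum]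
    simp only [mul_add, add_mul, hk, hgu]
  let K1 : AddSubgroup M := K ⊓ AddMonoidHom.ker (S + w)
  let K2 : AddSubgroup M := K ⊓ AddMonoidHom.ker (S + w + 1)
  have gK : ∀ v ∈ K, g v ∈ K := fun v hv => by
    show norm 11 u (g v) = 0
    rw [← hN']
    calc norm 11 (u ^ 10) (g v) = g (norm 11 u v) :=
          (congrArg (fun f : AddMonoid.End M => f v) hNg).symm
      _ = 0 := by rw [show norm 11 u v = 0 from hv, map_zero]
  have hswap : ∀ v ∈ K, S (g v) + w (g v) = g ((S + w + 1) v) := fun v hv => by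
    have e1 : g (S v) = qsum (u ^ 10) (g v) := congrArg (fun f : AddMonoid.End M => f v) hgS
    have e2 : g (w v) = w (g v) := congrArg (fun f : AddMonoid.End M => f v) hgw.eq
    have e3 : S (g v) + qsum (u ^ 10) (g v) + g v = 0 :=
      (congrArg (fun f : AddMonoid.End M => f (g v)) hSS).trans (gK v hv)
    show S (g v) + w (g v) = g (S v + w v + v)
    rw [map_add, map_add, e1, e2, ← sub_eq_zero, sub_eq_add_neg,
      show -(qsum (u ^ 10) (g v) + w (g v) + g v) = qsum (u ^ 10) (g v) + w (g v) + g v from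
        neg_eq_of_add_eq_zero_left (h2 _)]
    calc S (g v) + w (g v) + (qsum (u ^ 10) (g v) + w (g v) + g v)
        = (S (g v) + qsum (u ^ 10) (g v) + g v) + (w (g v) + w (g v)) := by abel
      _ = 0 := by rw [e3, h2, add_zero]
  have h12 : ∀ v ∈ K1, g v ∈ K2 := fun v hv => by
    refine ⟨gK v hv.1, ?_⟩
    show S (g v) + w (g v) + g v = 0
    rw [hswap v hv.1, ← map_add]
    have h : S v + w v = 0 := hv.2
    show g (S v + w v + v + v) = 0
    rw [h, zero_add, h2, map_zero]
  have h21 : ∀ v ∈ K2, g v ∈ K1 := fun v hv => by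
    refine ⟨gK v hv.1, ?_⟩
    show S (g v) + w (g v) = 0
    rw [hswap v hv.1, show (S + w + 1) v = 0 from hv.2, map_zero]
  have hcard12 : Nat.card K1 = Nat.card K2 := le_antisymm
    (Nat.card_le_card_of_injective (fun v : K1 => (⟨g v, h12 v v.2⟩ : K2))
      fun a b h => Subtype.ext (hg (congrArg Subtype.val h)))
    (Nat.card_le_card_of_injective (fun v : K2 => (⟨g v, h21 v v.2⟩ : K1))
      fun a b h => Subtype.ext (hg (congrArg Subtype.val h)))
  have hcardK : Nat.card K = Nat.card K1 * Nat.card K2 := by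
    rw [← Nat.card_prod]
    refine (Nat.card_congr (Equiv.ofBijective
      (fun x : K1 × K2 => (⟨x.1.1 + x.2.1, add_mem x.1.2.1 x.2.2.1⟩ : K)) ⟨?_, ?_⟩)).symm
    · rintro ⟨a, b⟩ ⟨a', b'⟩ h
      have h' : a.1 + b.1 = a'.1 + b'.1 := congrArg Subtype.val h
      have hab : a.1 - a'.1 = b'.1 - b.1 := by rw [sub_eq_sub_iff_add_eq_add, h', add_comm]
      have hd1 : a.1 - a'.1 ∈ K1 := sub_mem a.2 a'.2
      have hd2 : a.1 - a'.1 ∈ K2 := hab ▸ sub_mem b'.2 b.2
      have hd : a.1 - a'.1 = 0 := by
        have e1 : S (a.1 - a'.1) + w (a.1 - a'.1) = 0 := hd1.2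
        have e2 : S (a.1 - a'.1) + w (a.1 - a'.1) + (a.1 - a'.1) = 0 := hd2.2
        rwa [e1, zero_add] at e2
      exact Prod.ext (Subtype.ext (sub_eq_zero.1 hd))
        (Subtype.ext (sub_eq_zero.1 (hab.symm.trans hd)).symm)
    · rintro ⟨v, hv⟩
      have hk : ∀ f : AddMonoid.End M, Commute (norm 11 u) f → f v ∈ K := fun f hf => by
        show norm 11 u (f v) = 0
        calc norm 11 u (f v) = (norm 11 u * f) v := rfl
          _ = (f * norm 11 u) v := by rw [hf.eq]
          _ = f (norm 11 u v) := rfl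
          _ = 0 := by rw [show norm 11 u v = 0 from hv, map_zero]
      have hNS : Commute (norm 11 u) S := by
        refine Commute.sum_left _ _ _ fun i _ => ?_
        rw [hS, qsum]
        exact (((((Commute.refl u).pow_left i).add_right ((Commute.refl u).pow_pow i 3)).add_right
          ((Commute.refl u).pow_pow i 4)).add_right ((Commute.refl u).pow_pow i 5)).add_right
          ((Commute.refl u).pow_pow i 9)
      have hNa : Commute (norm 11 u) (S + w) := hNS.add_right hNw
      have hNb : Commute (norm 11 u) (S + w + 1) := hNa.add_right (Commute.one_right _)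
      have hq : Commute (S + w + 1) (S + w) := (Commute.refl _).add_left (Commute.one_left _)
      refine ⟨⟨⟨(S + w + 1) v, hk _ hNb, ?_⟩, ⟨(S + w) v, hk _ hNa, ?_⟩⟩, Subtype.ext ?_⟩
      · exact (congrArg (fun f : AddMonoid.End M => f v) hp).trans hv
      · show ((S + w + 1) * (S + w)) v = 0
        rw [hq.eq, hp]; exact hv
      · show S v + w v + v + (S v + w v) = v
        rw [add_comm (S v + w v) v, add_assoc, h2, add_zero]
  have hwK : ∀ v ∈ K1, w v ∈ K1 := fun v hv => by
    refine ⟨?_, ?_⟩
    · show (norm 11 u * w) v = 0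
      rw [hNw.eq]
      show w (norm 11 u v) = 0
      rw [show norm 11 u v = 0 from hv.1, map_zero]
    · show ((S + w) * w) v = 0
      rw [(hSw.add_left (Commute.refl w)).eq]
      show w ((S + w) v) = 0
      rw [show (S + w) v = 0 from hv.2, map_zero]
  have h31 := modEq_one hw (K1 : Set M) hwK (zero_mem _) fun v _ h => hwf v h
  have hfixK : ∀ v ∈ K, u v = v → v = 0 := fun v hv h => by
    rw [← norm_of_fixed h2 (n := 11) (by decide) h]; exact hv
  have huK : ∀ v ∈ K, u v ∈ K := fun v hv => by
    show (norm 11 u * u) v = 0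
    rw [show norm 11 u * u = u * norm 11 u from
      (Commute.sum_left _ _ _ fun i _ => Commute.pow_self u i : Commute (norm 11 u) u).eq]
    show u (norm 11 u v) = 0
    rw [show norm 11 u v = 0 from hv, map_zero]
  have h11 := modEq_one hu (K : Set M) huK (zero_mem _) hfixK
  simp only [SetLike.coe_sort_coe] at h31 h11
  obtain ⟨a, ha⟩ := card_two_pow h2 K1
  have hle : Nat.card K ≤ 4096 := (AddSubgroup.card_le_card_addGroup K).trans hM
  rw [hcardK, ← hcard12, ha, ← pow_add] at h11 hle
  rw [ha] at h31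
  have ha6 : a ≤ 6 := by
    by_contra hlt
    have : 2 ^ 14 ≤ 2 ^ (a + a) := Nat.pow_le_pow_right (by norm_num) (by omega)
    omega
  have ha0 : a = 0 := by interval_cases a <;> first | rfl | omega
  have hK1 : Nat.card K = 1 := by rw [hcardK, ← hcard12, ha, ha0]; rfl
  refine AddMonoidHom.ext fun v => ?_
  have hv : v + norm 11 u v ∈ K := norm_split h2 (by decide) hu v
  rw [AddSubgroup.eq_bot_of_card_eq K hK1, AddSubgroup.mem_bot] at hv
  have e : v = norm 11 u v := by
    calc v = v + (norm 11 u v + norm 11 u v) := by rw [h2, add_zero]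
      _ = _ := by rw [← add_assoc, hv, zero_add]
  show u v = v
  rw [e]; exact apply_norm hu v

/-- An invariant nondegenerate quadratic form forces an operator of order seven that commutes with a
nontrivially fixed operator of order three to be trivial where the latter has no fixed point. -/
theorem no_seven (hM : Nat.card M ≤ 4096) {h w : AddMonoid.End M} (hh : h ^ 7 = 1) (hw : w ^ 3 = 1)
    (hhw : Commute h w) (q : M → ZMod 2) (b : M → M → ZMod 2)
    (hq : ∀ v v', q (v + v') = q v + q v' + b v v')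
    (hb : ∀ v x y, b v (x + y) = b v x + b v y) (hsymm : ∀ v v', b v v' = b v' v)
    (hnd : ∀ v, (∀ x, b v x = 0) → v = 0) (hqh : ∀ v, q (h v) = q v) (hqw : ∀ v, q (w v) = q v)
    {v₀ : M} (hv₀ : w v₀ = v₀) (hne : v₀ ≠ 0) : ∀ v, norm 3 w v = 0 → h v = v := by
  haveI : Fact (Nat.Prime 7) := ⟨by norm_num⟩
  haveI : Fact (Nat.Prime 3) := ⟨Nat.prime_three⟩
  classical
  haveI : Fintype M := Fintype.ofFinite M
  have z2 : ∀ x : ZMod 2, x + x = 0 := by decide
  have hbf : ∀ {a : AddMonoid.End M}, (∀ v, q (a v) = q v) → ∀ v v', b (a v) (a v') = b v v' := by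
    intro a ha v v'
    have e := hq (a v) (a v')
    rw [← map_add, ha, ha, ha, hq] at e
    exact (add_left_cancel e).symm
  have hb0 : ∀ v, b v 0 = 0 := fun v => by
    have := hb v 0 0
    rw [add_zero] at this
    simpa using this
  have hbsum : ∀ (s : Finset ℕ) (f : ℕ → M) (v : M), b v (∑ i ∈ s, f i) = ∑ i ∈ s, b v (f i) := by
    intro s f v
    induction s using Finset.induction_on with
    | empty => simp [hb0]
    | insert a s ha ih => rw [sum_insert ha, sum_insert ha, hb, ih]
  have adj : ∀ {a : AddMonoid.End M} {n : ℕ}, a ^ n = 1 → (∀ v, q (a v) = q v) → ∀ v x,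
      b v (norm n a x) = b (norm n a v) x := by
    intro a n ha haq v x
    have hiter : ∀ (i : ℕ) (v v' : M), b ((a ^ i) v) ((a ^ i) v') = b v v' := by
      intro i
      induction i with
      | zero => exact fun v v' => rfl
      | succ i ih =>
        intro v v'
        rw [pow_succ]
        exact (ih _ _).trans (hbf haq v v')
    rcases n with - | m
    · simp [norm, hb0, hsymm 0 x]
    rw [hsymm (norm _ a v), norm, end_sum_apply, end_sum_apply, hbsum, hbsum]
    have key : ∀ i ∈ range (m + 1), b x ((a ^ i) v) = b v ((a ^ ((m + 1 - i) % (m + 1))) x) := by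
      intro i hi
      have hi' := mem_range.1 hi
      conv_rhs => rw [← hiter i]
      rw [← Function.comp_apply (f := (a ^ i : AddMonoid.End M)) (x := x), hsymm x]
      refine congrArg (b _) ?_
      show x = (a ^ i * a ^ ((m + 1 - i) % (m + 1))) x
      rw [← pow_add, pow_eq_pow_mod _ ha, Nat.add_mod_mod, show i + (m + 1 - i) = m + 1 by omega,
        Nat.mod_self, pow_zero]
      rfl
    rw [sum_congr rfl key]
    refine sum_nbij' (fun i => (m + 1 - i) % (m + 1)) (fun i => (m + 1 - i) % (m + 1))
      (fun i _ => mem_range.2 (Nat.mod_lt _ (by omega)))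
      (fun i _ => mem_range.2 (Nat.mod_lt _ (by omega))) ?_ ?_ ?_
    · intro i hi
      have hi' := mem_range.1 hi
      rcases eq_or_ne i 0 with rfl | h0
      · simp
      · rw [Nat.mod_eq_of_lt (show m + 1 - i < m + 1 by omega),
          show m + 1 - (m + 1 - i) = i by omega, Nat.mod_eq_of_lt hi']
    · intro i hi
      have hi' := mem_range.1 hi
      rcases eq_or_ne i 0 with rfl | h0
      · simp
      · rw [Nat.mod_eq_of_lt (show m + 1 - i < m + 1 by omega),
          show m + 1 - (m + 1 - i) = i by omega, Nat.mod_eq_of_lt hi']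
    · intro i hi
      have hi' := mem_range.1 hi
      rcases eq_or_ne i 0 with rfl | h0
      · simp
      · rw [Nat.mod_eq_of_lt (show m + 1 - i < m + 1 by omega),
          show m + 1 - (m + 1 - i) = i by omega, Nat.mod_eq_of_lt hi']
  let U : AddSubgroup M := AddMonoidHom.ker (norm 3 w)
  let K : AddSubgroup M := U ⊓ AddMonoidHom.ker (norm 7 h)
  have hwh : Commute (norm 7 h) w := Commute.sum_left _ _ _ fun i _ => hhw.pow_left i
  have hhn : Commute (norm 3 w) h := Commute.sum_left _ _ _ fun i _ => hhw.symm.pow_left i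
  have hnn : Commute (norm 3 w) (norm 7 h) :=
    Commute.sum_right _ _ _ fun i _ => hhn.pow_right i
  have inv : ∀ f : AddMonoid.End M, Commute (norm 3 w) f → Commute (norm 7 h) f → ∀ v ∈ K,
      f v ∈ K := by
    intro f f1 f2 v hv
    refine ⟨?_, ?_⟩
    · show (norm 3 w * f) v = 0
      rw [f1.eq]
      show f (norm 3 w v) = 0
      rw [show norm 3 w v = 0 from hv.1, map_zero]
    · show (norm 7 h * f) v = 0
      rw [f2.eq]
      show f (norm 7 h v) = 0
      rw [show norm 7 h v = 0 from hv.2, map_zero]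
  have hhK := inv h hhn (Commute.sum_left _ _ _ fun i _ => Commute.pow_self h i)
  have hwK := inv w (Commute.sum_left _ _ _ fun i _ => Commute.pow_self w i) hwh
  have hfh : ∀ v ∈ K, h v = v → v = 0 := fun v hv e => by
    rw [← norm_of_fixed h2 (n := 7) (by decide) e]; exact hv.2
  have hfw : ∀ v ∈ K, w v = v → v = 0 := fun v hv e => by
    rw [← norm_of_fixed h2 (n := 3) (by decide) e]; exact hv.1
  have h7 := modEq_one hh (K : Set M) hhK (zero_mem _) hfh
  have h3 := modEq_one hw (K : Set M) hwK (zero_mem _) hfw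
  simp only [SetLike.coe_sort_coe] at h7 h3
  obtain ⟨m, hm⟩ := card_two_pow h2 K
  have hlt : Nat.card K < 4096 := by
    refine lt_of_lt_of_le (lt_of_le_of_ne (AddSubgroup.card_le_card_addGroup K) fun e => ?_) hM
    have htop : v₀ ∈ K := by rw [AddSubgroup.eq_top_of_card_eq K e]; exact AddSubgroup.mem_top _
    exact hne (hfw _ htop hv₀)
  rw [hm] at h7 h3 hlt
  have hm12 : m < 12 := by
    by_contra hge
    have : 2 ^ 12 ≤ 2 ^ m := Nat.pow_le_pow_right (by norm_num) (by omega)
    omega
  obtain rfl | rfl : m = 0 ∨ m = 6 := by interval_cases m <;> first | exact Or.inl rfl | exact Or.inr rfl | omega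
  · intro v hv
    have hvK : v + norm 7 h v ∈ K := by
      refine ⟨?_, norm_split h2 (by decide) hh v⟩
      show norm 3 w (v + norm 7 h v) = 0
      rw [map_add, hv, show norm 3 w (norm 7 h v) = (norm 3 w * norm 7 h) v from rfl, hnn.eq]
      show 0 + norm 7 h (norm 3 w v) = 0
      rw [hv, map_zero, add_zero]
    rw [AddSubgroup.eq_bot_of_card_eq K (by rw [hm]; rfl), AddSubgroup.mem_bot] at hvK
    have e : v = norm 7 h v := by
      calc v = v + (norm 7 h v + norm 7 h v) := by rw [h2, add_zero]
        _ = _ := by rw [← add_assoc, hvK, zero_add]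
    rw [e]; exact apply_norm hh v
  exfalso
  haveI : Fintype K := Fintype.ofFinite K
  have hK64 : Fintype.card K = 64 := by rw [← Nat.card_eq_fintype_card, hm]; rfl
  have hndK : ∀ x : K, (∀ v : K, b x v = 0) → x = 0 := fun x hx => Subtype.ext (hnd _ fun y => by
    set y1 := y + norm 3 w y with hy1
    have h1 : norm 3 w y1 = 0 := norm_split h2 (by decide) hw y
    have h1' : y1 + norm 7 h y1 ∈ K := by
      refine ⟨?_, norm_split h2 (by decide) hh y1⟩
      show norm 3 w (y1 + norm 7 h y1) = 0
      rw [map_add, h1, show norm 3 w (norm 7 h y1) = (norm 3 w * norm 7 h) y1 from rfl, hnn.eq]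
      show 0 + norm 7 h (norm 3 w y1) = 0
      rw [h1, map_zero, add_zero]
    have e1 : b x (norm 3 w y) = 0 := by
      rw [adj hw hqw, show norm 3 w (x : M) = 0 from x.2.1, hsymm, hb0]
    have e2 : b x (norm 7 h y1) = 0 := by
      rw [adj hh hqh, show norm 7 h (x : M) = 0 from x.2.2, hsymm, hb0]
    have e3 : b x (y1 + norm 7 h y1) = 0 := hx ⟨_, h1'⟩
    rw [hb, e2, add_zero, hy1, hb, e1, add_zero] at e3
    exact e3)
  let ε : ZMod 2 → ℤ := fun c => if c = 0 then 1 else -1
  have εadd : ∀ x y, ε (x + y) = ε x * ε y := by decide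
  have hsum : ∀ x : K, x ≠ 0 → ∑ v : K, ε (b x v) = 0 := by
    intro x hx
    obtain ⟨v1, hv1⟩ : ∃ v1 : K, b x v1 ≠ 0 := by
      by_contra hall
      push Not at hall
      exact hx (hndK x hall)
    have e := Equiv.sum_comp (Equiv.addRight v1) (fun v : K => ε (b x v))
    have hneg : ε (b x v1) = -1 := if_neg hv1
    simp only [Equiv.coe_addRight, AddSubgroup.coe_add, hb, εadd, hneg, mul_neg, mul_one,
      sum_neg_distrib] at e
    omega
  set S : ℤ := ∑ v : K, ε (q v) with hSdef
  have hS : S * S = 64 := by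
    have hpt : ∀ v x : K, ε (q v) * ε (q (x + v : K)) = ε (q x) * ε (b x v) := fun v x => by
      rw [AddSubgroup.coe_add, hq, εadd, εadd]
      have : ε (q v) * ε (q v) = 1 := by rcases (by decide : ∀ c, ε c = 1 ∨ ε c = -1) (q v) with e | e <;> rw [e] <;> rfl
      calc ε (q v) * (ε (q x) * ε (q v) * ε (b x v)) = (ε (q v) * ε (q v)) * (ε (q x) * ε (b x v)) := by ring
        _ = _ := by rw [this, one_mul]
    calc S * S = ∑ v : K, ε (q v) * S := by rw [hSdef, sum_mul]
      _ = ∑ v : K, ∑ x : K, ε (q v) * ε (q (x + v : K)) := by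
          refine sum_congr rfl fun v _ => ?_
          rw [← mul_sum, hSdef]
          exact congrArg (ε (q v) * ·) (Equiv.sum_comp (Equiv.addRight v) (fun y : K => ε (q y))).symm
      _ = ∑ x : K, ε (q x) * ∑ v : K, ε (b x v) := by
          rw [sum_comm]; simp only [hpt, mul_sum]
      _ = ε (q (0 : K)) * ∑ v : K, ε (b (0 : K) v) :=
          sum_eq_single (0 : K) (fun x _ hx => by rw [hsum x hx, mul_zero]) (by simp)
      _ = 64 := by
          have hq0 : q 0 = 0 := by simpa [hb0] using hq 0 0
          simp only [AddSubgroup.coe_zero, hq0, hsymm 0, hb0]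
          simp [ε, hK64]
  let Z : Set M := {v | v ∈ K ∧ q v = 0}
  have hZ0 : (0 : M) ∈ Z := ⟨zero_mem _, by simpa [hb0] using hq 0 0⟩
  have z7 := modEq_one hh Z (fun v hv => ⟨hhK v hv.1, (hqh v).trans hv.2⟩) hZ0
    fun v hv => hfh v hv.1
  have z3 := modEq_one hw Z (fun v hv => ⟨hwK v hv.1, (hqw v).trans hv.2⟩) hZ0
    fun v hv => hfw v hv.1
  have hcnt : S = 2 * (Nat.card Z : ℤ) - 64 := by
    have hc : Nat.card Z = ((univ : Finset K).filter fun v : K => q (v : M) = 0).card := by
      rw [← Fintype.card_subtype, ← Nat.card_eq_fintype_card]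
      exact Nat.card_congr
        { toFun := fun v => ⟨⟨v.1, v.2.1⟩, v.2.2⟩
          invFun := fun v => ⟨v.1.1, v.1.2, v.2⟩
          left_inv := fun v => rfl
          right_inv := fun v => rfl }
    have hpt : ∀ v : K, ε (q v) = 2 * (if q (v : M) = 0 then 1 else 0) - 1 := fun v => by
      by_cases hv : q (v : M) = 0 <;> simp [ε, hv]
    rw [hSdef, sum_congr rfl fun v _ => hpt v, sum_sub_distrib, ← mul_sum, sum_boole, hc,
      sum_const, card_univ, hK64]
    norm_num
  rcases (mul_self_eq_mul_self_iff.1 (hS.trans (show (64 : ℤ) = 8 * 8 by norm_num))) with e | e <;>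
    · rw [hcnt] at e
      omega

end Cfsg.Agent.H69.J4.CentModule
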