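import Cfsg.Agent.H29.M22Facts.Model
import Cfsg.Agent.H92.PSL23

/-!
An element of order eleven of `M22` inverted by an automorphism.
-/

set_option autoImplicit false

namespace Cfsg.Agent.H69.J4

open Cfsg

theorem exists_eleven_inverted :
    ∃ (u : H25.M22.G22) (α : MulAut H25.M22.G22), orderOf u = 11 ∧ α u = u⁻¹ := by
  haveI : Fact (Nat.Prime 11) := ⟨by norm_num⟩
  have hle := H92.L23.final.1.1
  have hm : H90.mulTwo ∈ Spor.M22 :=
    H29.M22.mem_M22_iff.2 ⟨hle (Subgroup.subset_closure (by simp)), by decide, by decide⟩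
  have hp : projInv ∈ H29.M22.A22 :=
    H29.M22.mem_A22.2 ⟨hle (Subgroup.subset_closure (by simp)), Or.inr ⟨by decide, by decide⟩⟩
  refine ⟨⟨H90.mulTwo, hm⟩, H29.M22.toAut ⟨projInv, hp⟩,
    orderOf_eq_prime (Subtype.ext (by decide +kernel : H90.mulTwo ^ 11 = 1))
      (fun e => absurd (congrArg Subtype.val e) (by decide +kernel : H90.mulTwo ≠ 1)),
    Subtype.ext ?_⟩
  rw [H29.M22.toAut_apply]
  show projInv * H90.mulTwo * projInv⁻¹ = H90.mulTwo⁻¹
  decide +kernel

end Cfsg.Agent.H69.J4
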