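import Cfsg.Agent.H69.J4.Form

/-!
The elementary abelian subgroup of order `2 ^ 11`.
-/

set_option autoImplicit false

namespace Cfsg.Agent.H69.J4

open Subgroup

theorem k2_sub : (mK2.all fun A => mQ.contains A) = true := by decide +kernel

variable {G : Type*} [Group G] [Finite G]
variable {z : G} {E P : Subgroup G} {d : Data z E P} (R : Real d)

namespace Real

theorem A0_le_Q : R.A0 ≤ R.Q := by
  intro x hx
  show R.code x ∈ mQ
  rcases List.mem_cons.1 (show R.code x ∈ mI :: mK2 from hx) with h | h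
  · rw [h]; exact mI_mem_mQ
  · simpa using (List.all_eq_true.1 k2_sub) _ h

theorem card_A0 : Nat.card R.A0 = 16 := by
  classical
  have hlen : (mI :: mK2).length = 16 := by decide +kernel
  have hmem : ∀ i : Fin 16, ∃ x ∈ R.A0, R.code x = (mI :: mK2)[i.1]'(lt_of_lt_of_eq i.2 hlen.symm) := by
    intro i
    have hm : (mI :: mK2)[i.1]'(lt_of_lt_of_eq i.2 hlen.symm) ∈ mQ := by
      rcases List.mem_cons.1 (List.getElem_mem (lt_of_lt_of_eq i.2 hlen.symm) : _ ∈ mI :: mK2) with h | h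
      · rw [h]; exact mI_mem_mQ
      · simpa using (List.all_eq_true.1 k2_sub) _ h
    obtain ⟨j, hj, hjA⟩ := List.getElem_of_mem hm
    obtain ⟨w, hw⟩ := R.exists_of_mem_mQ j (q_len ▸ hj)
    rw [List.getD_eq_getElem (hn := hj), hjA] at hw
    exact ⟨d.ρ (R.word w), by show R.code _ ∈ mI :: mK2; rw [hw]; exact List.getElem_mem _, hw⟩
  let f : Fin 16 → R.A0 := fun i => ⟨(hmem i).choose, (hmem i).choose_spec.1⟩
  refine ((Nat.card_congr (Equiv.ofBijective f ⟨fun i j e => ?_, fun x => ?_⟩)).symm).trans (by simp)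
  · have h1 := (hmem i).choose_spec.2
    have h2 := (hmem j).choose_spec.2
    rw [show (hmem i).choose = (hmem j).choose from congrArg Subtype.val e, h2] at h1
    exact Fin.ext ((List.Nodup.getElem_inj_iff k2_nodup).1 h1.symm)
  · obtain ⟨i, hi, hix⟩ := List.getElem_of_mem (show R.code x.1 ∈ mI :: mK2 from x.2)
    refine ⟨⟨i, hlen ▸ hi⟩, Subtype.ext (R.mat_inj ?_)⟩
    rw [(hmem _).choose_spec.2, hix]

/-- The candidate for the elementary abelian subgroup. -/
def V0 : Subgroup G where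
  carrier := {t | ∃ h : t ∈ centralizer ({z} : Set G), d.ρ ⟨t, h⟩ ∈ R.A0 ∧ ∀ s ∈ R.sHat, s * t = t * s}
  one_mem' := ⟨one_mem _, by rw [show (⟨1, one_mem _⟩ : centralizer ({z} : Set G)) = 1 from rfl, map_one]
                             exact one_mem _, fun s _ => by simp⟩
  mul_mem' := by
    rintro a b ⟨ha, ha1, ha2⟩ ⟨hb, hb1, hb2⟩
    refine ⟨mul_mem ha hb, ?_, fun s hs => ?_⟩
    · rw [show (⟨a * b, mul_mem ha hb⟩ : centralizer ({z} : Set G)) = ⟨a, ha⟩ * ⟨b, hb⟩ from rfl,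
        map_mul]
      exact mul_mem ha1 hb1
    · rw [← mul_assoc, ha2 s hs, mul_assoc, hb2 s hs, mul_assoc]
  inv_mem' := by
    rintro a ⟨ha, ha1, ha2⟩
    refine ⟨inv_mem ha, ?_, fun s hs => ?_⟩
    · rw [show (⟨a⁻¹, inv_mem ha⟩ : centralizer ({z} : Set G)) = (⟨a, ha⟩)⁻¹ from rfl, map_inv]
      exact inv_mem ha1
    · exact (Commute.inv_right (ha2 s hs : Commute s a)).eq

theorem V0_E {t : G} (ht : t ∈ R.V0) (hE : t ∈ E) : t ∈ R.sHat := by
  obtain ⟨-, -, hc⟩ := ht
  exact R.sHat_centralizer hE hc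

theorem sHat_le_V0 : R.sHat ≤ R.V0 := fun s hs => by
  refine ⟨d.L.le_H (R.sHat_le hs), ?_, fun u hu => R.sHat_comm hu hs⟩
  rw [(d.mem_ker_iff).2 (show ((⟨s, d.L.le_H (R.sHat_le hs)⟩ : centralizer ({z} : Set G)) : G) ∈ E from
    R.sHat_le hs)]
  exact one_mem _

theorem exists_combination {K : Subgroup G} :
    ∀ (l : List ℕ), (∀ u ∈ l, ∃ a : E, (a : G) ∈ K ∧ R.φ u = QuotientGroup.mk a) →
      ∀ i, ∃ a : E, (a : G) ∈ K ∧ R.φ (ap l i) = QuotientGroup.mk a
  | [], _, _ => ⟨1, one_mem K, by simp [ap, R.φ_zero]⟩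
  | u :: us, h, i => by
    obtain ⟨b, hb, hb'⟩ := exists_combination us (fun v hv => h v (List.mem_cons_of_mem _ hv)) (i / 2)
    obtain ⟨a, ha, ha'⟩ := h u (List.mem_cons_self ..)
    rw [ap, R.φ_xor, hb']
    cases Nat.beq (i % 2) 1
    · exact ⟨b, hb, by simp [R.φ_zero]⟩
    · exact ⟨a * b, mul_mem ha hb, by simp [ha', QuotientGroup.mk_mul]⟩

theorem exists_V0_lift {t₀ : centralizer ({z} : Set G)} (ht₀ : d.ρ t₀ ∈ R.A0) :
    ∃ t ∈ R.V0, ∃ h : t ∈ centralizer ({z} : Set G), d.ρ ⟨t, h⟩ = d.ρ t₀ := by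
  classical
  have hl : ∀ u ∈ [13, 67, 145, 769, 1025, 2358], u ∈ sVec := by decide +kernel
  let l : Fin 6 → ℕ := fun j => [13, 67, 145, 769, 1025, 2358].getD j 0
  have hlm : ∀ j : Fin 6, l j ∈ [13, 67, 145, 769, 1025, 2358] := by decide
  let g : Fin 6 → E := fun j => (R.φ (l j)).out
  have hgS : ∀ j, (g j : G) ∈ R.sHat := fun j =>
    ⟨(g j).2, by rw [QuotientGroup.out_eq']; exact (R.fixed_A0 _).2 ⟨_, hl _ (hlm j), rfl⟩⟩
  let f : ↥E →* Multiplicative (Fin 6 → ZMod 2) := MonoidHom.mk'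
    (fun a => Multiplicative.ofAdd fun j => Data.bil (g j : G) (a : G))
    (fun a b => by
      rw [← ofAdd_add]
      exact congrArg _ (funext fun j => d.bil_add (g j).2 a.2 b.2))
  -- whoever centralises the generators centralises the whole preimage
  have hgen : ∀ x : G, x * z = z * x → (∀ j, (g j : G) * x = x * g j) → ∀ s ∈ R.sHat, s * x = x * s := by
    intro x hxz hx s hs
    obtain ⟨hsE, hs'⟩ := hs
    obtain ⟨v, hv, hvs⟩ := (R.fixed_A0 _).1 hs'
    have h2 := sVec_span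
    simp only [Bool.and_eq_true, List.all_eq_true] at h2
    obtain ⟨i, -, hiv⟩ := List.any_eq_true.1 (h2.1.2 v hv)
    obtain ⟨a, ha, ha'⟩ := R.exists_combination (K := centralizer ({x} : Set G))
      [13, 67, 145, 769, 1025, 2358] (fun u hu => by
        obtain ⟨j, hj, rfl⟩ := List.getElem_of_mem hu
        refine ⟨g ⟨j, hj⟩, mem_centralizer_singleton_iff.2 (hx _), ?_⟩
        show _ = QuotientGroup.mk (R.φ (l ⟨j, hj⟩)).out
        rw [QuotientGroup.out_eq']
        simp only [l, List.getD_eq_getElem (hn := hj)]) i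
    rw [Nat.eq_of_beq_eq_true hiv, hvs] at ha'
    have hax : (a : G) * x = x * a := mem_centralizer_singleton_iff.1 ha
    rcases d.mk_eq_iff.1 ha' with e | e
    · change (a : G) = s at e
      rw [← e]; exact hax
    · change (a : G) = s * z at e
      have hs2 : s = (a : G) * z := by rw [e, mul_assoc, d.L.zz, mul_one]
      rw [hs2, mul_assoc, ← hxz, ← mul_assoc, hax, mul_assoc]
  have hker : Nat.card f.ker ≤ 128 := by
    rw [← R.card_sHat]
    refine Nat.card_le_card_of_injective (fun a => (⟨((a : E) : G), ?_⟩ : R.sHat))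
      fun a b e => Subtype.ext (Subtype.ext (congrArg (fun x : R.sHat => (x : G)) e))
    refine R.sHat_centralizer a.1.2 fun s hs => hgen _ (d.L.commute_z a.1.2) (fun j => ?_) s hs
    have h0 : Data.bil (g j : G) ((a : E) : G) = 0 :=
      congrFun (congrArg Multiplicative.toAdd (MonoidHom.mem_ker.1 a.2)) j
    rcases d.mul_comm_cases (g j).2 a.1.2 with ⟨-, e⟩ | ⟨h1, -⟩
    · exact e
    · rw [h0] at h1; exact absurd h1 (by decide)
  have hsurj : Function.Surjective f := by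
    rw [← MonoidHom.range_eq_top]
    refine Subgroup.eq_top_of_le_card _ ?_
    have h := Subgroup.card_mul_index f.ker
    rw [Subgroup.index_ker, d.cardE] at h
    rw [Nat.card_congr Multiplicative.toAdd, Nat.card_fun, Nat.card_zmod, Nat.card_eq_fintype_card,
      Fintype.card_fin]
    nlinarith
  obtain ⟨a, ha⟩ := hsurj (Multiplicative.ofAdd fun j =>
    if (t₀ : G) * g j = g j * t₀ then 0 else 1)
  have hzT : (t₀ : G) * z = z * t₀ := mem_centralizer_singleton_iff.1 t₀.2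
  have hjcase : ∀ j, (g j : G) * ((a : G)⁻¹ * t₀) = ((a : G)⁻¹ * t₀) * g j := by
    intro j
    have hbj : Data.bil (g j : G) (a : G) = if (t₀ : G) * g j = g j * t₀ then 0 else 1 :=
      congrFun (congrArg Multiplicative.toAdd ha) j
    have hfix : (t₀ : G) * g j = g j * t₀ ∨ (t₀ : G) * g j = g j * z * t₀ := by
      obtain ⟨hE', hm⟩ := hgS j
      have h := hm _ ht₀
      rw [d.ρ_mk, d.mk_eq_iff] at h
      rcases h with h | h <;> change (g j : G) = _ at h
      · left; exact mul_inv_eq_iff_eq_mul.1 h.symm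
      · right
        have : (t₀ : G) * g j * (t₀ : G)⁻¹ = g j * z := by
          conv_rhs => rw [h, mul_assoc ((t₀ : G) * g j * (t₀ : G)⁻¹), d.L.zz, mul_one]
        exact mul_inv_eq_iff_eq_mul.1 this
    rcases d.mul_comm_cases (g j).2 a.2 with ⟨h1, e⟩ | ⟨h1, e⟩
    · rw [h1] at hbj
      have hc : (t₀ : G) * g j = g j * t₀ := by
        by_contra hne; rw [if_neg hne] at hbj; exact absurd hbj (by decide)
      exact ((Commute.inv_right (show Commute (g j : G) a from e)).mul_right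
        (show Commute (g j : G) t₀ from hc.symm)).eq
    · rw [h1] at hbj
      have hc : ¬ (t₀ : G) * g j = g j * t₀ := fun h => by
        rw [if_pos h] at hbj; exact absurd hbj (by decide)
      have h2 := hfix.resolve_left hc
      have hzg : (g j : G) * z = z * g j := d.L.commute_z (g j).2
      have e' : (a : G)⁻¹ * (g j : G) = (g j : G) * (a : G)⁻¹ * z := by
        have hza : (a : G) * z = z * a := d.L.commute_z a.2
        have hag : (a : G) * g j = z * ((g j : G) * a) := by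
          rw [e, ← mul_assoc z z, d.L.zz, one_mul]
        symm
        calc (g j : G) * (a : G)⁻¹ * z = (a : G)⁻¹ * ((a : G) * g j) * (a : G)⁻¹ * z := by group
          _ = (a : G)⁻¹ * z * g j * z := by rw [hag]; group
          _ = (a : G)⁻¹ * z * (z * g j) := by rw [mul_assoc _ (g j : G) z, hzg]
          _ = (a : G)⁻¹ * (z * z) * g j := by group
          _ = (a : G)⁻¹ * g j := by rw [d.L.zz, mul_one]
      calc (g j : G) * ((a : G)⁻¹ * t₀) = (g j : G) * (a : G)⁻¹ * (z * z) * t₀ := by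
            rw [d.L.zz]; group
        _ = ((g j : G) * (a : G)⁻¹ * z) * (z * t₀) := by group
        _ = ((a : G)⁻¹ * g j) * (z * t₀) := by rw [← e']
        _ = (a : G)⁻¹ * (g j * z * t₀) := by group
        _ = (a : G)⁻¹ * t₀ * g j := by rw [← h2]; group
  have hH : (a : G)⁻¹ * t₀ ∈ centralizer ({z} : Set G) := mul_mem (inv_mem (d.L.le_H a.2)) t₀.2
  have hρ : d.ρ ⟨(a : G)⁻¹ * t₀, hH⟩ = d.ρ t₀ := by
    rw [show (⟨(a : G)⁻¹ * t₀, hH⟩ : centralizer ({z} : Set G)) =
      ⟨(a : G), d.L.le_H a.2⟩⁻¹ * t₀ from rfl, map_mul, map_inv,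
      (d.mem_ker_iff).2 (show ((⟨(a : G), d.L.le_H a.2⟩ : centralizer ({z} : Set G)) : G) ∈ E from a.2),
      inv_one, one_mul]
  exact ⟨_, ⟨hH, by rw [hρ]; exact ht₀, hgen _ (mem_centralizer_singleton_iff.1 hH) hjcase⟩, hH, hρ⟩

theorem card_V0 : Nat.card R.V0 = 2 ^ 11 := by
  let i : ↥R.V0 →* ↥(centralizer ({z} : Set G)) := Subgroup.inclusion fun _ ht => ht.1
  let f : ↥R.V0 →* ↥R.A0 := (d.ρ.comp i).codRestrict R.A0 fun t => t.2.2.1
  have hsurj : Function.Surjective f := by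
    rintro ⟨x, hx⟩
    obtain ⟨c, hc, rfl⟩ := R.Q_le_Y (R.A0_le_Q hx)
    obtain ⟨t, ht, h, he⟩ := R.exists_V0_lift (t₀ := c) hx
    exact ⟨⟨t, ht⟩, Subtype.ext he⟩
  have hk : Nat.card f.ker = 128 := by
    rw [← R.card_sHat]
    refine Nat.card_congr
      { toFun := fun t => ⟨t.1.1, R.V0_E t.1.2 ((d.mem_ker_iff).1 (congrArg Subtype.val (MonoidHom.mem_ker.1 t.2)))⟩
        invFun := fun s => ⟨⟨s, R.sHat_le_V0 s.2⟩, MonoidHom.mem_ker.2 (Subtype.ext ((d.mem_ker_iff).2 (R.sHat_le s.2)))⟩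
        left_inv := fun _ => rfl
        right_inv := fun _ => rfl }
  rw [← Subgroup.card_mul_index f.ker, hk, Subgroup.index_ker, MonoidHom.range_eq_top.2 hsurj,
    Subgroup.card_top, R.card_A0]
  norm_num

theorem rho_g3_comm {c : centralizer ({z} : Set G)} (hc : c ∈ Outer.cP z P) :
    (c : G) * R.g 3 = R.g 3 * c :=
  (mem_centralizer_iff.1 (mem_subgroupOf.1 hc) _ R.memP).symm

theorem normA0_of_maps {h : centralizer ({z} : Set G)}
    (hm : ∀ x ∈ R.A0, d.ρ h * x * (d.ρ h)⁻¹ ∈ R.A0) : R.normA0 h := by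
  haveI := R.finite_aut
  intro x hx
  let f : R.A0 → R.A0 := fun y => ⟨d.ρ h * y * (d.ρ h)⁻¹, hm y y.2⟩
  have hf : Function.Injective f := fun a b e => Subtype.ext (by
    have := congrArg (fun y : R.A0 => (y : MulAut (Bar E))) e
    simpa [f] using this)
  obtain ⟨y, hy⟩ := (Finite.injective_iff_surjective.1 hf) ⟨x, hx⟩
  have e : d.ρ h * y * (d.ρ h)⁻¹ = x := congrArg Subtype.val hy
  rw [← e]
  simpa [mul_assoc] using y.2

theorem normA0_g3 : R.normA0 (R.g 3) := by
  refine R.normA0_of_maps fun x hx => ?_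
  obtain ⟨c, hc, rfl⟩ := R.Q_le_Y (R.A0_le_Q hx)
  rw [← map_mul, ← map_inv, ← map_mul,
    show R.g 3 * c * (R.g 3)⁻¹ = c from Subtype.ext (by
      show (R.g 3 : G) * c * (R.g 3 : G)⁻¹ = c
      rw [← R.rho_g3_comm hc, mul_inv_cancel_right])]
  exact hx

theorem normA0_word {w : List ℕ} (hw : w ∈ nWords) : R.normA0 (R.word w) := by
  refine R.normA0_of_maps fun x hx => ?_
  rcases List.mem_cons.1 (show R.code x ∈ mI :: mK2 from hx) with h | h
  · rw [R.mat_inj (h.trans R.mat_one.symm)]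
    simp [one_mem]
  · obtain ⟨m', hm', e⟩ := List.any_eq_true.1
      ((List.all_eq_true.1 ((List.all_eq_true.1 norm_K2) w hw)) _ h)
    rw [beq_iff_eq] at e
    have hm'Q : m' ∈ mQ := by simpa using (List.all_eq_true.1 k2_sub) _ hm'
    obtain ⟨j, hj, hjA⟩ := List.getElem_of_mem hm'Q
    obtain ⟨v, hv⟩ := R.exists_of_mem_mQ j (q_len ▸ hj)
    rw [List.getD_eq_getElem (hn := hj), hjA] at hv
    have : d.ρ (R.word w) * x = d.ρ (R.word v) * d.ρ (R.word w) := by
      refine R.mat_inj ?_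
      rw [R.mat_mul, R.mat_mul, R.mat_word w, hv, e]
    rw [this, mul_inv_cancel_right]
    show R.code _ ∈ mI :: mK2
    rw [hv]; exact List.mem_cons_of_mem _ hm'

theorem conj_mem_V0 {h : centralizer ({z} : Set G)} (hn : R.normA0 h)
    (hm : ∀ x ∈ R.A0, d.ρ h * x * (d.ρ h)⁻¹ ∈ R.A0) {t : G} (ht : t ∈ R.V0) :
    (h : G) * t * (h : G)⁻¹ ∈ R.V0 := by
  obtain ⟨htH, ht1, ht2⟩ := ht
  refine ⟨mul_mem (mul_mem h.2 htH) (inv_mem h.2), ?_, fun s hs => ?_⟩
  · rw [show (⟨(h : G) * t * (h : G)⁻¹, _⟩ : centralizer ({z} : Set G)) = h * ⟨t, htH⟩ * h⁻¹ from rfl,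
      map_mul, map_mul, map_inv]
    exact hm _ ht1
  · have hs' : (h : G)⁻¹ * s * h ∈ R.sHat := by
      haveI : Finite R.sHat := inferInstance
      let f : R.sHat → R.sHat := fun y => ⟨(h : G) * y * (h : G)⁻¹, R.conj_mem_sHat hn y.2⟩
      have hf : Function.Injective f := fun a b e => Subtype.ext (by
        have := congrArg (fun y : R.sHat => (y : G)) e
        simpa [f] using this)
      obtain ⟨y, hy⟩ := (Finite.injective_iff_surjective.1 hf) ⟨s, hs⟩
      have e : (h : G) * y * (h : G)⁻¹ = s := congrArg Subtype.val hy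
      rw [← e]
      simpa [mul_assoc] using y.2
    have e := ht2 _ hs'
    calc s * ((h : G) * t * (h : G)⁻¹) = h * (((h : G)⁻¹ * s * h) * t) * (h : G)⁻¹ := by group
      _ = h * (t * ((h : G)⁻¹ * s * h)) * (h : G)⁻¹ := by rw [e]
      _ = (h : G) * t * (h : G)⁻¹ * s := by group

theorem g3_maps : ∀ x ∈ R.A0, d.ρ (R.g 3) * x * (d.ρ (R.g 3))⁻¹ ∈ R.A0 := by
  intro x hx
  obtain ⟨c, hc, rfl⟩ := R.Q_le_Y (R.A0_le_Q hx)
  rw [← map_mul, ← map_inv, ← map_mul,
    show R.g 3 * c * (R.g 3)⁻¹ = c from Subtype.ext (by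
      show (R.g 3 : G) * c * (R.g 3 : G)⁻¹ = c
      rw [← R.rho_g3_comm hc, mul_inv_cancel_right])]
  exact hx

theorem g3_pow : (R.g 3 : G) * R.g 3 * R.g 3 = 1 := by
  haveI : Finite P := inferInstance
  have := congrArg Subtype.val (pow_card_eq_one' (x := (⟨_, R.memP⟩ : P)))
  rw [d.cardP] at this
  simpa [pow_succ] using this

theorem g3_gen {u : G} (hu : u ∈ P) : u = 1 ∨ u = R.g 3 ∨ u = R.g 3 * R.g 3 := by
  obtain ⟨p, hp, hp1, hp3, hall⟩ := Outer.exists_gen d
  have hne : (R.g 3 : G) ≠ 1 := by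
    intro h
    have h1 : R.g 3 = 1 := Subtype.ext h
    have hall1 : ∀ m : Bar E, m = 1 := fun m => R.fpf m (by rw [h1, map_one]; rfl)
    haveI : Subsingleton (Bar E) := ⟨fun a b => (hall1 a).trans (hall1 b).symm⟩
    have := d.card_bar
    rw [Nat.card_of_subsingleton (1 : Bar E)] at this
    omega
  rcases hall _ R.memP with h | h | h
  · exact absurd h hne
  · rw [h]; exact hall u hu
  · rw [h]
    rcases hall u hu with e | e | e
    · exact Or.inl e
    · right; right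
      rw [e]
      calc p = (p * p * p) * p := by rw [hp3, one_mul]
        _ = p * p * (p * p) := by group
    · exact Or.inr (Or.inl e)

/-- Every coset of the preimage in the candidate has an element commuting with `P`. -/
theorem exists_K_lift {t : G} (ht : t ∈ R.V0) :
    ∃ s ∈ R.sHat, (R.g 3 : G) * (t * s) = t * s * R.g 3 := by
  set p : G := (R.g 3 : G) with hp
  obtain ⟨htH, ht1, ht2⟩ := ht
  have hρ : d.ρ (R.g 3) * d.ρ ⟨t, htH⟩ * (d.ρ (R.g 3))⁻¹ = d.ρ ⟨t, htH⟩ := by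
    obtain ⟨c, hc, hce⟩ := R.Q_le_Y (R.A0_le_Q ht1)
    rw [← hce, ← map_mul, ← map_inv, ← map_mul,
      show R.g 3 * c * (R.g 3)⁻¹ = c from Subtype.ext (by
        show (R.g 3 : G) * c * (R.g 3 : G)⁻¹ = c
        rw [← R.rho_g3_comm hc, mul_inv_cancel_right])]
  set e : G := t⁻¹ * (p * t * p⁻¹) with he
  have heV : e ∈ R.V0 :=
    mul_mem (inv_mem ⟨htH, ht1, ht2⟩) (R.conj_mem_V0 R.normA0_g3 R.g3_maps ⟨htH, ht1, ht2⟩)
  have heH : e ∈ centralizer ({z} : Set G) := heV.1
  have heE : e ∈ E := by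
    refine (d.mem_ker_iff (h := ⟨e, heH⟩)).1 ?_
    rw [show (⟨e, heH⟩ : centralizer ({z} : Set G)) = ⟨t, htH⟩⁻¹ * (R.g 3 * ⟨t, htH⟩ * (R.g 3)⁻¹) from
      rfl, map_mul, map_mul, map_mul, map_inv, map_inv, hρ, inv_mul_cancel]
  have heS := R.V0_E heV heE
  refine ⟨p * e * p⁻¹, R.conj_mem_sHat R.normA0_g3 heS, ?_⟩
  set s := p * e * p⁻¹ with hs
  have hsE : s ∈ E := d.L.conj_mem (R.g 3).2 heE
  have hs2E : p * s * p⁻¹ ∈ E := d.L.conj_mem (R.g 3).2 hsE
  -- modulo the centre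
  have hmk : (QuotientGroup.mk (⟨e * (p * s * p⁻¹), mul_mem heE hs2E⟩ : E) : Bar E) =
      QuotientGroup.mk (⟨s, hsE⟩ : E) := by
    set w := d.ρ (R.g 3)
    set μ : Bar E := QuotientGroup.mk (⟨e, heE⟩ : E)
    have h1 : (QuotientGroup.mk (⟨s, hsE⟩ : E) : Bar E) = w μ := (d.ρ_mk (R.g 3) (⟨e, heE⟩ : E)).symm
    have h2 : (QuotientGroup.mk (⟨p * s * p⁻¹, hs2E⟩ : E) : Bar E) = w (w μ) := by
      rw [← h1]; exact (d.ρ_mk (R.g 3) (⟨s, hsE⟩ : E)).symm
    rw [show (⟨e * (p * s * p⁻¹), mul_mem heE hs2E⟩ : E) = ⟨e, heE⟩ * ⟨p * s * p⁻¹, hs2E⟩ from rfl,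
      QuotientGroup.mk_mul, h1, h2]
    have hw3 : ∀ m, w (w (w m)) = m := fun m => by
      rw [← MulAut.mul_apply, ← MulAut.mul_apply, ← map_mul, ← map_mul,
        show R.g 3 * R.g 3 * R.g 3 = 1 from Subtype.ext R.g3_pow, map_one]
      rfl
    have h3 : μ * w μ * w (w μ) = 1 := by
      refine R.fpf _ ?_
      show w (μ * w μ * w (w μ)) = _
      rw [map_mul, map_mul, hw3, d.comm_bar _ μ, ← mul_assoc]
    calc μ * w (w μ) = μ * w (w μ) * (w μ * w μ) := by rw [d.sq_bar, mul_one]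
      _ = (μ * w μ * w (w μ)) * w μ := by
        rw [← mul_assoc, mul_assoc μ (w (w μ)), d.comm_bar (w (w μ)) (w μ), ← mul_assoc]
      _ = w μ := by rw [h3, one_mul]
  have key : p * (t * s) * p⁻¹ = t * (e * (p * s * p⁻¹)) := by
    rw [he]; group
  rcases d.mk_eq_iff.1 hmk with h | h
  · change s = e * (p * s * p⁻¹) at h
    rw [← mul_inv_eq_iff_eq_mul, key, ← h]
  · change s = e * (p * s * p⁻¹) * z at h
    exfalso
    have hc : e * (p * s * p⁻¹) = s * z := by
      conv_rhs => rw [h, mul_assoc (e * (p * s * p⁻¹)), d.L.zz, mul_one]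
    have hcz : p * z = z * p := mem_centralizer_singleton_iff.1 (R.g 3).2
    have hconj : ∀ x, p * (x * z) * p⁻¹ = p * x * p⁻¹ * z := fun x => by
      calc p * (x * z) * p⁻¹ = p * x * (z * p⁻¹) := by group
        _ = p * x * (p⁻¹ * z) := by rw [(Commute.inv_left (show Commute p z from hcz)).eq]
        _ = _ := by group
    have h1 : p * (t * s) * p⁻¹ = t * s * z := by rw [key, hc, ← mul_assoc]
    have h3 : p * (p * (p * (t * s) * p⁻¹) * p⁻¹) * p⁻¹ = t * s * z * z * z := by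
      rw [h1, hconj, h1, hconj, hconj, h1]
    rw [show p * (p * (p * (t * s) * p⁻¹) * p⁻¹) * p⁻¹ = (p * p * p) * (t * s) * (p * p * p)⁻¹ by group,
      R.g3_pow, mul_assoc (t * s), mul_assoc (t * s), mul_assoc z, d.L.zz] at h3
    simp at h3
    exact d.L.z_ne_one h3

theorem K_inter_E {t : G} (hc : (R.g 3 : G) * t = t * R.g 3) (hE : t ∈ E) : t = 1 ∨ t = z := by
  refine d.fixP t hE fun u hu => ?_
  rcases R.g3_gen hu with rfl | rfl | rfl
  · simp
  · exact hc
  · exact (Commute.mul_left (show Commute (R.g 3 : G) t from hc) hc).eq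

theorem V0_sq {t : G} (ht : t ∈ R.V0) : t * t = 1 := by
  classical
  -- elements of the candidate commuting with `P`
  let K : Subgroup G := R.V0 ⊓ centralizer ({(R.g 3 : G)} : Set G)
  have hK : ∀ {x}, x ∈ K → x ∈ R.V0 ∧ (R.g 3 : G) * x = x * R.g 3 := fun hx =>
    ⟨hx.1, (mem_centralizer_singleton_iff.1 hx.2).symm⟩
  have hA : ∀ x ∈ R.A0, ∃ u, ∃ hu : u ∈ K, d.ρ ⟨u, (hK hu).1.1⟩ = x := by
    intro x hx
    obtain ⟨c, hc, rfl⟩ := R.Q_le_Y (R.A0_le_Q hx)
    obtain ⟨t, ht, h, he⟩ := R.exists_V0_lift (t₀ := c) hx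
    obtain ⟨s, hs, hcomm⟩ := R.exists_K_lift ht
    refine ⟨t * s, ⟨mul_mem ht (R.sHat_le_V0 hs), mem_centralizer_singleton_iff.2 hcomm.symm⟩, ?_⟩
    rw [← he, show (⟨t * s, _⟩ : centralizer ({z} : Set G)) = ⟨t, h⟩ * ⟨s, d.L.le_H (R.sHat_le hs)⟩
      from rfl, map_mul, (d.mem_ker_iff).2 (show ((⟨s, d.L.le_H (R.sHat_le hs)⟩ :
        centralizer ({z} : Set G)) : G) ∈ E from R.sHat_le hs), mul_one]
  -- same image means same up to `z`
  have huniq : ∀ {u v : G} (hu : u ∈ K) (hv : v ∈ K),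
      d.ρ ⟨u, (hK hu).1.1⟩ = d.ρ ⟨v, (hK hv).1.1⟩ → v = u ∨ v = u * z := by
    intro u v hu hv e
    have hm : u⁻¹ * v ∈ K := mul_mem (inv_mem hu) hv
    have hE : u⁻¹ * v ∈ E := (d.mem_ker_iff (h := (⟨u, (hK hu).1.1⟩)⁻¹ * ⟨v, (hK hv).1.1⟩)).1 (by
      rw [map_mul, map_inv, e, inv_mul_cancel])
    rcases R.K_inter_E (hK hm).2 hE with h | h
    · left; exact (inv_mul_eq_one.1 h).symm
    · right; rw [← h, mul_inv_cancel_left]
  have hsq : ∀ {u : G} (_ : u ∈ K), u * u = 1 ∨ u * u = z := by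
    intro u hu
    refine R.K_inter_E (hK (mul_mem hu hu)).2 ((d.mem_ker_iff
      (h := ⟨u, (hK hu).1.1⟩ * ⟨u, (hK hu).1.1⟩)).1 ?_)
    rw [map_mul]
    refine R.mat_inj ?_
    have h2 : (mI :: mK2).all (fun m => mm m m == mI) = true := by decide +kernel
    rw [R.mat_mul, R.mat_one]
    exact beq_iff_eq.1 ((List.all_eq_true.1 h2) _ (hK hu).1.2.1)
  have hzu : ∀ {u : G}, u ∈ K → u * z = z * u := fun hu =>
    mem_centralizer_singleton_iff.1 (hK hu).1.1
  have hsame : ∀ {u v : G} (hu : u ∈ K) (hv : v ∈ K),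
      d.ρ ⟨u, (hK hu).1.1⟩ = d.ρ ⟨v, (hK hv).1.1⟩ → v * v = u * u := by
    intro u v hu hv e
    rcases huniq hu hv e with rfl | rfl
    · rfl
    · calc u * z * (u * z) = u * (z * u) * z := by group
        _ = u * (u * z) * z := by rw [hzu hu]
        _ = u * u * (z * z) := by group
        _ = u * u := by rw [d.L.zz, mul_one]
  choose lift hliftK hliftρ using hA
  -- transitivity of the normaliser
  have hmemA : ∀ i : Fin 15, ∃ x ∈ R.A0, R.code x = mK2.getD i [] := by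
    intro i
    have hlt : i.1 < mK2.length := lt_of_lt_of_eq i.2 k_len.2.symm
    rw [List.getD_eq_getElem (hn := hlt)]
    have hm : mK2[i.1] ∈ mQ := by simpa using (List.all_eq_true.1 k2_sub) _ (List.getElem_mem hlt)
    obtain ⟨j, hj, hjA⟩ := List.getElem_of_mem hm
    obtain ⟨w, hw⟩ := R.exists_of_mem_mQ j (q_len ▸ hj)
    rw [List.getD_eq_getElem (hn := hj), hjA] at hw
    exact ⟨d.ρ (R.word w),
      by show R.code _ ∈ mI :: mK2; rw [hw]; exact List.mem_cons_of_mem _ (List.getElem_mem hlt), hw⟩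
  choose pt hptA hptc using hmemA
  have hconst : ∀ i : Fin 15, lift (pt i) (hptA i) * lift (pt i) (hptA i) =
      lift (pt 0) (hptA 0) * lift (pt 0) (hptA 0) := by
    rintro ⟨j, hj⟩
    induction j using Nat.strong_induction_on with
    | _ j ih =>
      rcases Nat.eq_zero_or_pos j with rfl | hpos
      · rfl
      · have h := (List.all_eq_true.1 trans_K2) (j - 1) (List.mem_range.2 (by omega))
        rw [show j - 1 + 1 = j by omega] at h
        obtain ⟨i, hi, h⟩ := List.any_eq_true.1 h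
        obtain ⟨w, hw, h⟩ := List.any_eq_true.1 h
        rw [beq_iff_eq] at h
        have hij : i < j := List.mem_range.1 hi
        rw [← ih i hij (hij.trans hj)]
        set u := lift (pt ⟨i, hij.trans hj⟩) (hptA _) with hu
        have huK := hliftK (pt ⟨i, hij.trans hj⟩) (hptA _)
        have hn := R.normA0_word hw
        have hmaps : ∀ x ∈ R.A0, d.ρ (R.word w) * x * (d.ρ (R.word w))⁻¹ ∈ R.A0 := by
          haveI := R.finite_aut
          intro x hx
          let f : R.A0 → R.A0 := fun y => ⟨(d.ρ (R.word w))⁻¹ * y * d.ρ (R.word w), hn y y.2⟩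
          have hf : Function.Injective f := fun a b e => Subtype.ext (by
            have := congrArg (fun y : R.A0 => (y : MulAut (Bar E))) e
            simpa [f] using this)
          obtain ⟨y, hy⟩ := (Finite.injective_iff_surjective.1 hf) ⟨x, hx⟩
          have e : (d.ρ (R.word w))⁻¹ * y * d.ρ (R.word w) = x := congrArg Subtype.val hy
          rw [← e]
          simpa [mul_assoc] using y.2
        have hcP := R.rho_g3_comm (R.word_mem w)
        have hvK : (R.word w : G) * u * (R.word w : G)⁻¹ ∈ K := by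
          refine ⟨R.conj_mem_V0 hn hmaps (hK huK).1, mem_centralizer_singleton_iff.2 ?_⟩
          have hcu : u * R.g 3 = R.g 3 * u := (hK huK).2.symm
          exact ((Commute.mul_left (Commute.mul_left (show Commute (R.word w : G) (R.g 3 : G) from hcP)
            hcu) (Commute.inv_left hcP))).eq
        have hρv : d.ρ ⟨(R.word w : G) * u * (R.word w : G)⁻¹, (hK hvK).1.1⟩ =
            d.ρ ⟨lift (pt ⟨j, hj⟩) (hptA _), (hK (hliftK _ _)).1.1⟩ := by
          rw [show (⟨(R.word w : G) * u * (R.word w : G)⁻¹, (hK hvK).1.1⟩ : centralizer ({z} : Set G)) =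
            R.word w * ⟨u, (hK huK).1.1⟩ * (R.word w)⁻¹ from rfl, map_mul, map_mul, map_inv,
            hliftρ, hliftρ, mul_inv_eq_iff_eq_mul]
          refine R.mat_inj ?_
          rw [R.mat_mul, R.mat_mul, R.mat_word, hptc, hptc, h]
        rw [hsame hvK (hliftK _ _) hρv]
        rcases hsq huK with e | e
        · rw [e, ← MulAut.conj_apply, ← map_mul, e, map_one]
        · rw [e, ← MulAut.conj_apply, ← map_mul, e, MulAut.conj_apply,
            show (R.word w : G) * z = z * R.word w from mem_centralizer_singleton_iff.1 (R.word w).2,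
            mul_inv_cancel_right]
  have hne1 : ∀ i : Fin 15, pt i ≠ 1 := by
    intro i h
    have h2 := hptc i
    rw [h, R.mat_one] at h2
    have h3 : ∀ i : Fin 15, ¬ mI = mK2.getD i [] := by decide +kernel
    exact h3 i h2
  have hcover : ∀ x ∈ R.A0, x = 1 ∨ ∃ i : Fin 15, pt i = x := by
    intro x hx
    rcases List.mem_cons.1 (show R.code x ∈ mI :: mK2 from hx) with h | h
    · exact Or.inl (R.mat_inj (h.trans R.mat_one.symm))
    · obtain ⟨i, hi, hix⟩ := List.getElem_of_mem h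
      refine Or.inr ⟨⟨i, k_len.2 ▸ hi⟩, R.mat_inj ?_⟩
      rw [hptc, List.getD_eq_getElem (hn := hi), hix]
  -- the common square is trivial
  have hone : lift (pt 0) (hptA 0) * lift (pt 0) (hptA 0) = 1 := by
    rcases hsq (hliftK _ (hptA 0)) with h | h
    · exact h
    · exfalso
      have hz : ∀ {u : G} (hu : u ∈ K), d.ρ ⟨u, (hK hu).1.1⟩ ≠ 1 → u * u = z := by
        intro u hu hne
        obtain ⟨i, hi⟩ := (hcover _ (hK hu).1.2.1).resolve_left hne
        rw [hsame (hliftK _ (hptA i)) hu (by rw [hliftρ, hi]), hconst i, h]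
      have anti : ∀ {u v : G} (hu : u ∈ K) (hv : v ∈ K), d.ρ ⟨u, (hK hu).1.1⟩ ≠ 1 →
          d.ρ ⟨v, (hK hv).1.1⟩ ≠ 1 → d.ρ ⟨u * v, (hK (mul_mem hu hv)).1.1⟩ ≠ 1 →
          v * u = z * (u * v) := by
        intro u v hu hv n1 n2 n3
        have h1 := hz hu n1
        have h2 := hz hv n2
        have h3 := hz (mul_mem hu hv) n3
        calc v * u = u⁻¹ * (u * v * (u * v)) * v⁻¹ := by group
          _ = u⁻¹ * z * v⁻¹ := by rw [h3]
          _ = (u⁻¹ * (u * u)) * v⁻¹ := by rw [h1]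
          _ = u * v⁻¹ * 1 := by group
          _ = u * v⁻¹ * (z * z) := by rw [d.L.zz]
          _ = u * v⁻¹ * (v * v) * z := by rw [h2]; group
          _ = u * v * z := by group
          _ = z * (u * v) := hzu (mul_mem hu hv)
      set x := pt 0
      set y := pt 1
      have hxy : ∃ k : Fin 15, pt k ≠ 1 ∧ pt k ≠ x ∧ pt k ≠ y ∧ pt k ≠ x * y ∧ x * y ≠ 1 ∧
          x * pt k ≠ 1 ∧ y * pt k ≠ 1 ∧ x * y * pt k ≠ 1 := by
        have hd : ∃ k : Fin 15, ∀ (a b c : List ℕ), a = mK2.getD 0 [] → b = mK2.getD 1 [] →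
            c = mK2.getD k [] → c ≠ a ∧ c ≠ b ∧ c ≠ mm a b ∧ mm a b ≠ mI ∧ mm a c ≠ mI ∧ mm b c ≠ mI ∧
              mm (mm a b) c ≠ mI := by
          have hd' : ∃ k : Fin 15, mK2.getD k [] ≠ mK2.getD 0 [] ∧ mK2.getD k [] ≠ mK2.getD 1 [] ∧
              mK2.getD k [] ≠ mm (mK2.getD 0 []) (mK2.getD 1 []) ∧
              mm (mK2.getD 0 []) (mK2.getD 1 []) ≠ mI ∧ mm (mK2.getD 0 []) (mK2.getD k []) ≠ mI ∧
              mm (mK2.getD 1 []) (mK2.getD k []) ≠ mI ∧
              mm (mm (mK2.getD 0 []) (mK2.getD 1 [])) (mK2.getD k []) ≠ mI := by decide +kernel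
          obtain ⟨k, hk⟩ := hd'
          exact ⟨k, fun a b c ha hb hc => by subst ha hb hc; exact hk⟩
        obtain ⟨k, hk⟩ := hd
        obtain ⟨k1, k2, k3, k4, k5, k6, k7⟩ := hk _ _ _ (hptc 0) (hptc 1) (hptc k)
        refine ⟨k, hne1 k, ?_, ?_, ?_, ?_, ?_, ?_, ?_⟩ <;> intro e
        · exact k1 (by rw [e])
        · exact k2 (by rw [e])
        · exact k3 (by rw [e, R.mat_mul])
        · exact k4 (by rw [← R.mat_mul, e, R.mat_one])
        · exact k5 (by rw [← R.mat_mul, e, R.mat_one])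
        · exact k6 (by rw [← R.mat_mul, e, R.mat_one])
        · exact k7 (by rw [← R.mat_mul, ← R.mat_mul, e, R.mat_one])
      obtain ⟨k, -, -, -, -, hxy1, hxk, hyk, hxyk⟩ := hxy
      set a := lift x (hptA 0)
      set b := lift y (hptA 1)
      set c := lift (pt k) (hptA k)
      have ha := hliftK x (hptA 0)
      have hb := hliftK y (hptA 1)
      have hc := hliftK (pt k) (hptA k)
      have ea := hliftρ x (hptA 0)
      have eb := hliftρ y (hptA 1)
      have ec := hliftρ (pt k) (hptA k)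
      have hρm : ∀ {u v : G} (hu : u ∈ K) (hv : v ∈ K), d.ρ ⟨u * v, (hK (mul_mem hu hv)).1.1⟩ =
          d.ρ ⟨u, (hK hu).1.1⟩ * d.ρ ⟨v, (hK hv).1.1⟩ := fun hu hv => by rw [← map_mul]; rfl
      have e1 : c * a = z * (a * c) := anti ha hc (by rw [ea]; exact hne1 0) (by rw [ec]; exact hne1 k)
        (by rw [hρm ha hc, ea, ec]; exact hxk)
      have e2 : c * b = z * (b * c) := anti hb hc (by rw [eb]; exact hne1 1) (by rw [ec]; exact hne1 k)
        (by rw [hρm hb hc, eb, ec]; exact hyk)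
      have e3 : c * (a * b) = z * (a * b * c) := anti (mul_mem ha hb) hc (by rw [hρm ha hb, ea, eb]; exact hxy1)
        (by rw [ec]; exact hne1 k)
        (by rw [hρm (mul_mem ha hb) hc, hρm ha hb, ea, eb, ec]; exact hxyk)
      have e4 : c * (a * b) = a * b * c := by
        calc c * (a * b) = (c * a) * b := by group
          _ = z * a * (c * b) := by rw [e1]; group
          _ = z * (a * z) * (b * c) := by rw [e2]; group
          _ = (z * z) * (a * b * c) := by rw [show a * z = z * a from hzu ha]; group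
          _ = a * b * c := by rw [d.L.zz, one_mul]
      rw [e4] at e3
      exact d.L.z_mul_ne _ e3.symm
  -- conclusion
  obtain ⟨s, hs, hcomm⟩ := R.exists_K_lift ht
  have htsK : t * s ∈ K := ⟨mul_mem ht (R.sHat_le_V0 hs), mem_centralizer_singleton_iff.2 hcomm.symm⟩
  have hts : t * s * (t * s) = 1 := by
    rcases hcover _ (hK htsK).1.2.1 with h | ⟨i, hi⟩
    · exact R.sHat_sq (R.V0_E (hK htsK).1 ((d.mem_ker_iff).1 h))
    · rw [hsame (hliftK _ (hptA i)) htsK (by rw [hliftρ, hi]), hconst i, hone]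
  have hst : s * t = t * s := ht.2.2 s hs
  calc t * t = t * t * (s * s) := by rw [R.sHat_sq hs, mul_one]
    _ = t * (t * s) * s := by group
    _ = t * (s * t) * s := by rw [hst]
    _ = t * s * (t * s) := by group
    _ = 1 := hts

theorem V0_elementary : Cfsg.IsElementaryAbelian 2 R.V0 := by
  refine ⟨⟨⟨fun a b => Subtype.ext ?_⟩⟩, fun a ha => by rw [sq]; exact R.V0_sq ha⟩
  show (a : G) * b = b * a
  rw [← inv_eq_of_mul_eq_one_right (R.V0_sq (mul_mem a.2 b.2)), mul_inv_rev,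
    inv_eq_of_mul_eq_one_right (R.V0_sq b.2), inv_eq_of_mul_eq_one_right (R.V0_sq a.2)]

end Real

end Cfsg.Agent.H69.J4
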