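import Cfsg.Agent.H69.J4.CentModule
import Cfsg.Agent.H69.J4.CentForm
import Cfsg.Agent.H69.J4.ElevenInv
import Cfsg.Agent.H42.J4.M22Facts
import Cfsg.Agent.H29.M22Facts.Counts
import Cfsg.Agent.H1.Cores
import Cfsg.Agent.H68.ExtraComm
import Cfsg.Prelude.Def_JankoFourType

/-!
A centraliser of the shape `2^(1+12).(3.M22):2` makes the group one of Janko-four type.
-/

set_option autoImplicit false
set_option linter.unusedSectionVars false
set_option maxHeartbeats 1000000

namespace Cfsg.Agent.H69.J4.CentGlue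

open Subgroup CentForm
open scoped commutatorElement
open H25.M22 (G22)

variable {C : Type*} [Group C] [Finite C]

/-- The hypotheses on the centraliser, as an abstract group. -/
structure Hyp (Q N M : Subgroup C) : Prop where
  hQn : Q.Normal
  hNn : N.Normal
  hMn : M.Normal
  hQN : Q ≤ N
  hNM : N ≤ M
  hM : M.index = 2
  hQ : Cfsg.IsExtraspecial 2 Q
  hcard : Nat.card Q = 2 ^ 13
  hN : Nat.card N = 3 * Nat.card Q
  hcent : ⁅M, N⁆ ≤ Q
  hperf : M ≤ ⁅M, M⁆ ⊔ Q
  h2c : centralizer (Q : Set C) ≤ Q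
  hout : ∀ c : C, (∀ m ∈ M, c * m * c⁻¹ * m⁻¹ ∈ N) → c ∈ M

theorem center_g22 {x : G22} (h : ∀ y : G22, x * y = y * x) : x = 1 := by
  haveI := H42.J4.simple22
  rcases (inferInstance : (center G22).Normal).eq_bot_or_eq_top with e | e
  · exact (Subgroup.mem_bot).1 (e ▸ Subgroup.mem_center_iff.2 fun y => (h y).symm)
  · exfalso
    obtain ⟨f, hf, hc⟩ := H29.M22.exists_seven
    have htop : centralizer ({f} : Set G22) = ⊤ := eq_top_iff.2 fun y _ =>
      mem_centralizer_singleton_iff.2 (Subgroup.mem_center_iff.1 (e.symm ▸ mem_top f : f ∈ center G22) y)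
    rw [htop, Subgroup.card_top, H25.M22.card22] at hc
    omega

theorem two_group_bot {R : Subgroup G22} (hn : R.Normal) (hp : IsPGroup 2 R) : R = ⊥ := by
  haveI := H42.J4.simple22
  refine hn.eq_bot_or_eq_top.resolve_right ?_
  rintro rfl
  haveI : Fact (Nat.Prime 2) := ⟨Nat.prime_two⟩
  obtain ⟨k, hk⟩ := IsPGroup.iff_card.1 hp
  rw [Subgroup.card_top, H25.M22.card22] at hk
  have h7 : 7 ∣ 2 ^ k := ⟨63360, by rw [← hk]⟩
  exact absurd (Nat.prime_dvd_prime_iff_eq (by norm_num) Nat.prime_two |>.1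
    ((by norm_num : Nat.Prime 7).dvd_of_dvd_pow h7)) (by norm_num)

variable {Q N M : Subgroup C}

namespace Hyp

variable (h : Hyp Q N M)
include h

theorem exists_psi (e : (haveI := h.hNn; ↥M ⧸ N.subgroupOf M ≃* G22)) :
    ∃ ψ : C →* MulAut G22, ψ.ker = N ∧ Function.Surjective ψ ∧
      ∀ x : G22, ∃ m ∈ M, ψ m = MulAut.conj x := by
  haveI := h.hNn; haveI := h.hMn
  let π : ↥M →* G22 := e.toMonoidHom.comp (QuotientGroup.mk' _)
  have πs : Function.Surjective π := e.surjective.comp (QuotientGroup.mk'_surjective _)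
  have πk : ∀ m : M, π m = 1 ↔ (m : C) ∈ N := fun m => by
    show e (QuotientGroup.mk m) = 1 ↔ _
    rw [map_eq_one_iff e e.injective, QuotientGroup.eq_one_iff, mem_subgroupOf]
  have hmap : ∀ c : C, (N.subgroupOf M).map (MulAut.conjNormal c : MulAut M).toMonoidHom =
      N.subgroupOf M := fun c => by
    ext m
    rw [Subgroup.mem_map_equiv, mem_subgroupOf, mem_subgroupOf]
    have e1 : (((MulAut.conjNormal c : MulAut M).symm m : M) : C) = c⁻¹ * m * c :=
      MulAut.conjNormal_symm_apply c m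
    rw [e1]
    refine ⟨fun hm => ?_, fun hm => ?_⟩
    · simpa [mul_assoc] using h.hNn.conj_mem _ hm c
    · simpa [mul_assoc] using h.hNn.conj_mem _ hm c⁻¹
  let ψ0 : C →* MulAut (↥M ⧸ N.subgroupOf M) :=
    { toFun := fun c => QuotientGroup.congr _ _ (MulAut.conjNormal c : MulAut M) (hmap c)
      map_one' := by
        refine MulEquiv.ext fun x => ?_
        induction x using QuotientGroup.induction_on with
        | H m => exact congrArg QuotientGroup.mk (Subtype.ext (by simp))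
      map_mul' := fun a b => by
        refine MulEquiv.ext fun x => ?_
        induction x using QuotientGroup.induction_on with
        | H m => exact congrArg QuotientGroup.mk (Subtype.ext (by simp [mul_assoc])) }
  let ψ : C →* MulAut G22 := (MulAut.congr e).toMonoidHom.comp ψ0
  have hψ : ∀ (c : C) (m : M), ψ c (π m) = π (MulAut.conjNormal c m) := fun c m => by
    show e (ψ0 c (e.symm (e (QuotientGroup.mk m)))) = _
    rw [e.symm_apply_apply]; rfl
  have hinner : ∀ m : M, ψ m = MulAut.conj (π m) := fun m => by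
    refine MulEquiv.ext fun x => ?_
    obtain ⟨a, rfl⟩ := πs x
    rw [hψ, MulAut.conj_apply, ← map_inv, ← map_mul, ← map_mul]
    exact congrArg π (Subtype.ext (MulAut.conjNormal_apply _ _))
  have hker : ψ.ker = N := by
    ext c
    rw [MonoidHom.mem_ker]
    constructor
    · intro hc
      have hcM : c ∈ M := h.hout c fun m hm => by
        have e1 := hψ c ⟨m, hm⟩
        rw [hc, MulAut.one_apply] at e1
        have e2 : π (MulAut.conjNormal c ⟨m, hm⟩ * ⟨m, hm⟩⁻¹) = 1 := by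
          rw [map_mul, ← e1, ← map_mul, mul_inv_cancel, map_one]
        exact (πk _).1 e2
      have hx : π ⟨c, hcM⟩ = 1 := center_g22 fun y => by
        have e1 := congrArg (fun f : MulAut G22 => f y) ((hinner ⟨c, hcM⟩).symm.trans hc)
        simp only [MulAut.conj_apply, MulAut.one_apply] at e1
        exact mul_inv_eq_iff_eq_mul.1 e1
      exact (πk _).1 hx
    · intro hc
      rw [show c = ((⟨c, h.hNM hc⟩ : M) : C) from rfl, hinner, (πk _).2 hc, map_one]
  refine ⟨ψ, hker, ?_, fun x => ?_⟩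
  · have hNM : Nat.card M = Nat.card N * 443520 := by
      rw [← Subgroup.card_mul_index (N.subgroupOf M),
        Nat.card_congr (subgroupOfEquivOfLe h.hNM).toEquiv, Subgroup.index_eq_card,
        Nat.card_congr e.toEquiv, H25.M22.card22]
    have hNi : N.index = 887040 := by
      have h1 := N.card_mul_index
      rw [← M.card_mul_index, h.hM, hNM, mul_assoc] at h1
      exact Nat.eq_of_mul_eq_mul_left Nat.card_pos h1
    haveI : Finite (MulAut G22) := Nat.finite_of_card_ne_zero (by rw [H42.J4.card_aut22]; norm_num)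
    have hr : ψ.range = ⊤ := Subgroup.eq_top_of_card_eq _ (by
      rw [← Subgroup.index_ker, hker, hNi, H42.J4.card_aut22])
    exact MonoidHom.range_eq_top.1 hr
  · obtain ⟨m, rfl⟩ := πs x
    exact ⟨m, m.2, hinner m⟩

theorem core_eq (e : (haveI := h.hNn; ↥M ⧸ N.subgroupOf M ≃* G22)) : Cfsg.pCore 2 C = Q := by
  haveI := h.hQn; haveI := h.hNn; haveI := h.hMn
  haveI := H1.pCore_normal' 2 C
  haveI : Fact (Nat.Prime 2) := ⟨Nat.prime_two⟩
  set R := Cfsg.pCore 2 C
  have hR : IsPGroup 2 R := H1.isPGroup_pCore 2 C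
  have h1 : R ⊓ M ≤ N := by
    let π : ↥M →* G22 := e.toMonoidHom.comp (QuotientGroup.mk' _)
    have hb : (R.subgroupOf M).map π = ⊥ := two_group_bot
      (Subgroup.Normal.map (H1.subgroupOf_normal R M) π (e.surjective.comp (QuotientGroup.mk'_surjective _)))
      ((hR.comap_of_injective M.subtype M.subtype_injective).map π)
    rintro r ⟨hr, hrM⟩
    have e1 : π ⟨r, hrM⟩ = 1 := by
      rw [← Subgroup.mem_bot, ← hb]; exact mem_map_of_mem π hr
    rw [show π ⟨r, hrM⟩ = e (QuotientGroup.mk ⟨r, hrM⟩) from rfl, map_eq_one_iff e e.injective,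
      QuotientGroup.eq_one_iff] at e1
    exact e1
  have h2 : R ≤ M := fun r hr => h.hout r fun m hm => h1 ⟨by
    simpa [mul_assoc] using R.mul_mem hr ((inferInstance : R.Normal).conj_mem _ (inv_mem hr) m), by
    exact M.mul_mem (h.hMn.conj_mem _ hm r) (inv_mem hm)⟩
  have hQR : Q ≤ R := H1.le_pCore h.hQ.1.1
  refine le_antisymm (Eq.ge ?_) hQR
  refine Subgroup.eq_of_le_of_card_ge hQR ?_
  obtain ⟨k, hk⟩ := IsPGroup.iff_card.1 hR
  have hd : Nat.card R ∣ 3 * 2 ^ 13 := by
    rw [← h.hcard, ← h.hN]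
    exact Subgroup.card_dvd_of_le fun r hr => h1 ⟨hr, h2 hr⟩
  rw [hk] at hd
  rw [hk, h.hcard]
  exact Nat.le_of_dvd (by norm_num)
    ((Nat.Coprime.pow_left k (by norm_num : Nat.Coprime 2 3)).dvd_of_dvd_mul_left hd)

theorem facts (e : (haveI := h.hNn; ↥M ⧸ N.subgroupOf M ≃* G22)) {t : C} (htc : t ∈ center C)
    (ht : orderOf t = 2) :
    ∃ p ∈ N, orderOf p = 3 ∧ (∀ q ∈ Q, p * q = q * p → q ∈ zpowers t) ∧
      (∃ c : C, c ∈ normalizer (zpowers p : Set C) ∧ c * p ≠ p * c) ∧
      p ∈ ⁅centralizer ({p} : Set C), centralizer ({p} : Set C)⁆ := by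
  haveI := h.hQn; haveI := h.hNn; haveI := h.hMn
  haveI : Fact (Nat.Prime 3) := ⟨Nat.prime_three⟩
  haveI : Fact (Nat.Prime 7) := ⟨by norm_num⟩
  haveI : Fact (Nat.Prime 11) := ⟨by norm_num⟩
  obtain ⟨ψ, hker, hsurj, hinner⟩ := h.exists_psi e
  have ht1 : t ≠ 1 := fun e1 => by rw [e1, orderOf_one] at ht; norm_num at ht
  have htQ : t ∈ Q := h.h2c (mem_centralizer_iff.2 fun q _ => Subgroup.mem_center_iff.1 htc q)
  have hzc : (⟨t, htQ⟩ : Q) ∈ center Q :=
    Subgroup.mem_center_iff.2 fun q => Subtype.ext (Subgroup.mem_center_iff.1 htc q)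
  have hz1 : (⟨t, htQ⟩ : Q) ≠ 1 := fun e1 => ht1 (congrArg Subtype.val e1)
  obtain ⟨⟨p, hpN⟩, hpo⟩ := exists_prime_orderOf_dvd_card' (G := N) 3 (by rw [h.hN]; exact dvd_mul_right 3 _)
  rw [← Subgroup.orderOf_coe] at hpo
  change orderOf p = 3 at hpo
  have hp3 : p ^ 3 = 1 := hpo ▸ pow_orderOf_eq_one p
  have hzp : ∀ a ∈ zpowers p, a = 1 ∨ a = p ∨ a = p⁻¹ := fun a ha => by
    obtain ⟨k, hk⟩ := mem_powers_iff_mem_zpowers.2 ha
    change p ^ k = a at hk
    rw [show p ^ k = p ^ (k % 3) from pow_eq_pow_mod k hp3] at hk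
    have : k % 3 < 3 := Nat.mod_lt _ (by norm_num)
    interval_cases hk3 : k % 3
    · exact Or.inl (by simpa using hk.symm)
    · exact Or.inr (Or.inl (by simpa using hk.symm))
    · refine Or.inr (Or.inr (hk.symm.trans (eq_inv_of_mul_eq_one_left ?_)))
      rw [← pow_succ]; exact hp3
  have hdis : ∀ a ∈ Q, a ∈ zpowers p → a = 1 := fun a ha hap => by
    have h1 := (Subgroup.orderOf_dvd_natCard _ ha)
    rw [h.hcard] at h1
    have h2 := (Subgroup.orderOf_dvd_natCard _ hap)
    rw [Nat.card_zpowers, hpo] at h2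
    exact orderOf_eq_one_iff.1 (Nat.eq_one_of_dvd_coprimes (by norm_num) h1 h2)
  have hNgen : ∀ n ∈ N, ∃ q ∈ Q, ∃ a ∈ zpowers p, n = q * a := by
    let f : ↥Q × ↥(zpowers p) → ↥N := fun v =>
      ⟨v.1 * v.2, mul_mem (h.hQN v.1.2) (zpowers_le.2 hpN v.2.2)⟩
    have hf : Function.Injective f := by
      rintro ⟨a, b⟩ ⟨a', b'⟩ e1
      have e2 : (a : C) * b = a' * b' := congrArg Subtype.val e1
      have e3 : (a' : C)⁻¹ * a = b' * (b : C)⁻¹ := by
        rw [eq_mul_inv_iff_mul_eq, mul_assoc, e2, inv_mul_cancel_left]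
      have e4 := hdis _ (mul_mem (inv_mem a'.2) a.2) (e3 ▸ mul_mem b'.2 (inv_mem b.2))
      have ea : (a : C) = a' := (inv_mul_eq_one.1 e4).symm
      refine Prod.ext (Subtype.ext ea) (Subtype.ext ?_)
      rw [ea] at e2
      exact mul_left_cancel e2
    intro n hn
    obtain ⟨⟨a, b⟩, hab⟩ := ((Nat.bijective_iff_injective_and_card f).2 ⟨hf, by
      rw [Nat.card_prod, Nat.card_zpowers, hpo, h.hN, mul_comm]⟩).2 ⟨n, hn⟩
    exact ⟨a, a.2, b, b.2, (congrArg Subtype.val hab).symm⟩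
  -- the action on the quotient of `Q`
  let ρ : C →* AddMonoid.End (VX ↥Q) := actV.comp (MulAut.conjNormal : C →* MulAut Q)
  have hρmk : ∀ (c : C) (a : Q), ρ c (mkV a) = mkV ⟨c * a * c⁻¹, h.hQn.conj_mem _ a.2 c⟩ :=
    fun c a => congrArg mkV (Subtype.ext (MulAut.conjNormal_apply c a))
  have hρQ : ∀ q ∈ Q, ρ q = 1 := fun q hq => AddMonoidHom.ext fun v => by
    obtain ⟨a, rfl⟩ := mkV_surj v
    refine (hρmk q a).trans ?_
    show _ = mkV a
    rw [eq_comm, mkV_eq_iff h.hQ]
    have := H6.extraspecial_commutator_mem_center h.hQ a⁻¹ ⟨q, hq⟩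
    convert this using 1
    exact Subtype.ext (by simp [commutatorElement_def, mul_assoc])
  have hρker : ∀ c, ρ c = 1 → c * c ∈ Q := fun c hc => h.h2c (mem_centralizer_iff.2 fun a ha => by
    have e1 := hρmk c ⟨a, ha⟩
    rw [hc] at e1
    change mkV (⟨a, ha⟩ : Q) = _ at e1
    rw [mkV_eq_iff h.hQ] at e1
    have key : ∀ x ∈ center Q, c * (x : C) * c⁻¹ = x ∧ (x : C) * x = 1 := fun x hx => by
      rcases center_cases h.hQ hzc hz1 hx with rfl | rfl
      · simp
      · refine ⟨?_, congrArg Subtype.val (zz h.hQ hzc hz1)⟩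
        show c * t * c⁻¹ = t
        rw [Subgroup.mem_center_iff.1 htc c, mul_inv_cancel_right]
    obtain ⟨k1, k2⟩ := key _ e1
    set x : C := a⁻¹ * (c * a * c⁻¹) with hx
    change c * x * c⁻¹ = x at k1
    change x * x = 1 at k2
    have e2 : c * a * c⁻¹ = a * x := by rw [hx, mul_inv_cancel_left]
    have e3 : c * c * a * (c * c)⁻¹ = a := by
      calc c * c * a * (c * c)⁻¹ = c * (c * a * c⁻¹) * c⁻¹ := by group
        _ = c * (a * x) * c⁻¹ := by rw [e2]
        _ = (c * a * c⁻¹) * (c * x * c⁻¹) := by group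
        _ = a := by rw [k1, e2, mul_assoc, k2, mul_one]
    exact (mul_inv_eq_iff_eq_mul.1 e3).symm)
  have hρcong : ∀ {a b : C}, a⁻¹ * b ∈ Q → ρ a = ρ b := fun {a b} hab => by
    rw [show b = a * (a⁻¹ * b) by group, map_mul, hρQ _ hab, mul_one]
  set w := ρ p with hw
  have hw3 : w ^ 3 = 1 := by rw [hw, ← map_pow, hp3, map_one]
  have hwN : ∀ n ∈ N, ∃ i : ℕ, ρ n = w ^ i := fun n hn => by
    obtain ⟨q, hq, a, ha, rfl⟩ := hNgen n hn
    obtain ⟨i, rfl⟩ := mem_powers_iff_mem_zpowers.2 ha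
    exact ⟨i, by rw [map_mul, hρQ q hq, one_mul, map_pow]⟩
  have hwM : ∀ m ∈ M, Commute (ρ m) w := fun m hm => by
    have hc := h.hcent (commutator_mem_commutator hm hpN)
    show ρ m * w = w * ρ m
    rw [hw, ← map_mul, ← map_mul]
    refine (hρcong ?_).symm
    simpa [commutatorElement_def, mul_assoc] using h.hQn.conj_mem _ hc (p * m)⁻¹
  have hwne : w ≠ 1 := fun hw1 => by
    have e1 := hdis _ (hρker p hw1) (mul_mem (mem_zpowers p) (mem_zpowers p))
    have := orderOf_dvd_of_pow_eq_one (show p ^ 2 = 1 by rw [sq]; exact e1)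
    rw [hpo] at this
    norm_num at this
  have hV2 := add_self h.hQ hzc hz1
  have hVc : Nat.card (VX ↥Q) ≤ 4096 := by
    have := card_V h.hQ
    rw [h.hcard] at this
    omega
  -- a lift of an element of order 7 or 11
  have lift : ∀ (r k : ℕ), r.Prime → 3 * r ∣ k * r → 2 < r → k % r = 1 → ∀ x : G22, orderOf x = r →
      ∃ m ∈ M, ψ m = MulAut.conj x ∧ (ρ (m ^ k)) ^ r = 1 ∧ ρ (m ^ k) ≠ 1 := by
    intro r k hr h3 hr2 hk x hx
    obtain ⟨m, hm, hψm⟩ := hinner x
    refine ⟨m, hm, hψm, ?_, fun e1 => ?_⟩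
    · obtain ⟨i, hi⟩ := hwN (m ^ r) (hker ▸ by
        rw [MonoidHom.mem_ker, map_pow, hψm, ← map_pow, ← hx, pow_orderOf_eq_one, map_one])
      obtain ⟨d, hd⟩ := h3
      obtain ⟨d', rfl⟩ : 3 ∣ k := ⟨d, Nat.eq_of_mul_eq_mul_right hr.pos (by rw [hd]; ring)⟩
      rw [← map_pow, ← pow_mul, mul_comm, pow_mul, map_pow, hi, ← pow_mul,
        show i * (3 * d') = 3 * (i * d') by ring, pow_mul, hw3, one_pow]
    · have h2 := h.hQN (hρker _ e1)
      rw [← hker, MonoidHom.mem_ker, ← sq, ← pow_mul, map_pow, hψm, ← map_pow] at h2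
      have hx0 : x ^ (k * 2) = 1 := center_g22 fun y => by
        have e2 := congrArg (fun f : MulAut G22 => f y) h2
        simp only [MulAut.conj_apply, MulAut.one_apply] at e2
        exact mul_inv_eq_iff_eq_mul.1 e2
      have hd := orderOf_dvd_of_pow_eq_one hx0
      rw [hx] at hd
      rcases hr.dvd_mul.1 hd with hd | hd
      · rw [Nat.mod_eq_zero_of_dvd hd] at hk; omega
      · have := Nat.le_of_dvd (by norm_num) hd; omega
  -- no fixed points of `p` on the quotient
  have hwfix : ∀ v, w v = v → v = 0 := by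
    by_contra hne
    push Not at hne
    obtain ⟨v0, hv0, hv0ne⟩ := hne
    obtain ⟨x7, hx7⟩ : ∃ x : G22, orderOf x = 7 := H29.M22.exists_seven.imp fun _ h => h.1
    obtain ⟨m, hm, hψm, hm7, hm1⟩ := lift 7 15 (by norm_num) ⟨5, rfl⟩ (by norm_num) rfl x7 hx7
    set f := ρ (m ^ 15) with hf
    have hU := CentModule.no_seven hV2 hVc hm7 hw3 (hwM _ (pow_mem hm 15)) qV bV
      (qV_add h.hQ hzc hz1) (bV_add h.hQ hzc hz1) (bV_symm h.hQ hzc hz1) (bV_nondeg h.hQ hzc hz1)
      (qV_act h.hQ hzc hz1 _) (qV_act h.hQ hzc hz1 _) hv0 hv0ne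
    let U : AddSubgroup (VX ↥Q) := AddMonoidHom.ker (CentModule.norm 3 w)
    -- elements of `M` acting on `U` as a power of `w`
    have hUinv : ∀ c ∈ M, ∀ v ∈ U, ρ c v ∈ U := fun c hc v hv => by
      show (CentModule.norm 3 w * ρ c) v = 0
      rw [show CentModule.norm 3 w * ρ c = ρ c * CentModule.norm 3 w from
        (Commute.sum_left _ _ _ fun i _ => ((hwM c hc).symm.pow_left i) :
          Commute (CentModule.norm 3 w) (ρ c)).eq]
      show ρ c (CentModule.norm 3 w v) = 0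
      rw [show CentModule.norm 3 w v = 0 from hv, map_zero]
    let A : Subgroup C :=
      { carrier := {c | c ∈ M ∧ ∀ v ∈ U, ρ c v = v}
        one_mem' := ⟨one_mem _, fun v _ => by rw [map_one]; rfl⟩
        mul_mem' := fun {a b} ha hb => ⟨mul_mem ha.1 hb.1, fun v hv => by
          rw [map_mul]
          show ρ a (ρ b v) = v
          rw [hb.2 v hv, ha.2 v hv]⟩
        inv_mem' := fun {a} ha => ⟨inv_mem ha.1, fun v hv => by
          have e1 : ρ (a⁻¹ * a) v = v := by rw [inv_mul_cancel, map_one]; rfl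
          rw [map_mul] at e1
          change ρ a⁻¹ (ρ a v) = v at e1
          rwa [ha.2 v hv] at e1⟩ }
    have hAn : ∀ c ∈ M, ∀ a ∈ A, c * a * c⁻¹ ∈ A := fun c hc a ha =>
      ⟨mul_mem (mul_mem hc ha.1) (inv_mem hc), fun v hv => by
        rw [map_mul, map_mul]
        show ρ c (ρ a (ρ c⁻¹ v)) = v
        rw [ha.2 _ (hUinv _ (inv_mem hc) v hv)]
        show (ρ c * ρ c⁻¹) v = v
        rw [← map_mul, mul_inv_cancel, map_one]; rfl⟩
    let π : ↥M →* G22 := e.toMonoidHom.comp (QuotientGroup.mk' _)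
    have πs : Function.Surjective π := e.surjective.comp (QuotientGroup.mk'_surjective _)
    have hAM : (A.subgroupOf M).map π = ⊤ := by
      haveI := H42.J4.simple22
      haveI : ((A.subgroupOf M).map π).Normal := Subgroup.Normal.map
        ⟨fun a ha c => mem_subgroupOf.2 (hAn c c.2 a ha)⟩ π πs
      refine (inferInstance : ((A.subgroupOf M).map π).Normal).eq_bot_or_eq_top.resolve_left fun e0 => ?_
      have hmA : m ^ 15 ∈ A := ⟨pow_mem hm 15, fun v hv => hU v hv⟩
      have e1 : π ⟨m ^ 15, pow_mem hm 15⟩ = 1 := by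
        rw [← Subgroup.mem_bot, ← e0]; exact mem_map_of_mem π hmA
      rw [show π ⟨m ^ 15, pow_mem hm 15⟩ = e (QuotientGroup.mk ⟨m ^ 15, pow_mem hm 15⟩) from rfl,
        map_eq_one_iff e e.injective, QuotientGroup.eq_one_iff, mem_subgroupOf, ← hker,
        MonoidHom.mem_ker, map_pow, hψm, ← map_pow] at e1
      have hx0 : x7 ^ 15 = 1 := center_g22 fun y => by
        have e2 := congrArg (fun f : MulAut G22 => f y) e1
        simp only [MulAut.conj_apply, MulAut.one_apply] at e2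
        exact mul_inv_eq_iff_eq_mul.1 e2
      have hd := orderOf_dvd_of_pow_eq_one hx0
      rw [hx7] at hd
      norm_num at hd
    have hpow : ∀ c ∈ M, ∃ i : ℕ, ∀ v ∈ U, ρ c v = (w ^ i) v := fun c hc => by
      obtain ⟨⟨a, haM⟩, haA, ha⟩ := (hAM.symm ▸ mem_top (π ⟨c, hc⟩) : π ⟨c, hc⟩ ∈ (A.subgroupOf M).map π)
      have e1 : e (QuotientGroup.mk ⟨a, haM⟩) = e (QuotientGroup.mk ⟨c, hc⟩) := ha
      have e2 : a⁻¹ * c ∈ N := mem_subgroupOf.1 (QuotientGroup.eq.1 (e.injective e1))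
      obtain ⟨i, hi⟩ := hwN _ e2
      refine ⟨i, fun v hv => ?_⟩
      have e3 : ρ c = ρ a * w ^ i := by rw [← hi, ← map_mul, mul_inv_cancel_left]
      rw [e3]
      show ρ a ((w ^ i) v) = (w ^ i) v
      refine (mem_subgroupOf.1 haA).2 _ ?_
      rw [← hi]; exact hUinv _ (h.hNM e2) v hv
    have hMA : M ≤ A := h.hperf.trans (sup_le (commutator_le.2 fun a ha b hb => by
      refine ⟨mul_mem (mul_mem (mul_mem ha hb) (inv_mem ha)) (inv_mem hb), fun v hv => ?_⟩
      obtain ⟨i, hi⟩ := hpow a ha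
      obtain ⟨j, hj⟩ := hpow b hb
      have hab : ∀ u ∈ U, ρ (a * b) u = ρ (b * a) u := fun u hu => by
        rw [map_mul, map_mul]
        show ρ a (ρ b u) = ρ b (ρ a u)
        rw [hi _ (hUinv b hb u hu), hj _ (hUinv a ha u hu), hi u hu, hj u hu]
        show (w ^ i * w ^ j) u = (w ^ j * w ^ i) u
        rw [← pow_add, ← pow_add, add_comm]
      have hu := hUinv _ (inv_mem (mul_mem hb ha)) v hv
      have hab' := hab _ hu
      rw [show ⁅a, b⁆ = a * b * (b * a)⁻¹ by rw [commutatorElement_def]; group, map_mul]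
      show ρ (a * b) (ρ (b * a)⁻¹ v) = v
      rw [hab']
      show (ρ (b * a) * ρ (b * a)⁻¹) v = v
      rw [← map_mul, mul_inv_cancel, map_one]; rfl)
      fun q hq => ⟨h.hNM (h.hQN hq), fun v _ => by rw [hρQ q hq]; rfl⟩)
    refine hwne (AddMonoidHom.ext fun v => ?_)
    have hn : v + CentModule.norm 3 w v ∈ U := CentModule.norm_split hV2 (by decide) hw3 v
    have e1 : w (v + CentModule.norm 3 w v) = v + CentModule.norm 3 w v := (hMA (h.hNM hpN)).2 _ hn
    rw [map_add, CentModule.apply_norm hw3] at e1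
    exact add_right_cancel e1
  -- the outer half inverts `p`
  obtain ⟨u, α, hu, hαu⟩ := exists_eleven_inverted
  obtain ⟨m, hm, hψm, hm11, hm1⟩ := lift 11 12 (by norm_num) ⟨4, rfl⟩ (by norm_num) rfl u hu
  obtain ⟨g, hg⟩ := hsurj α
  have hgN : g * m * g⁻¹ * m ∈ N := by
    rw [← hker, MonoidHom.mem_ker, map_mul, map_mul, map_mul, map_inv, hg, hψm]
    refine MulEquiv.ext fun y => ?_
    simp only [MulAut.mul_apply, MulAut.inv_apply, MulAut.conj_apply, MulAut.one_apply,
      MulEquiv.apply_symm_apply, map_mul, map_inv, hαu]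
    group
  have hnc : ¬ (p * g)⁻¹ * (g * p) ∈ Q := fun hcq => by
    refine hm1 (CentModule.no_eleven hV2 hVc hm11 hw3 hwfix (hwM _ (pow_mem hm 12))
      (actV_injective _) (g := ρ g) ?_ ?_)
    · show ρ g * w = w * ρ g
      rw [hw, ← map_mul, ← map_mul]
      exact (hρcong hcq).symm
    · obtain ⟨i, hi⟩ := hwN _ hgN
      have hcm : Commute (w ^ i) (ρ m⁻¹) := (hwM _ (inv_mem hm)).symm.pow_left i
      have e1 : ρ ((g * m * g⁻¹) ^ 12) = ρ (m⁻¹ ^ 12) := by
        rw [show g * m * g⁻¹ = g * m * g⁻¹ * m * m⁻¹ by group, map_pow, map_mul, hi, hcm.mul_pow,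
          ← pow_mul, mul_comm i 12, pow_mul, show w ^ 12 = (w ^ 3) ^ 4 from pow_mul w 3 4, hw3,
          one_pow, one_pow, one_mul, map_pow]
      rw [conj_pow, map_mul, map_mul, inv_pow] at e1
      have e2 : (ρ (m ^ 12)) ^ 10 = ρ (m ^ 12)⁻¹ := by
        calc (ρ (m ^ 12)) ^ 10 = (ρ (m ^ 12)) ^ 10 * ρ (m ^ 12 * (m ^ 12)⁻¹) := by
              rw [mul_inv_cancel, map_one, mul_one]
          _ = (ρ (m ^ 12)) ^ 11 * ρ (m ^ 12)⁻¹ := by rw [map_mul, ← mul_assoc, ← pow_succ]
          _ = _ := by rw [hm11, one_mul]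
      rw [e2, ← e1, mul_assoc (ρ g * ρ (m ^ 12)), ← map_mul ρ g⁻¹ g, inv_mul_cancel, map_one, mul_one]
  have exists_conj_back : ∀ c : C, ∃ n ∈ N, n * (c * p * c⁻¹) * n⁻¹ ∈ zpowers p := by
    intro c
    let P₁ : Subgroup N := (zpowers p).subgroupOf N
    have hP₁ : Nat.card P₁ = 3 := by
      rw [Nat.card_congr (subgroupOfEquivOfLe (zpowers_le.2 hpN)).toEquiv, Nat.card_zpowers, hpo]
    have hfac : (Nat.card N).factorization 3 = 1 := by
      rw [h.hN, h.hcard, Nat.factorization_mul (by norm_num) (by norm_num),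
        Nat.Prime.factorization_pow Nat.prime_two]
      simp [Nat.Prime.factorization Nat.prime_three]
    let S₁ : Sylow 3 N := Sylow.ofCard P₁ (by rw [hP₁, hfac, pow_one])
    let φ : MulAut N := MulAut.conjNormal c
    let S₂ : Sylow 3 N := Sylow.ofCard (P₁.map φ.toMonoidHom) (by
      rw [← Nat.card_congr (P₁.equivMapOfInjective φ.toMonoidHom φ.injective).toEquiv, hP₁, hfac,
        pow_one])
    obtain ⟨n, hn⟩ := MulAction.exists_smul_eq N S₂ S₁
    refine ⟨n, n.2, ?_⟩
    have h1 : n * φ ⟨p, hpN⟩ * n⁻¹ ∈ ((n • S₂ : Sylow 3 N) : Subgroup N) := by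
      rw [Sylow.coe_subgroup_smul]
      exact ⟨φ ⟨p, hpN⟩, ⟨⟨p, hpN⟩, mem_subgroupOf.2 (mem_zpowers p), rfl⟩, rfl⟩
    rw [hn] at h1
    exact mem_subgroupOf.1 h1
  refine ⟨p, hpN, hpo, fun q hq hpq => ?_, ?_, ?_⟩
  · have e1 : w (mkV ⟨q, hq⟩) = mkV (⟨q, hq⟩ : Q) := by
      rw [hw, hρmk]
      exact congrArg mkV (Subtype.ext (show p * q * p⁻¹ = q by rw [hpq, mul_inv_cancel_right]))
    rcases center_cases h.hQ hzc hz1 ((mkV_eq_zero h.hQ).1 (hwfix _ e1)) with e2 | e2 <;>
      rw [show q = _ from congrArg Subtype.val e2]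
    · exact one_mem _
    · exact mem_zpowers t
  · -- a conjugate in the same Sylow subgroup of `N`
    obtain ⟨n0, hn0, hmem⟩ := exists_conj_back g
    let n : N := ⟨n0, hn0⟩
    refine ⟨n * g, ?_, fun hcomm => ?_⟩
    · refine mem_normalizer_iff.2 fun y => ?_
      have e1 : (zpowers p).map (MulAut.conj ((n : C) * g)).toMonoidHom = zpowers p := by
        refine Subgroup.eq_of_le_of_card_ge ?_ ?_
        · rintro _ ⟨a, ha, rfl⟩
          obtain ⟨k, rfl⟩ := mem_zpowers_iff.1 ha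
          rw [map_zpow]
          refine zpow_mem ?_ k
          show (n : C) * g * p * ((n : C) * g)⁻¹ ∈ _
          simpa [mul_assoc] using hmem
        · rw [← Nat.card_congr ((zpowers p).equivMapOfInjective _
            (MulAut.conj ((n : C) * g)).injective).toEquiv]
      conv_rhs => rw [← e1]
      rw [Subgroup.mem_map_equiv]
      exact iff_of_eq (congrArg (· ∈ zpowers p) (MulEquiv.symm_apply_apply (MulAut.conj ((n : C) * g)) y).symm)
    · refine hnc ?_
      have e1 : (n : C)⁻¹ * p * n = g * p * g⁻¹ := by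
        have e2 : (n : C) * (g * p * g⁻¹) * (n : C)⁻¹ = p := by
          calc (n : C) * (g * p * g⁻¹) * (n : C)⁻¹ = (n : C) * g * p * ((n : C) * g)⁻¹ := by group
            _ = p := by rw [hcomm, mul_inv_cancel_right]
        calc (n : C)⁻¹ * p * n = (n : C)⁻¹ * ((n : C) * (g * p * g⁻¹) * (n : C)⁻¹) * n := by rw [e2]
          _ = g * p * g⁻¹ := by group
      have hc := h.hcent (commutator_mem_commutator (h.hNM (inv_mem n.2)) hpN)
      rw [commutatorElement_def, inv_inv, e1] at hc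
      simpa [mul_assoc] using h.hQn.conj_mem _ hc (p * g)⁻¹
  · -- `p` is a commutator modulo `Q`
    let π := QuotientGroup.mk' Q
    have hlift : ∀ m ∈ M, ∃ c ∈ centralizer ({p} : Set C), π m = π c := by
      intro m hm
      obtain ⟨n, hn, hmem⟩ := exists_conj_back m
      obtain ⟨q, hq, a, ha, rfl⟩ := hNgen n hn
      have hmp : m * p * m⁻¹ * p⁻¹ ∈ Q := h.hcent (commutator_mem_commutator hm hpN)
      -- absorb the power of `p`
      set s := a⁻¹ * q * a with hs
      have hsQ : s ∈ Q := by simpa [hs, mul_assoc] using h.hQn.conj_mem _ hq a⁻¹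
      have hmem' : s * (m * p * m⁻¹) * s⁻¹ ∈ zpowers p := by
        have := mul_mem (mul_mem (inv_mem ha) hmem) ha
        convert this using 1
        rw [hs]; group
      refine ⟨s * m, mem_centralizer_singleton_iff.2 ?_, ?_⟩
      · have hkp : s * (m * p * m⁻¹) * s⁻¹ * p⁻¹ ∈ Q := by
          have := Q.mul_mem (Q.mul_mem (Q.mul_mem hsQ hmp) (inv_mem hsQ))
            (Q.mul_mem hsQ (h.hQn.conj_mem _ (inv_mem hsQ) p))
          convert this using 1; group
        have := mul_inv_eq_one.1 (hdis _ hkp (mul_mem hmem' (inv_mem (mem_zpowers p))))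
        calc s * m * p = s * (m * p * m⁻¹) * s⁻¹ * (s * m) := by group
          _ = p * (s * m) := by rw [this]
      · rw [map_mul, show π s = 1 from (QuotientGroup.eq_one_iff s).2 hsQ, one_mul]
    have hM' : M.map π ≤ ⁅centralizer ({p} : Set C), centralizer ({p} : Set C)⁆.map π := by
      refine (map_mono h.hperf).trans ?_
      rw [Subgroup.map_sup, map_commutator, map_commutator, (Subgroup.map_eq_bot_iff _).2 (QuotientGroup.ker_mk' Q).ge,
        sup_bot_eq]
      have hle : M.map π ≤ (centralizer ({p} : Set C)).map π := by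
        rintro _ ⟨m, hm, rfl⟩
        obtain ⟨c, hc, hmc⟩ := hlift m hm
        exact ⟨c, hc, hmc.symm⟩
      exact commutator_mono hle hle
    obtain ⟨c, hc, hcp⟩ := hM' (mem_map_of_mem π (h.hNM hpN))
    have hcq : p⁻¹ * c ∈ Q := QuotientGroup.eq.1 hcp.symm
    have hcc : c ∈ centralizer ({p} : Set C) :=
      commutator_le_self _ hc
    have hpc : p * (p⁻¹ * c) = (p⁻¹ * c) * p := by
      rw [mul_inv_cancel_left, mul_assoc, mem_centralizer_singleton_iff.1 hcc, inv_mul_cancel_left]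
    have hfix : p⁻¹ * c ∈ zpowers t := by
      refine ?_
      have e1 : w (mkV ⟨_, hcq⟩) = mkV (⟨_, hcq⟩ : Q) := by
        rw [hw, hρmk]
        exact congrArg mkV (Subtype.ext (show p * (p⁻¹ * c) * p⁻¹ = _ by
          rw [hpc, mul_inv_cancel_right]))
      rcases center_cases h.hQ hzc hz1 ((mkV_eq_zero h.hQ).1 (hwfix _ e1)) with e2 | e2 <;>
        rw [show p⁻¹ * c = _ from congrArg Subtype.val e2]
      · exact one_mem _
      · exact mem_zpowers t
    obtain ⟨j, hj⟩ := mem_zpowers_iff.1 hfix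
    have hcj : c = p * t ^ j := by rw [hj, mul_inv_cancel_left]
    have h4 : c ^ 4 = p := by
      have ht4 : (t ^ j) ^ 4 = 1 := by
        rw [← zpow_natCast, ← zpow_mul, show j * ((4 : ℕ) : ℤ) = 2 * (2 * j) by push_cast; ring,
          zpow_mul, zpow_two, ← sq, ← ht, pow_orderOf_eq_one, one_zpow]
      rw [hcj, (show Commute p (t ^ j) from
        (show Commute p t from Subgroup.mem_center_iff.1 htc p).zpow_right j).mul_pow, ht4, mul_one,
        pow_succ, hp3, one_mul]
    exact h4 ▸ pow_mem hc 4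

end Hyp

/-- The centraliser hypotheses of the recognition theorem give a group of Janko-four type. -/
theorem type_of_centralizer {G : Type*} [Group G] [Finite G] (t : G) (ht : orderOf t = 2)
    (Q N M : Subgroup (Subgroup.centralizer ({t} : Set G))) [Q.Normal] [N.Normal] [M.Normal]
    (hQN : Q ≤ N) (hNM : N ≤ M) (hM : M.index = 2) (hQ : Cfsg.IsExtraspecial 2 Q)
    (hcard : Nat.card Q = 2 ^ 13) (hN : Nat.card N = 3 * Nat.card Q) (hcent : ⁅M, N⁆ ≤ Q)
    (hperf : M ≤ ⁅M, M⁆ ⊔ Q)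
    (h2c : Subgroup.centralizer (Q : Set (Subgroup.centralizer ({t} : Set G))) ≤ Q)
    (hout : ∀ c : Subgroup.centralizer ({t} : Set G), (∀ m ∈ M, c * m * c⁻¹ * m⁻¹ ∈ N) → c ∈ M)
    (hM22 : Cfsg.Spor.IsoM22 (M ⧸ N.subgroupOf M)) : Cfsg.IsOfJankoFourTypeAt t := by
  have h : Hyp Q N M := ⟨inferInstance, inferInstance, inferInstance, hQN, hNM, hM, hQ, hcard, hN,
    hcent, hperf, h2c, hout⟩
  obtain ⟨e⟩ := hM22
  have htC : t ∈ (Subgroup.centralizer ({t} : Set G)) := mem_centralizer_singleton_iff.2 rfl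
  have htc : (⟨t, htC⟩ : (Subgroup.centralizer ({t} : Set G))) ∈ center (Subgroup.centralizer ({t} : Set G)) := Subgroup.mem_center_iff.2 fun c =>
    Subtype.ext (mem_centralizer_singleton_iff.1 c.2)
  have htC2 : orderOf (⟨t, htC⟩ : (Subgroup.centralizer ({t} : Set G))) = 2 := by rw [← Subgroup.orderOf_coe]; exact ht
  obtain ⟨p, hpN, hpo, hfix, ⟨c, hcn, hcp⟩, hcomm⟩ := h.facts e htc htC2
  obtain ⟨ψ, hker, hsurj, -⟩ := h.exists_psi e
  have hcore : Cfsg.twoCoreOfCentralizer t = Q.map (Subgroup.centralizer ({t} : Set G)).subtype :=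
    congrArg (Subgroup.map (Subgroup.centralizer ({t} : Set G)).subtype) (h.core_eq e)
  have hP : (zpowers p).map (Subgroup.centralizer ({t} : Set G)).subtype = zpowers (p : G) := by
    rw [MonoidHom.map_zpowers]; rfl
  have hcz : ∀ a : (Subgroup.centralizer ({t} : Set G)), (a : G) ∈ centralizer (zpowers (p : G) : Set G) ↔ a * p = p * a := by
    intro a
    rw [mem_centralizer_iff]
    constructor
    · exact fun hh => Subtype.ext (hh _ (mem_zpowers _)).symm
    · intro hh x hx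
      obtain ⟨k, rfl⟩ := mem_zpowers_iff.1 hx
      have hc : Commute (a : G) p := congrArg Subtype.val hh
      exact (hc.zpow_right k).eq.symm
  refine ⟨zpowers (p : G), ht, ?_, ?_, ?_, ⟨N.map (Subgroup.centralizer ({t} : Set G)).subtype, ?_, map_subtype_le _, ?_, ?_, ?_, ?_⟩,
    ?_, ?_, ?_, ?_⟩
  · rw [hcore]
    exact H68.isExtraspecial_of_equiv (Q.equivMapOfInjective (Subgroup.centralizer ({t} : Set G)).subtype (Subgroup.centralizer ({t} : Set G)).subtype_injective) hQ
  · rw [hcore, ← Nat.card_congr (Q.equivMapOfInjective (Subgroup.centralizer ({t} : Set G)).subtype (Subgroup.centralizer ({t} : Set G)).subtype_injective).toEquiv, hcard]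
  · rw [hcore]
    rintro x ⟨hxC, hx⟩
    refine ⟨⟨x, hxC⟩, h2c (mem_centralizer_iff.2 fun q hq => Subtype.ext ?_), rfl⟩
    exact mem_centralizer_iff.1 hx (q : G) ⟨q, hq, rfl⟩
  · rw [hcore]; exact map_mono hQN
  · intro x hx
    refine mem_normalizer_iff.2 fun y => ⟨?_, ?_⟩
    · rintro ⟨a, ha, rfl⟩
      exact ⟨_, (inferInstance : N.Normal).conj_mem a ha ⟨x, hx⟩, rfl⟩
    · rintro ⟨a, ha, hay⟩
      refine ⟨_, (inferInstance : N.Normal).conj_mem a ha ⟨x, hx⟩⁻¹, ?_⟩
      show x⁻¹ * (a : G) * x⁻¹⁻¹ = y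
      rw [show (a : G) = x * y * x⁻¹ from hay]; group
  · rw [hcore, ← Nat.card_congr (N.equivMapOfInjective (Subgroup.centralizer ({t} : Set G)).subtype (Subgroup.centralizer ({t} : Set G)).subtype_injective).toEquiv,
      ← Nat.card_congr (Q.equivMapOfInjective (Subgroup.centralizer ({t} : Set G)).subtype (Subgroup.centralizer ({t} : Set G)).subtype_injective).toEquiv, hN]
  · have he : (N.map (Subgroup.centralizer ({t} : Set G)).subtype).subgroupOf (Subgroup.centralizer ({t} : Set G)) = N := comap_map_eq_self_of_injective (Subgroup.centralizer ({t} : Set G)).subtype_injective N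
    haveI : ((N.map (Subgroup.centralizer ({t} : Set G)).subtype).subgroupOf (Subgroup.centralizer ({t} : Set G))).Normal := by rw [he]; infer_instance
    exact ⟨inferInstance, ⟨(QuotientGroup.quotientMulEquivOfEq (he.trans hker.symm)).trans
      (QuotientGroup.quotientKerEquivOfSurjective ψ hsurj)⟩⟩
  · exact zpowers_le.2 ⟨p, hpN, rfl⟩
  · rw [Nat.card_zpowers, Subgroup.orderOf_coe, hpo]
  · rw [hcore]
    refine le_antisymm ?_ (zpowers_le.2 ⟨⟨⟨t, htC⟩, h2c (mem_centralizer_iff.2 fun q _ =>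
      Subgroup.mem_center_iff.1 htc q), rfl⟩, (hcz ⟨t, htC⟩).2 (Subgroup.mem_center_iff.1 htc p).symm⟩)
    rintro _ ⟨⟨q, hq, rfl⟩, hc⟩
    obtain ⟨k, hk⟩ := mem_zpowers_iff.1 (hfix q hq ((hcz q).1 hc).symm)
    exact mem_zpowers_iff.2 ⟨k, congrArg Subtype.val hk⟩
  · intro heq
    have hmem : (c : G) ∈ (Subgroup.centralizer ({t} : Set G)) ⊓ normalizer (zpowers (p : G) : Set G) := by
      refine ⟨c.2, mem_normalizer_iff.2 fun y => ⟨fun hy => ?_, fun hy => ?_⟩⟩
      · rw [← hP] at hy ⊢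
        obtain ⟨a, ha, rfl⟩ := hy
        exact ⟨_, (mem_normalizer_iff.1 hcn a).1 ha, rfl⟩
      · rw [← hP] at hy ⊢
        obtain ⟨a, ha, hay⟩ := hy
        refine ⟨c⁻¹ * a * c, (mem_normalizer_iff.1 hcn _).2 (by simpa [mul_assoc] using ha), ?_⟩
        show (c : G)⁻¹ * a * c = y
        rw [show (a : G) = c * y * (c : G)⁻¹ from hay]; group
    rw [heq] at hmem
    exact hcp ((hcz c).1 hmem.2)
  · refine zpowers_le.2 ?_
    have hle : (centralizer ({p} : Set (Subgroup.centralizer ({t} : Set G)))).map (Subgroup.centralizer ({t} : Set G)).subtype ≤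
        (Subgroup.centralizer ({t} : Set G)) ⊓ centralizer (zpowers (p : G) : Set G) := by
      rintro _ ⟨a, ha, rfl⟩
      exact ⟨a.2, (hcz a).2 (mem_centralizer_singleton_iff.1 ha)⟩
    have := mem_map_of_mem (Subgroup.centralizer ({t} : Set G)).subtype hcomm
    rw [map_commutator] at this
    exact commutator_mono hle hle this

end Cfsg.Agent.H69.J4.CentGlue
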