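import Cfsg.Agent.H69.J4.Frame
import Cfsg.Agent.H69.J4.FusionData

/-!
Kernel-checked facts about the model used in the fusion argument.
-/

set_option autoImplicit false
set_option maxRecDepth 20000

namespace Cfsg.Agent.H69.J4

/-- The base involution of the elementary subgroup. -/
def mA : List ℕ := mK2.getD 0 []

/-- The image of `a + 1`. -/
def rVec : List ℕ := (List.range 16).map (ap rBas)

/-- Walking by the table reaches a representative. -/
def walk : ℕ → ℕ → Bool
  | 0, v => sMask.testBit v || Nat.beq v 1
  | n + 1, v => sMask.testBit v || Nat.beq v 1 || walk n (ap (letter ((stepTable >>> (2 * v)) % 4)) v)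

theorem a_mem : mA ∈ mK2 := by decide +kernel

theorem walk_ok : ((List.range 4096).all fun v => Nat.beq v 0 || walk 12 v) = true := by decide +kernel

theorem sMask_ok : ((List.range 4096).all fun v => !sMask.testBit v ||
    sVec.contains v) = true := by decide +kernel

theorem inv_conj : ((List.range 35).all fun i =>
    mm (evalM (invWords.getD i [])) (mInv.getD i []) == mm mA (evalM (invWords.getD i []))) = true := by
  decide +kernel

theorem rVec_ok : ((List.range 4096).all fun v => rVec.contains (ap mA v ^^^ v)) = true := by
  decide +kernel

theorem rVec_pre : ((List.range 4).all fun i =>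
    Nat.beq (ap mA (rPre.getD i 0) ^^^ rPre.getD i 0) (rBas.getD i 0)) = true ∧
    (rPre.all fun v => Nat.blt v 4096) = true ∧ (rBas.all fun v => Nat.blt v 4096) = true ∧
    rBas.length = 4 ∧ rPre.length = 4 := by decide +kernel

theorem rVec_nodup : rVec.Nodup ∧ rVec.length = 16 := by decide +kernel

theorem rVec_s : (rVec.all fun v => sVec.contains v) = true := by decide +kernel

theorem fBas_ok : (fBas.all fun v => Nat.blt v 4096 && Nat.beq (ap mA v) v) = true ∧ fBas.length = 8 := by
  decide +kernel

theorem fBas_inj : ((List.range 256).all fun i => Nat.beq i 0 || !Nat.beq (ap fBas i) 0) = true := by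
  decide +kernel

theorem move_S : (mK2.all fun m => mI.all fun v => sVec.contains (ap m v ^^^ v)) = true := by
  decide +kernel

theorem three_cosets : (sVec.all fun s => sVec.all fun t => rVec.contains s || rVec.contains t ||
    rVec.contains (s ^^^ t) || rVec.contains (ap mW s ^^^ t) ||
      rVec.contains (ap mW (ap mW s) ^^^ t)) = true := by decide +kernel

theorem cent_K : ([mK1, mK2].all fun K => mQ.all fun m =>
    !(K.all fun x => mm m x == mm x m) || (mI :: K).contains m) = true := by decide +kernel

theorem orb_span : ([orb0, orb1].all fun o => sVec.all fun v =>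
    (o.foldl (fun (acc : List ℕ) x => if acc.contains x then acc else acc ++ acc.map (x ^^^ ·)) [0]).contains v) =
      true := by decide +kernel

theorem orb_len : orb0.Nodup ∧ orb1.Nodup ∧
    ([orb0.length, orb1.length] = [18, 45] ∨ [orb0.length, orb1.length] = [45, 18]) := by decide +kernel

end Cfsg.Agent.H69.J4
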