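import Cfsg.Agent.H69.J4.Main
import Cfsg.Agent.H69.J4.FusionModel

/-!
The base involution of the elementary group of order `2 ^ 11` and its centraliser in `E`.
-/

set_option autoImplicit false

namespace Cfsg.Agent.H69.J4

open Subgroup
open scoped Pointwise

variable {G : Type*} [Group G] [Finite G]
variable {z : G} {E P N : Subgroup G}

namespace Data

variable (d : Data z E P)
include d

/-- A subgroup of `E` and its centralizer in `E` have orders with product at most `2 ^ 14`. -/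
theorem card_cent_mul {A : Subgroup G} (hA : A ≤ E) :
    Nat.card A * Nat.card ↥(E ⊓ centralizer (A : Set G)) ≤ 2 ^ 14 := by
  have h := H76.index_center_le d.L.hext (A.subgroupOf E)
  have hidx : (center ↥E).index = 4096 := by rw [Subgroup.index_eq_card]; exact d.card_bar
  have m1 := Subgroup.card_mul_index (A.subgroupOf E)
  have m2 := Subgroup.card_mul_index (centralizer (A.subgroupOf E : Set E))
  rw [d.cardE] at m1 m2
  rw [Nat.card_congr (subgroupOfEquivOfLe hA).toEquiv] at m1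
  rw [hidx] at h
  have hC : Nat.card ↥(E ⊓ centralizer (A : Set G)) =
      Nat.card (centralizer (A.subgroupOf E : Set E)) :=
    Nat.card_congr
      { toFun := fun x => ⟨⟨x, x.2.1⟩, mem_centralizer_iff.2 fun y hy =>
          Subtype.ext (mem_centralizer_iff.1 x.2.2 y (mem_subgroupOf.1 hy))⟩
        invFun := fun x => ⟨x.1, x.1.2, mem_centralizer_iff.2 fun y hy =>
          congrArg Subtype.val (mem_centralizer_iff.1 x.2 ⟨y, hA hy⟩ (mem_subgroupOf.2 hy))⟩
        left_inv := fun _ => rfl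
        right_inv := fun _ => rfl }
  rw [hC]
  set i := (A.subgroupOf E).index
  set j := (centralizer (A.subgroupOf E : Set E)).index
  set a := Nat.card A
  set b := Nat.card (centralizer (A.subgroupOf E : Set E))
  have : 2 ^ 13 * 2 ^ 13 = a * b * (j * i) := by
    calc 2 ^ 13 * 2 ^ 13 = (a * i) * (b * j) := by rw [m1, m2]
      _ = a * b * (j * i) := by ring
  nlinarith

theorem z_pow_cases {c : G} (hc : c ∈ E) (hcen : (QuotientGroup.mk (⟨c, hc⟩ : E) : Bar E) = 1) :
    c = 1 ∨ c = z := (d.mk_eq_one).1 hcen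

/-- The class of a commutator with an element of `E`. -/
theorem mk_commutator (h : ↥(centralizer ({z} : Set G))) (e : E)
    (hm : (h : G) * e * (h : G)⁻¹ * (e : G)⁻¹ ∈ E) :
    (QuotientGroup.mk (⟨_, hm⟩ : E) : Bar E) = d.ρ h (QuotientGroup.mk e) * QuotientGroup.mk e := by
  have e1 : (⟨_, hm⟩ : E) = ⟨(h : G) * e * (h : G)⁻¹, d.L.conj_mem h.2 e.2⟩ * e⁻¹ := rfl
  rw [e1, QuotientGroup.mk_mul, QuotientGroup.mk_inv, d.ρ_mk,
    inv_eq_of_mul_eq_one_right (d.sq_bar _)]

end Data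

variable {d : Data z E P} (R : Real d)

namespace Real

/-- An element of `V₀` commuting with `P` over the base involution of the model. -/
structure IsBase (R : Real d) (u : G) : Prop where
  mem : u ∈ R.V0
  comm : (R.g 3 : G) * u = u * R.g 3
  code : R.code (d.ρ ⟨u, mem.1⟩) = mA

theorem exists_base : ∃ u, R.IsBase u := by
  have hmQ : mA ∈ mQ := by simpa using (List.all_eq_true.1 k2_sub) _ a_mem
  obtain ⟨j, hj, hjA⟩ := List.getElem_of_mem hmQ
  obtain ⟨w, hw⟩ := R.exists_of_mem_mQ j (q_len ▸ hj)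
  rw [List.getD_eq_getElem (hn := hj), hjA] at hw
  have hA0 : d.ρ (R.word w) ∈ R.A0 := by
    show R.code _ ∈ mI :: mK2
    rw [hw]; exact List.mem_cons_of_mem _ a_mem
  obtain ⟨t, ht, h, he⟩ := R.exists_V0_lift hA0
  obtain ⟨s, hs, hcomm⟩ := R.exists_K_lift ht
  refine ⟨t * s, mul_mem ht (R.sHat_le_V0 hs), hcomm, ?_⟩
  rw [show (⟨t * s, _⟩ : centralizer ({z} : Set G)) = ⟨t, h⟩ * ⟨s, d.L.le_H (R.sHat_le hs)⟩ from rfl,
    map_mul, (d.mem_ker_iff).2 (show ((⟨s, d.L.le_H (R.sHat_le hs)⟩ :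
      centralizer ({z} : Set G)) : G) ∈ E from R.sHat_le hs), mul_one, he, hw]

variable {R} {u : G}

namespace IsBase

variable (hu : R.IsBase u)
include hu

/-- The base as an element of `H`. -/
def el : ↥(centralizer ({z} : Set G)) := ⟨u, hu.mem.1⟩

theorem inv : u⁻¹ = u := inv_eq_of_mul_eq_one_right (R.V0_sq hu.mem)

theorem not_mem_E : u ∉ E := by
  intro h
  have h1 : d.ρ hu.el = 1 := (d.mem_ker_iff).2 h
  have h2 := hu.code
  rw [show (⟨u, hu.mem.1⟩ : centralizer ({z} : Set G)) = hu.el from rfl, h1, R.mat_one] at h2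
  exact absurd h2 (by decide +kernel)

theorem apply (v : ℕ) : d.ρ hu.el (R.φ v) = R.φ (ap mA v) := by
  rw [R.apply, show R.code (d.ρ hu.el) = mA from hu.code]

/-- Elements fixed modulo the centre commute with the base. -/
theorem fix_comm (e : E) (he : d.ρ hu.el (QuotientGroup.mk e) = QuotientGroup.mk e) :
    u * e = e * u := by
  set p := R.g 3
  set w := d.ρ p
  have hwu : Commute w (d.ρ hu.el) := by
    show w * _ = _ * w
    rw [← map_mul, ← map_mul]
    exact congrArg d.ρ (Subtype.ext hu.comm)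
  have hzu : u * z = z * u := mem_centralizer_singleton_iff.1 hu.mem.1
  have hzp : (p : G) * z = z * p := mem_centralizer_singleton_iff.1 p.2
  have hzp' : z * (p : G)⁻¹ = (p : G)⁻¹ * z := ((show Commute (p : G) z from hzp).inv_left.symm).eq
  have hcases : u * e * u⁻¹ = e ∨ u * e * u⁻¹ = e * z := by
    rw [d.ρ_mk, d.mk_eq_iff] at he
    rcases he with h | h <;> change (e : G) = _ at h
    · exact Or.inl h.symm
    · right
      conv_rhs => rw [h, mul_assoc, d.L.zz, mul_one]
      rfl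
  rcases hcases with h | h
  · exact mul_inv_eq_iff_eq_mul.1 h
  · exfalso
    have step : ∀ x : G, u * x * u⁻¹ = x * z →
        u * ((p : G) * x * (p : G)⁻¹) * u⁻¹ = (p : G) * x * (p : G)⁻¹ * z := by
      intro x hx
      calc u * ((p : G) * x * (p : G)⁻¹) * u⁻¹ = (u * p) * x * ((p : G)⁻¹ * u⁻¹) := by group
        _ = (p * u) * x * (u * p)⁻¹ := by
          rw [mul_inv_rev, show (p : G) * u = u * p from hu.comm]
        _ = (p * u) * x * ((p : G) * u)⁻¹ := by rw [show (p : G) * u = u * p from hu.comm]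
        _ = p * (u * x * u⁻¹) * (p : G)⁻¹ := by group
        _ = p * x * (z * (p : G)⁻¹) := by rw [hx]; group
        _ = _ := by rw [hzp']; group
    set e1 : G := (p : G) * e * (p : G)⁻¹
    set e2 : G := (p : G) * e1 * (p : G)⁻¹
    have h1 := step _ h
    have h2 := step _ h1
    have hE1 : e1 ∈ E := d.L.conj_mem p.2 e.2
    have hE2 : e2 ∈ E := d.L.conj_mem p.2 hE1
    have hprod : (e : G) * e1 * e2 = 1 ∨ (e : G) * e1 * e2 = z := by
      refine d.z_pow_cases (mul_mem (mul_mem e.2 hE1) hE2) ?_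
      rw [show (⟨(e : G) * e1 * e2, _⟩ : E) = e * ⟨e1, hE1⟩ * ⟨e2, hE2⟩ from rfl,
        QuotientGroup.mk_mul, QuotientGroup.mk_mul,
        show (QuotientGroup.mk (⟨e2, hE2⟩ : E) : Bar E) = w (QuotientGroup.mk (⟨e1, hE1⟩ : E)) from
          (d.ρ_mk p ⟨e1, hE1⟩).symm,
        show (QuotientGroup.mk (⟨e1, hE1⟩ : E) : Bar E) = w (QuotientGroup.mk e) from (d.ρ_mk p e).symm]
      refine R.fpf _ ?_
      rw [map_mul, map_mul, R.w_three]
      rw [d.comm_bar (w (QuotientGroup.mk e) * _), ← mul_assoc]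
    change u * e1 * u⁻¹ = e1 * z at h1
    change u * e2 * u⁻¹ = e2 * z at h2
    clear_value e2 e1
    have hcalc : u * ((e : G) * e1 * e2) * u⁻¹ = (e : G) * e1 * e2 * z := by
      calc u * ((e : G) * e1 * e2) * u⁻¹ = (u * e * u⁻¹) * (u * e1 * u⁻¹) * (u * e2 * u⁻¹) := by group
        _ = (e : G) * (z * e1) * z * (e2 * z) := by rw [h, h1, h2]; group
        _ = (e : G) * (e1 * z) * z * (e2 * z) := by rw [d.L.commute_z hE1]
        _ = (e : G) * e1 * (z * z) * (e2 * z) := by group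
        _ = _ := by rw [d.L.zz, mul_one]; group
    rcases hprod with hp | hp <;> rw [hp] at hcalc
    · simp at hcalc
      exact d.L.z_ne_one hcalc.symm
    · rw [hzu, mul_inv_cancel_right] at hcalc
      exact d.L.z_mul_ne z hcalc.symm

theorem comm_iff (e : E) :
    u * e = e * u ↔ d.ρ hu.el (QuotientGroup.mk e) = QuotientGroup.mk e := by
  refine ⟨fun h => ?_, hu.fix_comm e⟩
  rw [d.ρ_mk]
  refine congrArg _ (Subtype.ext ?_)
  show u * e * u⁻¹ = e
  rw [h, mul_inv_cancel_right]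

theorem card_cent : 512 ≤ Nat.card ↥(E ⊓ centralizer ({u} : Set G)) := by
  have hfix : ∀ i, ap mA (ap fBas i) = ap fBas i := by
    have hgen : ∀ (l : List ℕ), (∀ v ∈ l, ap mA v = v) → ∀ i, ap mA (ap l i) = ap l i := by
      intro l
      induction l with
      | nil => intro _ i; simp [ap, ap_zero_right]
      | cons a as ih =>
        intro h i
        rw [ap, ap_xor, ih (fun v hv => h v (List.mem_cons_of_mem _ hv))]
        cases Nat.beq (i % 2) 1
        · simp [ap_zero_right]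
        · simp [h a (List.mem_cons_self ..)]
    refine hgen _ fun v hv => ?_
    have := (List.all_eq_true.1 fBas_ok.1) v hv
    simp only [Bool.and_eq_true] at this
    exact Nat.eq_of_beq_eq_true this.2
  have hlt : ∀ i, ap fBas i < 4096 := fun i => ap_lt (n := 12) (fun v hv => by
    have := (List.all_eq_true.1 fBas_ok.1) v hv
    simp only [Bool.and_eq_true, Nat.blt_eq] at this
    exact this.1) i
  let f : Fin 256 × Bool → ↥(E ⊓ centralizer ({u} : Set G)) := fun p =>
    ⟨((R.φ (ap fBas p.1)).out : E) * (if p.2 then z else 1), by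
      have hE : (if p.2 then z else (1 : G)) ∈ E := by split_ifs <;> [exact d.L.z_mem; exact one_mem E]
      refine ⟨mul_mem (SetLike.coe_mem _) hE, mem_centralizer_singleton_iff.2 ?_⟩
      have h1 := hu.fix_comm ((R.φ (ap fBas p.1)).out : E) (by
        rw [QuotientGroup.out_eq', hu.apply, hfix])
      have hz2 : Commute u (if p.2 then z else 1) := by
        split_ifs
        · exact mem_centralizer_singleton_iff.1 hu.mem.1
        · exact Commute.one_right u
      exact ((show Commute u _ from h1).mul_right hz2).eq.symm⟩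
  have hf : Function.Injective f := by
    rintro ⟨i, b⟩ ⟨j, c⟩ h
    have hv := congrArg (fun v : ↥(E ⊓ centralizer ({u} : Set G)) => (v : G)) h
    simp only [f] at hv
    have hij : R.φ (ap fBas i) = R.φ (ap fBas j) := by
      rw [← QuotientGroup.out_eq' (R.φ (ap fBas i)), ← QuotientGroup.out_eq' (R.φ (ap fBas j)),
        d.mk_eq_iff]
      cases b <;> cases c <;> simp at hv
      · exact Or.inl (by rw [hv])
      · right; rw [hv, mul_assoc, d.L.zz, mul_one]
      · exact Or.inr hv.symm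
      · exact Or.inl (by rw [hv])
    have hij' := R.φ_inj (hlt i) (hlt j) hij
    have hi : i = j := by
      have h0 : ap fBas (i.1 ^^^ j.1) = 0 := by rw [ap_xor, hij', Nat.xor_self]
      have := (List.all_eq_true.1 fBas_inj) _ (List.mem_range.2 (Nat.xor_lt_two_pow (n := 8) i.2 j.2))
      rw [h0] at this
      simp only [Nat.beq_refl, Bool.not_true, Bool.or_false] at this
      exact Fin.ext (Nat.xor_eq_zero_iff.1 (Nat.eq_of_beq_eq_true this))
    subst hi
    cases b <;> cases c <;> simp [d.L.z_ne_one] at hv ⊢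
  have := Nat.card_le_card_of_injective f hf
  simpa using this

end IsBase

/-- The preimage in `E` of the image of `a + 1`, for an automorphism `a` of the quotient. -/
def moveSub (d : Data z E P) (a : MulAut (Bar E)) : Subgroup G where
  carrier := {x | ∃ h : x ∈ E, ∃ m, (QuotientGroup.mk (⟨x, h⟩ : E) : Bar E) = a m * m}
  one_mem' := ⟨one_mem E, 1, by rw [map_one, mul_one]; rfl⟩
  mul_mem' := by
    rintro x y ⟨hx, m, hm⟩ ⟨hy, n, hn⟩
    refine ⟨mul_mem hx hy, m * n, ?_⟩
    rw [show (⟨x * y, mul_mem hx hy⟩ : E) = ⟨x, hx⟩ * ⟨y, hy⟩ from rfl, QuotientGroup.mk_mul, hm, hn,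
      map_mul, mul_assoc, ← mul_assoc m (a n) n, d.comm_bar m (a n), mul_assoc (a n) m n,
      mul_assoc (a m)]
  inv_mem' := by
    rintro x ⟨hx, m, hm⟩
    refine ⟨inv_mem hx, m, ?_⟩
    rw [show (⟨x⁻¹, inv_mem hx⟩ : E) = (⟨x, hx⟩ : E)⁻¹ from rfl, QuotientGroup.mk_inv, hm]
    exact inv_eq_of_mul_eq_one_right (d.sq_bar _)

theorem z_mem_moveSub (a : MulAut (Bar E)) : z ∈ moveSub d a :=
  ⟨d.L.z_mem, 1, by rw [(d.mk_eq_one).2 (Or.inr rfl), map_one, mul_one]⟩

theorem moveSub_le (a : MulAut (Bar E)) : moveSub d a ≤ E := fun _ h => h.1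

/-- An element of the moved subgroup is, up to `z`, a commutator. -/
theorem exists_commutator (h : ↥(centralizer ({z} : Set G))) {x : G} (hx : x ∈ moveSub d (d.ρ h)) :
    ∃ f ∈ E, x = (h : G) * f * (h : G)⁻¹ * f⁻¹ ∨ x = (h : G) * f * (h : G)⁻¹ * f⁻¹ * z := by
  obtain ⟨hxE, m, hm⟩ := hx
  induction m using QuotientGroup.induction_on with
  | H f =>
    have hc : (h : G) * f * (h : G)⁻¹ * (f : G)⁻¹ ∈ E :=
      mul_mem (d.L.conj_mem h.2 f.2) (inv_mem f.2)
    rw [← d.mk_commutator h f hc] at hm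
    rcases d.mk_eq_iff.1 hm.symm with e | e
    · exact ⟨f, f.2, Or.inl e⟩
    · exact ⟨f, f.2, Or.inr e⟩

theorem move_fixed_A0 {x : MulAut (Bar E)} (hx : x ∈ R.A0) (m : Bar E) :
    x m * m ∈ fixed R.A0 := by
  rcases List.mem_cons.1 (show R.code x ∈ mI :: mK2 from hx) with h | h
  · rw [R.mat_inj (h.trans R.mat_one.symm), MulAut.one_apply, d.sq_bar]
    exact fun y _ => map_one y
  obtain ⟨v, hv, rfl⟩ := R.φ_surj m
  rw [R.apply, ← R.φ_xor]
  refine (R.fixed_A0 _).2 ⟨_, ?_, rfl⟩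
  have hgen : ∀ (l : List ℕ), (∀ u ∈ l, ap (R.code x) u ^^^ u ∈ sVec) →
      ∀ i, ap (R.code x) (ap l i) ^^^ ap l i ∈ sVec := by
    intro l
    induction l with
    | nil => intro _ i; simp [ap, ap_zero_right]; decide +kernel
    | cons a as ih =>
      intro hl i
      have h2 := ih (fun u hu => hl u (List.mem_cons_of_mem _ hu)) (i / 2)
      rw [ap, ap_xor]
      cases Nat.beq (i % 2) 1
      · simpa [ap_zero_right] using h2
      · have h1 := hl a (List.mem_cons_self ..)
        have := (List.all_eq_true.1 ((List.all_eq_true.1 sVec_closed) _ h1)) _ h2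
        simp only [List.contains_iff_mem] at this
        simpa [Nat.xor_assoc, Nat.xor_comm, Nat.xor_left_comm] using this
  rw [← ap_one v hv]
  refine hgen mI (fun u hu => ?_) v
  simpa using (List.all_eq_true.1 ((List.all_eq_true.1 move_S) _ h)) u hu

theorem moveSub_le_sHat {x : MulAut (Bar E)} (hx : x ∈ R.A0) : moveSub d x ≤ R.sHat := by
  rintro y ⟨hy, m, hm⟩
  exact ⟨hy, hm ▸ R.move_fixed_A0 hx m⟩

theorem E_normalizes {e t : G} (he : e ∈ E) (ht : t ∈ R.V0) : e * t * e⁻¹ ∈ R.V0 := by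
  obtain ⟨htH, ht1, -⟩ := id ht
  have hc : t * e * t⁻¹ * e⁻¹ ∈ E := mul_mem (d.L.conj_mem htH he) (inv_mem he)
  have hm := d.mk_commutator ⟨t, htH⟩ ⟨e, he⟩ hc
  have hs : t * e * t⁻¹ * e⁻¹ ∈ R.sHat := ⟨hc, by
    rw [hm]; exact R.move_fixed_A0 ht1 _⟩
  have := mul_mem (R.sHat_le_V0 (inv_mem hs)) ht
  convert this using 1
  group

namespace IsBase

variable (hu : R.IsBase u)
include hu

theorem el_A0 : d.ρ hu.el ∈ R.A0 := hu.mem.2.1

/-- The moved subgroup of the base. -/
abbrev rHat : Subgroup G := moveSub d (d.ρ hu.el)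

theorem rHat_comm {x e : G} (hx : x ∈ hu.rHat) (he : e ∈ E) (hue : u * e = e * u) :
    e * x = x * e := by
  obtain ⟨f, hf, hfx⟩ := exists_commutator hu.el hx
  change x = u * f * u⁻¹ * f⁻¹ ∨ x = u * f * u⁻¹ * f⁻¹ * z at hfx
  have hez : Commute e z := d.L.commute_z he
  have hc : Commute e (u * f * u⁻¹ * f⁻¹) := by
    rcases d.L.conj_cases he hf with h | h
    · exact ((((show Commute e u from hue.symm).mul_right h).mul_right
        (show Commute e u from hue.symm).inv_right).mul_right (Commute.inv_right h))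
    · have hzu : u * z = z * u := mem_centralizer_singleton_iff.1 hu.mem.1
      have heu : e * u * e⁻¹ = u := by rw [← hue, mul_inv_cancel_right]
      show e * _ = _ * e
      rw [← mul_inv_eq_iff_eq_mul]
      calc e * (u * f * u⁻¹ * f⁻¹) * e⁻¹
          = (e * u * e⁻¹) * (e * f * e⁻¹) * (e * u * e⁻¹)⁻¹ * (e * f * e⁻¹)⁻¹ := by group
        _ = u * (z * f) * u⁻¹ * (z * f)⁻¹ := by rw [heu, h]
        _ = (u * z) * f * u⁻¹ * f⁻¹ * z⁻¹ := by group
        _ = z * (u * f * u⁻¹ * f⁻¹) * z⁻¹ := by rw [hzu]; group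
        _ = u * f * u⁻¹ * f⁻¹ := by
          rw [← d.L.commute_z (mul_mem (d.L.conj_mem hu.mem.1 hf) (inv_mem hf)),
            mul_inv_cancel_right]
  rcases hfx with rfl | rfl
  · exact hc.eq
  · exact (hc.mul_right hez).eq

theorem mem_rHat_iff (x : E) :
    (x : G) ∈ hu.rHat ↔ ∃ v ∈ rVec, R.φ v = QuotientGroup.mk x := by
  constructor
  · rintro ⟨_, m, hm⟩
    obtain ⟨v, hv, rfl⟩ := R.φ_surj m
    rw [hu.apply, ← R.φ_xor] at hm
    exact ⟨_, by simpa using (List.all_eq_true.1 rVec_ok) v (List.mem_range.2 hv), hm.symm⟩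
  · rintro ⟨v, hv, hvx⟩
    obtain ⟨i, -, rfl⟩ := List.mem_map.1 hv
    have hgen : ∀ (l l' : List ℕ), l.length = l'.length →
        (∀ j < l.length, ap mA (l'.getD j 0) ^^^ l'.getD j 0 = l.getD j 0) →
        ∀ i, ap mA (ap l' i) ^^^ ap l' i = ap l i := by
      intro l
      induction l with
      | nil =>
        intro l' hl _ i
        cases l' with
        | nil => simp [ap, ap_zero_right]
        | cons => simp at hl
      | cons a as ih =>
        intro l' hl h i
        cases l' with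
        | nil => simp at hl
        | cons b bs =>
          have h2 := ih bs (by simpa using hl) (fun j hj => by simpa using h (j + 1) (by simpa using hj))
            (i / 2)
          have h1 := h 0 (by simp)
          simp only [List.getD_cons_zero] at h1
          rw [ap, ap, ap_xor, ← h2]
          cases Nat.beq (i % 2) 1
          · simp [ap_zero_right]
          · simp [← h1, Nat.xor_assoc, Nat.xor_comm, Nat.xor_left_comm]
    have he := hgen rBas rPre (by rw [rVec_pre.2.2.2.1, rVec_pre.2.2.2.2]) (fun j hj => by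
      rw [rVec_pre.2.2.2.1] at hj
      exact Nat.eq_of_beq_eq_true ((List.all_eq_true.1 rVec_pre.1) j (List.mem_range.2 hj))) i
    refine ⟨x.2, R.φ (ap rPre i), ?_⟩
    rw [hu.apply, ← R.φ_xor, he, hvx]

theorem card_rHat : Nat.card hu.rHat = 32 := by
  have hlt : ∀ v ∈ rVec, v < 4096 := fun v hv => by
    obtain ⟨i, -, rfl⟩ := List.mem_map.1 hv
    exact ap_lt (n := 12) (fun a ha => by simpa using (List.all_eq_true.1 rVec_pre.2.2.1) a ha) i
  let T : Set E := QuotientGroup.mk ⁻¹' (R.φ '' {v | v ∈ rVec})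
  have himg : Nat.card ↥(R.φ '' {v | v ∈ rVec}) = 16 := by
    rw [Nat.card_image_of_injOn (s := {v | v ∈ rVec})
        (fun a ha b hb h => R.φ_inj (hlt a ha) (hlt b hb) h), Set.coe_setOf,
      Nat.card_congr (Equiv.subtypeEquivRight fun v => (List.mem_toFinset (l := rVec)).symm),
      Nat.card_eq_finsetCard, List.toFinset_card_of_nodup rVec_nodup.1, rVec_nodup.2]
  have h1 : Nat.card T = 32 := by
    rw [Nat.card_congr (QuotientGroup.preimageMkEquivSubgroupProdSet (center ↥E) _),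
      Nat.card_prod, d.L.hext.2, himg]
  rw [← h1]
  exact Nat.card_congr
    { toFun := fun g => ⟨⟨g, g.2.1⟩, by
        obtain ⟨v, hv, hvg⟩ := (hu.mem_rHat_iff ⟨g, g.2.1⟩).1 g.2
        exact ⟨v, hv, hvg⟩⟩
      invFun := fun a => ⟨a.1, (hu.mem_rHat_iff a.1).2 a.2⟩
      left_inv := fun _ => rfl
      right_inv := fun _ => rfl }

/-- An element of `E` commuting with the centralizer of the base lies in the moved subgroup. -/
theorem mem_rHat_of_comm {e : G} (he : e ∈ E)
    (hc : ∀ x ∈ E, u * x = x * u → x * e = e * x) : e ∈ hu.rHat := by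
  set D := E ⊓ centralizer ({u} : Set G)
  have hmul := d.card_cent_mul (inf_le_left : D ≤ E)
  have hle : hu.rHat ≤ E ⊓ centralizer (D : Set G) := fun x hx =>
    ⟨moveSub_le _ hx, mem_centralizer_iff.2 fun y hy =>
      hu.rHat_comm hx hy.1 (mem_centralizer_singleton_iff.1 hy.2).symm⟩
  have hD := hu.card_cent
  have heq : hu.rHat = E ⊓ centralizer (D : Set G) := by
    refine Subgroup.eq_of_le_of_card_ge hle ?_
    rw [hu.card_rHat]
    have := (Nat.mul_le_mul hD le_rfl).trans hmul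
    change 512 * Nat.card ↥(E ⊓ centralizer (D : Set G)) ≤ _ at this
    omega
  rw [heq]
  exact ⟨he, mem_centralizer_iff.2 fun y hy => hc y hy.1 (mem_centralizer_singleton_iff.1 hy.2).symm⟩

theorem rHat_le_sHat : hu.rHat ≤ R.sHat := moveSub_le_sHat hu.el_A0

end IsBase

/-- Involutions of the linear part are conjugate to the base involution. -/
theorem exists_conj_code {e : ↥(centralizer ({z} : Set G)) →* MulAut ↥Cfsg.Spor.M22}
    (o : Outer z E P N e) {x : MulAut (Bar E)} (hx : x ∈ Outer.Y d) (h2 : x * x = 1) (h1 : x ≠ 1) :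
    ∃ c ∈ Outer.cP z P, R.code (d.ρ c * x * (d.ρ c)⁻¹) = mA := by
  have hp : IsPGroup 2 (Subgroup.zpowers x) := by
    rintro ⟨_, k, rfl⟩
    exact ⟨1, Subtype.ext (by
      rw [pow_one, SubmonoidClass.coe_pow, ← zpow_natCast (x ^ k), ← zpow_mul, mul_comm, zpow_mul,
        zpow_natCast, sq, h2, one_zpow, OneMemClass.coe_one])⟩
  obtain ⟨_, ⟨c₁, hc₁, rfl⟩, hconj⟩ := R.exists_conj_le_Q o (zpowers_le.2 hx) hp
  have hy := hconj x (mem_zpowers x)
  set y := d.ρ c₁ * x * (d.ρ c₁)⁻¹ with hyd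
  have hy2 : y * y = 1 := by rw [hyd, ← MulAut.conj_apply, ← map_mul, h2, map_one]
  have hy1 : y ≠ 1 := by rw [hyd]; exact fun h => h1 (conj_eq_one_iff.1 h)
  have hm := R.mem_mInv hy hy2 hy1
  obtain ⟨i, hi, hie⟩ := List.getElem_of_mem hm
  have hlen : mInv.length = 35 := by decide +kernel
  have h := (List.all_eq_true.1 inv_conj) i (List.mem_range.2 (hlen ▸ hi))
  rw [List.getD_eq_getElem (l := mInv) (hn := hi), hie, beq_iff_eq] at h
  set c₂ := R.word (invWords.getD i [])
  refine ⟨c₂ * c₁, mul_mem (R.word_mem _) hc₁, ?_⟩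
  have hA : mA ∈ mQ := by simpa using (List.all_eq_true.1 k2_sub) _ a_mem
  obtain ⟨j, hj, hjA⟩ := List.getElem_of_mem hA
  obtain ⟨w, hw⟩ := R.exists_of_mem_mQ j (q_len ▸ hj)
  rw [List.getD_eq_getElem (hn := hj), hjA] at hw
  clear_value y
  have e1 : d.ρ c₂ * y = d.ρ (R.word w) * d.ρ c₂ := R.mat_inj (by
    rw [R.mat_mul, R.mat_mul, R.mat_word, hw, h])
  have e2 : d.ρ (c₂ * c₁) * x * (d.ρ (c₂ * c₁))⁻¹ = d.ρ (R.word w) := by
    rw [map_mul, mul_inv_rev,
      show d.ρ c₂ * d.ρ c₁ * x * ((d.ρ c₁)⁻¹ * (d.ρ c₂)⁻¹) = d.ρ c₂ * y * (d.ρ c₂)⁻¹ by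
        rw [hyd]; group,
      e1, mul_inv_cancel_right]
  rw [e2, hw]

end Real

/-- Two elements of `V₀` conjugate in `G` are conjugate in its normaliser. -/
theorem Real.exists_normalizer_conj {e : ↥(centralizer ({z} : Set G)) →* MulAut ↥Cfsg.Spor.M22}
    (o : Outer z E P N e) {P' : Subgroup G} (hJ : Cfsg.IsOfJankoFourTypeWith z P') {x y : G}
    (hx : x ∈ R.V0) (hy : y ∈ R.V0) {g : G} (hg : g * x * g⁻¹ = y) :
    ∃ n ∈ normalizer (R.V0 : Set G), n * x * n⁻¹ = y := by
  haveI : Fact (Nat.Prime 2) := ⟨Nat.prime_two⟩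
  have hcomm : ∀ a ∈ R.V0, ∀ b ∈ R.V0, a * b = b * a := fun a ha b hb =>
    congrArg Subtype.val (R.V0_elementary.1.is_comm.comm ⟨a, ha⟩ ⟨b, hb⟩)
  set C := centralizer ({y} : Set G)
  set V' := R.V0.map (MulAut.conj g).toMonoidHom
  have hV : R.V0 ≤ C := fun a ha => mem_centralizer_singleton_iff.2 (hcomm a ha y hy)
  have hV' : V' ≤ C := by
    rintro _ ⟨a, ha, rfl⟩
    refine mem_centralizer_singleton_iff.2 ?_
    show g * a * g⁻¹ * y = y * (g * a * g⁻¹)
    rw [← hg, ← MulAut.conj_apply, ← MulAut.conj_apply, ← map_mul, ← map_mul, hcomm a ha x hx]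
  have hp : IsPGroup 2 R.V0 := IsPGroup.of_card (n := 11) R.card_V0
  obtain ⟨S, hS⟩ := (hp.of_equiv (subgroupOfEquivOfLe hV).symm :
    IsPGroup 2 (R.V0.subgroupOf C)).exists_le_sylow
  obtain ⟨S', hS'⟩ := ((hp.map (MulAut.conj g).toMonoidHom).of_equiv (subgroupOfEquivOfLe hV').symm :
    IsPGroup 2 (V'.subgroupOf C)).exists_le_sylow
  obtain ⟨c, hc⟩ := MulAction.exists_smul_eq C S' S
  set n := (c : G) * g with hn
  have hnV : ∀ a ∈ R.V0, n * a * n⁻¹ ∈ (S : Subgroup C).map C.subtype := by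
    intro a ha
    have h1 : (⟨g * a * g⁻¹, hV' ⟨a, ha, rfl⟩⟩ : C) ∈ (S' : Subgroup C) :=
      hS' (mem_subgroupOf.2 ⟨a, ha, rfl⟩)
    have h2 : MulAut.conj c ⟨g * a * g⁻¹, hV' ⟨a, ha, rfl⟩⟩ ∈ ((c • S' : Sylow 2 C) : Subgroup C) :=
      Subgroup.smul_mem_pointwise_smul _ (MulAut.conj c) _ h1
    rw [hc] at h2
    refine ⟨_, h2, ?_⟩
    show (c : G) * (g * a * g⁻¹) * (c : G)⁻¹ = n * a * n⁻¹
    rw [hn]; group
  obtain ⟨T, hT⟩ := (S.isPGroup'.map C.subtype).exists_le_sylow
  obtain ⟨V, -, huniq⟩ := sylow_unique_elementary hJ T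
  set W := R.V0.map (MulAut.conj n).toMonoidHom
  have hW : W = R.V0 := by
    have h1 : R.V0 = V := huniq _ ⟨fun a ha => hT ⟨⟨a, hV ha⟩, hS (mem_subgroupOf.2 ha), rfl⟩,
      R.V0_elementary, R.card_V0⟩
    have h2 : W = V := by
      refine huniq _ ⟨?_, ⟨⟨⟨?_⟩⟩, ?_⟩, ?_⟩
      · rintro _ ⟨a, ha, rfl⟩
        exact hT (hnV a ha)
      · rintro ⟨_, a, ha, rfl⟩ ⟨_, b, hb, rfl⟩
        refine Subtype.ext ?_
        show (MulAut.conj n).toMonoidHom a * (MulAut.conj n).toMonoidHom b = _ * _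
        rw [← map_mul, ← map_mul, hcomm a ha b hb]
      · rintro _ ⟨a, ha, rfl⟩
        rw [← map_pow, R.V0_elementary.2 a ha, map_one]
      · rw [Nat.card_congr (R.V0.equivMapOfInjective _ (MulAut.conj n).injective).toEquiv.symm,
          R.card_V0]
    rw [h2, h1]
  refine ⟨n, ?_, ?_⟩
  · refine Subgroup.mem_normalizer_iff.2 fun a => ⟨fun ha => hW ▸ ⟨a, ha, rfl⟩, fun ha => ?_⟩
    obtain ⟨b, hb, hbe⟩ := (hW.symm ▸ ha : n * a * n⁻¹ ∈ W)
    exact (MulAut.conj n).injective hbe ▸ hb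
  · rw [hn, show (c : G) * g * x * ((c : G) * g)⁻¹ = c * (g * x * g⁻¹) * (c : G)⁻¹ by group, hg,
      mem_centralizer_singleton_iff.1 c.2, mul_inv_cancel_right]

end Cfsg.Agent.H69.J4
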