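import Cfsg.Agent.H69.J4.FusionOrbit

/-!
The normaliser of the elementary group of order `2 ^ 11` fuses `z` with an element over the base involution.
-/

set_option autoImplicit false
set_option maxRecDepth 20000

namespace Cfsg.Agent.H69.J4

open Subgroup

theorem sVec_perm : sVec.Perm (0 :: orb0 ++ orb1) := by
  rw [← List.isPerm_iff]; decide +kernel

theorem sVec_card : sVec.length = 64 ∧ sVec.Nodup := by decide +kernel

theorem rep_mem : [orb0, orb1].all (fun o => sVec.contains (o.getD 0 0)) = true := by decide +kernel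

theorem orbit_totals : ∀ a b : Fin 3,
    [131, 1459, 211, 743, 47, 761, 1531, 1549, 1567].any (fun p => (1441 + a.1 * 18 + b.1 * 45) % p == 0) = true := by
  decide +kernel

theorem small_powers : ∀ p ∈ [131, 1459, 211, 743, 47, 761, 1531, 1549, 1567], ∀ i < 11,
    (2 ^ 11 % p ≠ 2 ^ i % p) := by decide +kernel

theorem big_primes : ∀ p ∈ [131, 1459, 211, 743, 47, 761, 1531, 1549, 1567],
    2 ^ 13 * (3 * 887040) % p ≠ 0 := by decide +kernel

theorem big_primes_prime : ∀ p ∈ [131, 1459, 211, 743, 47, 761, 1531, 1549, 1567], p.Prime := by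
  intro p hp
  simp only [List.mem_cons, List.not_mem_nil, or_false] at hp
  rcases hp with rfl | rfl | rfl | rfl | rfl | rfl | rfl | rfl | rfl <;> norm_num

variable {G : Type*} [Group G] [Finite G]
variable {z : G} {E P N : Subgroup G} {d : Data z E P}
variable {e : ↥(centralizer ({z} : Set G)) →* MulAut ↥Cfsg.Spor.M22}

/-- The order of `H`. -/
theorem card_H (o : Outer z E P N e) (d : Data z E P) :
    Nat.card ↥(centralizer ({z} : Set G)) = 2 ^ 13 * (3 * 887040) := by
  rw [← Subgroup.card_mul_index d.ρ.ker, Subgroup.index_ker, o.card_range d, d.ker_eq,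
    Nat.card_congr (subgroupOfEquivOfLe d.L.le_H).toEquiv, d.cardE]

namespace Real

variable (R : Real d)

/-- The elements of a set lying over a vector. -/
noncomputable def cnt (R : Real d) (X : Set G) (v : ℕ) : ℕ :=
  Nat.card {a : E // (a : G) ∈ X ∧ R.φ v = QuotientGroup.mk a}

theorem cnt_apply {X : Set G} (hX : ∀ k ∈ R.Gam, ∀ x ∈ X, k * x * k⁻¹ ∈ X) {w : List ℕ}
    (hw : w ∈ [3] :: nWords) {v : ℕ} : R.cnt X (ap (evalM w) v) = R.cnt X v := by
  let T : ℕ → Type _ := fun v => {a : E // (a : G) ∈ X ∧ R.φ v = QuotientGroup.mk a}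
  let e : T v ≃ T (ap (evalM w) v) :=
    { toFun := fun a => ⟨⟨(R.word w : G) * a.1 * (R.word w : G)⁻¹, d.L.conj_mem (R.word w).2 a.1.2⟩,
        hX _ (R.word_mem_Gam' hw) _ a.2.1, by
          rw [← R.mat_word, ← R.apply]
          exact (congrArg (d.ρ (R.word w)) a.2.2).trans (d.ρ_mk _ _)⟩
      invFun := fun a => ⟨⟨(R.word w : G)⁻¹ * a.1 * R.word w,
          by simpa using d.L.conj_mem (inv_mem (R.word w).2) a.1.2⟩,
        by simpa using hX _ (inv_mem (R.word_mem_Gam' hw)) _ a.2.1, by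
          refine (d.ρ (R.word w)).injective ?_
          rw [R.apply, R.mat_word, d.ρ_mk]
          refine a.2.2.trans (congrArg QuotientGroup.mk (Subtype.ext ?_))
          show (a.1 : G) = (R.word w : G) * ((R.word w : G)⁻¹ * a.1 * R.word w) * (R.word w : G)⁻¹
          group⟩
      left_inv := fun a => Subtype.ext (Subtype.ext (by simp [mul_assoc]))
      right_inv := fun a => Subtype.ext (Subtype.ext (by simp [mul_assoc])) }
  exact (Nat.card_congr e).symm

theorem cnt_const {X : Set G} (hX : ∀ k ∈ R.Gam, ∀ x ∈ X, k * x * k⁻¹ ∈ X) {o : List ℕ}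
    (ho : o ∈ [orb0, orb1]) : ∀ v ∈ o, R.cnt X v = R.cnt X (o.getD 0 0) := by
  intro v hv
  obtain ⟨j, hj, rfl⟩ := List.getElem_of_mem hv
  rw [← List.getD_eq_getElem (d := 0)]
  induction j using Nat.strong_induction_on with
  | _ j ih =>
    rcases Nat.eq_zero_or_pos j with rfl | hp
    · rfl
    · have h := (List.all_eq_true.1 ((List.all_eq_true.1 orb_ok) o ho)) (j - 1)
        (List.mem_range.2 (by omega))
      rw [show j - 1 + 1 = j by omega] at h
      obtain ⟨i, hi, h⟩ := List.any_eq_true.1 h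
      obtain ⟨g, hg, h⟩ := List.any_eq_true.1 h
      have hij : i < j := List.mem_range.1 hi
      rw [← Nat.eq_of_beq_eq_true h, R.cnt_apply hX hg]
      exact ih i hij (hij.trans hj) (List.getElem_mem _)

theorem cnt_le_two (X : Set G) (v : ℕ) : R.cnt X v ≤ 2 := by
  classical
  by_cases hne : Nonempty {a : E // (a : G) ∈ X ∧ R.φ v = QuotientGroup.mk a}
  · obtain ⟨a₀⟩ := hne
    let f : {a : E // (a : G) ∈ X ∧ R.φ v = QuotientGroup.mk a} → Bool :=
      fun a => decide ((a.1 : G) = a₀.1)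
    have hf : Function.Injective f := by
      intro a b h
      have ha := d.mk_eq_iff.1 (a₀.2.2.symm.trans a.2.2)
      have hb := d.mk_eq_iff.1 (a₀.2.2.symm.trans b.2.2)
      refine Subtype.ext (Subtype.ext ?_)
      simp only [f, decide_eq_decide] at h
      by_cases hab : (a.1 : G) = a₀.1
      · rw [hab, h.1 hab]
      · rw [ha.resolve_left hab, hb.resolve_left fun hb' => hab (h.2 hb')]
    exact (Nat.card_le_card_of_injective f hf).trans (le_of_eq (by simp))
  · haveI := not_nonempty_iff.1 hne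
    rw [cnt, Nat.card_of_isEmpty]
    omega

/-- A set in the fixed part is counted through its two orbit representatives. -/
theorem card_sHat_set {X : Set G} (hX : ∀ k ∈ R.Gam, ∀ x ∈ X, k * x * k⁻¹ ∈ X)
    (hsub : ∀ x ∈ X, x ∈ R.sHat) : Nat.card X = R.cnt X 0 + orb0.length * R.cnt X (orb0.getD 0 0) +
      orb1.length * R.cnt X (orb1.getD 0 0) := by
  classical
  let S := sVec.toFinset
  let F : (Σ v : {v // v ∈ S}, {a : E // (a : G) ∈ X ∧ R.φ v.1 = QuotientGroup.mk a}) → X :=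
    fun p => ⟨p.2.1, p.2.2.1⟩
  have hlt : ∀ v ∈ S, v < 4096 := fun v hv => by
    simpa using (List.all_eq_true.1 sVec_lt) v (List.mem_toFinset.1 hv)
  have hF : Function.Bijective F := by
    constructor
    · rintro ⟨⟨v, hv⟩, a⟩ ⟨⟨w, hw⟩, b⟩ h
      have hab : a.1 = b.1 := Subtype.ext (congrArg (fun x : X => (x : G)) h)
      have hvw : v = w := R.φ_inj (hlt v hv) (hlt w hw) (by rw [a.2.2, b.2.2, hab])
      subst hvw
      rw [show a = b from Subtype.ext hab]
    · rintro ⟨x, hx⟩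
      obtain ⟨hxE, hxf⟩ := hsub x hx
      obtain ⟨v, hv, hvx⟩ := (R.fixed_A0 _).1 hxf
      exact ⟨⟨⟨v, List.mem_toFinset.2 hv⟩, ⟨⟨x, hxE⟩, hx, hvx⟩⟩, rfl⟩
  rw [← Nat.card_congr (Equiv.ofBijective F hF), Nat.card_sigma]
  show ∑ v : {v // v ∈ S}, R.cnt X v.1 = _
  rw [Finset.sum_coe_sort S (fun v => R.cnt X v), List.sum_toFinset _ sVec_card.2,
    List.Perm.sum_eq (sVec_perm.map _)]
  have h0 := List.map_congr_left (f := R.cnt X) (g := fun _ => R.cnt X (orb0.getD 0 0))
    (R.cnt_const hX (o := orb0) (List.mem_cons_self ..))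
  have h1 := List.map_congr_left (f := R.cnt X) (g := fun _ => R.cnt X (orb1.getD 0 0))
    (R.cnt_const hX (o := orb1) (List.mem_cons_of_mem _ (List.mem_cons_self ..)))
  rw [List.cons_append, List.map_cons, List.sum_cons, List.map_append, List.sum_append, h0, h1,
    List.map_const', List.map_const', List.sum_replicate, List.sum_replicate, smul_eq_mul, smul_eq_mul,
    add_assoc]

/-- A big enough invariant subset of the fixed part generates it. -/
theorem sHat_le_closure {X : Set G} (hX : ∀ k ∈ R.Gam, ∀ x ∈ X, k * x * k⁻¹ ∈ X)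
    (hsub : ∀ x ∈ X, x ∈ R.sHat) (hz : z ∈ X) {x : G} (hx : x ∈ X) (hx1 : x ≠ 1) (hxz : x ≠ z) :
    R.sHat ≤ Subgroup.closure X := by
  classical
  obtain ⟨hxE, hxf⟩ := hsub x hx
  obtain ⟨v, hv, hvx⟩ := (R.fixed_A0 _).1 hxf
  have hv0 : Nat.beq v 0 = false := by
    cases h0 : Nat.beq v 0
    · rfl
    · exfalso
      rw [Nat.eq_of_beq_eq_true h0, R.φ_zero] at hvx
      rcases (d.mk_eq_one).1 hvx.symm with h | h
      · exact hx1 h
      · exact hxz h
  have hcov := (List.all_eq_true.1 orb_cover) v hv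
  rw [hv0, Bool.false_or, Bool.or_eq_true, List.contains_iff_mem, List.contains_iff_mem] at hcov
  obtain ⟨o, ho, hvo⟩ : ∃ o ∈ [orb0, orb1], v ∈ o := by
    rcases hcov with h | h
    · exact ⟨orb0, List.mem_cons_self .., h⟩
    · exact ⟨orb1, List.mem_cons_of_mem _ (List.mem_cons_self ..), h⟩
  let Good : ℕ → Prop := fun w => ∀ a : E, R.φ w = QuotientGroup.mk a → (a : G) ∈ Subgroup.closure X
  have hzK : z ∈ Subgroup.closure X := Subgroup.subset_closure hz
  have hadj : ∀ {a b : E}, (QuotientGroup.mk a : Bar E) = QuotientGroup.mk b →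
      (a : G) ∈ Subgroup.closure X → (b : G) ∈ Subgroup.closure X := by
    intro a b hab ha
    rcases d.mk_eq_iff.1 hab with h | h
    · rwa [h]
    · rw [h]; exact mul_mem ha hzK
  have hg0 : Good 0 := fun a ha => hadj (a := 1) (by rw [← ha, R.φ_zero]; rfl) (one_mem _)
  have hgo : ∀ w ∈ o, Good w := by
    intro w hw a ha
    have h1 := R.cnt_const hX ho w hw
    rw [← R.cnt_const hX ho v hvo] at h1
    have hne : Nonempty {b : E // (b : G) ∈ X ∧ R.φ v = QuotientGroup.mk b} := ⟨⟨⟨x, hxE⟩, hx, hvx⟩⟩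
    have hpos : 0 < R.cnt X v := Nat.card_pos
    have : Nonempty {b : E // (b : G) ∈ X ∧ R.φ w = QuotientGroup.mk b} :=
      (Nat.card_pos_iff.1 (show 0 < R.cnt X w by omega)).1
    obtain ⟨⟨b, hb, hbw⟩⟩ := this
    exact hadj (hbw.symm.trans ha) (Subgroup.subset_closure hb)
  have hgx : ∀ {v w : ℕ}, Good v → Good w → Good (v ^^^ w) := by
    intro v w hv hw a ha
    obtain ⟨b, hb⟩ := QuotientGroup.mk_surjective (R.φ v)
    obtain ⟨c, hc⟩ := QuotientGroup.mk_surjective (R.φ w)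
    refine hadj (a := b * c) ?_ (mul_mem (hv b hb.symm) (hw c hc.symm))
    rw [QuotientGroup.mk_mul, hb, hc, ← R.φ_xor, ha]
  have hfold : ∀ (l acc : List ℕ), (∀ w ∈ l, Good w) → (∀ w ∈ acc, Good w) →
      ∀ w ∈ l.foldl (fun (acc : List ℕ) x => if acc.contains x then acc else acc ++ acc.map (x ^^^ ·)) acc,
        Good w := by
    intro l
    induction l with
    | nil => intro acc _ h; exact h
    | cons a as ih =>
      intro acc hl hacc
      rw [List.foldl_cons]
      refine ih _ (fun w hw => hl w (List.mem_cons_of_mem _ hw)) fun w hw => ?_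
      split_ifs at hw with hc
      · exact hacc w hw
      · rcases List.mem_append.1 hw with h | h
        · exact hacc w h
        · obtain ⟨b, hb, rfl⟩ := List.mem_map.1 h
          exact hgx (hl a (List.mem_cons_self ..)) (hacc b hb)
  intro s hs
  obtain ⟨hsE, hsf⟩ := hs
  obtain ⟨w, hw, hws⟩ := (R.fixed_A0 _).1 hsf
  have hm := (List.all_eq_true.1 ((List.all_eq_true.1 orb_span) o ho)) w hw
  rw [List.contains_iff_mem] at hm
  exact hfold o [0] hgo (fun t ht => by rw [List.mem_singleton.1 ht]; exact hg0) w hm ⟨s, hsE⟩ hws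

/-- The normaliser of `V₀` moving `z` does not normalise the fixed part. -/
theorem not_normalizes (o : Outer z E P N e) {n : G} (hn : n ∈ normalizer (R.V0 : Set G))
    (hnS : ∀ s ∈ R.sHat, n⁻¹ * s * n ∈ R.sHat) (hnS' : ∀ s ∈ R.sHat, n * s * n⁻¹ ∈ R.sHat) :
    n * z * n⁻¹ = z := by
  classical
  haveI := R.finite_aut
  by_contra hne
  set w : G := n * z * n⁻¹ with hw
  have hwS : w ∈ R.sHat := hnS' z R.z_mem_sHat
  set w' : G := n⁻¹ * z * n with hw'
  have hw'S : w' ∈ R.sHat := hnS z R.z_mem_sHat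
  set D' : Subgroup G := (E ⊓ centralizer ({w'} : Set G)).map (MulAut.conj n).toMonoidHom with hD'
  have hcard : 4096 ≤ Nat.card D' := by
    rw [hD', ← Nat.card_congr ((E ⊓ centralizer ({w'} : Set G)).equivMapOfInjective _
      (MulAut.conj n).injective).toEquiv]
    have h := card_le_two_mul E (centralizer ({w'} : Set G)) fun a ha b hb haC hbC => by
      have hwE := R.sHat_le hw'S
      have ha' := (d.L.conj_cases ha hwE).resolve_left fun h => haC (mem_centralizer_singleton_iff.2 h)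
      have hb' := (d.L.conj_cases hb hwE).resolve_left fun h => hbC (mem_centralizer_singleton_iff.2 h)
      refine mem_centralizer_singleton_iff.2 ?_
      rw [← mul_inv_eq_iff_eq_mul]
      calc a * b * w' * (a * b)⁻¹ = a * (b * w' * b⁻¹) * a⁻¹ := by group
        _ = (a * z * a⁻¹) * (a * w' * a⁻¹) := by rw [hb']; group
        _ = z * (z * w') := by rw [d.L.commute_z ha, mul_inv_cancel_right, ha']
        _ = w' := by rw [← mul_assoc, d.L.zz, one_mul]
    rw [d.cardE] at h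
    omega
  have hD'H : D' ≤ centralizer ({z} : Set G) := by
    rintro _ ⟨c, hc, rfl⟩
    refine mem_centralizer_singleton_iff.2 ?_
    show n * c * n⁻¹ * z = z * (n * c * n⁻¹)
    have h : c * w' = w' * c := mem_centralizer_singleton_iff.1 hc.2
    calc n * c * n⁻¹ * z = n * (c * (n⁻¹ * z * n)) * n⁻¹ := by group
      _ = n * ((n⁻¹ * z * n) * c) * n⁻¹ := by rw [← hw', h]
      _ = z * (n * c * n⁻¹) := by group
  have hmove : ∀ b ∈ D', ∀ s ∈ R.sHat, b * s * b⁻¹ = s ∨ b * s * b⁻¹ = w * s := by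
    rintro _ ⟨c, hc, rfl⟩ s hs
    show n * c * n⁻¹ * s * (n * c * n⁻¹)⁻¹ = s ∨ _ = _
    have he : n * c * n⁻¹ * s * (n * c * n⁻¹)⁻¹ = n * (c * (n⁻¹ * s * n) * c⁻¹) * n⁻¹ := by group
    rcases d.L.conj_cases hc.1 (R.sHat_le (hnS s hs)) with h | h
    · left
      rw [he, mul_inv_eq_iff_eq_mul.2 h]; group
    · right
      show n * c * n⁻¹ * s * (n * c * n⁻¹)⁻¹ = w * s
      rw [he, h, hw]; group
  have hsq : ∀ b ∈ D', b * b ∈ E := by
    rintro _ ⟨c, hc, rfl⟩
    rw [← map_mul]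
    rcases d.L.sq_cases hc.1 with h | h
    · rw [h, map_one]; exact one_mem E
    · rw [h]; exact R.sHat_le hwS
  let F : ↥D' →* MulAut (Bar E) := d.ρ.comp (Subgroup.inclusion hD'H)
  have hker : Nat.card F.ker ≤ 128 := by
    set A := D' ⊓ E
    have hA : ∀ a ∈ A, ∀ b ∈ A, a * b = b * a := by
      intro a ha b hb
      rcases d.L.conj_cases ha.2 hb.2 with h | h
      · exact h
      · exfalso
        obtain ⟨c, hc, hca⟩ := ha.1
        obtain ⟨c', hc', hcb⟩ := hb.1
        change n * c * n⁻¹ = a at hca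
        change n * c' * n⁻¹ = b at hcb
        rw [← hca, ← hcb] at h
        have h' : n * (c * c' * c⁻¹) * n⁻¹ = z * (n * c' * n⁻¹) := by rw [← h]; group
        rcases d.L.conj_cases hc.1 hc'.1 with e | e
        · rw [mul_inv_eq_iff_eq_mul.2 e] at h'
          exact d.L.z_mul_ne _ h'.symm
        · rw [e, show n * (z * c') * n⁻¹ = w * (n * c' * n⁻¹) by rw [hw]; group] at h'
          exact hne (mul_right_cancel h')
    refine le_trans (le_of_eq ?_) (d.abelian_bound (inf_le_right : A ≤ E) hA).1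
    exact Nat.card_congr
      { toFun := fun v => ⟨v.1.1, v.1.2, (d.mem_ker_iff).1 (MonoidHom.mem_ker.1 v.2)⟩
        invFun := fun v => ⟨⟨v.1, v.2.1⟩, MonoidHom.mem_ker.2 ((d.mem_ker_iff).2 v.2.2)⟩
        left_inv := fun _ => rfl
        right_inv := fun _ => rfl }
  have hrange : 32 ≤ Nat.card F.range := by
    rw [← Subgroup.index_ker]
    have h1 := Subgroup.card_mul_index F.ker
    have h2 := Nat.mul_le_mul hker (le_refl F.ker.index)
    omega
  have hexp : ∀ x ∈ F.range, x * x = 1 := by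
    rintro _ ⟨b, rfl⟩
    rw [← map_mul]
    exact (d.mem_ker_iff).2 (hsq b b.2)
  have hlin : F.range ≤ Outer.Y d := by
    rintro _ ⟨b, rfl⟩
    by_contra hb
    set σ := d.ρ (Subgroup.inclusion hD'H b)
    set μ : Bar E := QuotientGroup.mk (⟨w, R.sHat_le hwS⟩ : E)
    have hcases : ∀ m ∈ fixed R.A0, σ m = m ∨ σ m = μ * m := by
      intro m hm
      obtain ⟨a, rfl⟩ := QuotientGroup.mk_surjective m
      rcases hmove b b.2 a ⟨a.2, hm⟩ with h | h
      · left
        rw [d.ρ_mk]; exact congrArg QuotientGroup.mk (Subtype.ext h)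
      · right
        rw [d.ρ_mk, ← QuotientGroup.mk_mul]; exact congrArg QuotientGroup.mk (Subtype.ext h)
    have hfm : ∀ {x y : Bar E}, x ∈ fixed R.A0 → y ∈ fixed R.A0 → x * y ∈ fixed R.A0 :=
      fun hx hy a ha => by rw [map_mul, hx a ha, hy a ha]
    let X := {m : Bar E // m ∈ fixed R.A0 ∧ σ m = m}
    have hX : 32 ≤ Nat.card X := by
      by_cases hall : ∀ m ∈ fixed R.A0, σ m = m
      · have : Nat.card (fixed R.A0) ≤ Nat.card X := Nat.card_le_card_of_injective
          (fun m => (⟨m.1, m.2, hall _ m.2⟩ : X)) fun a b h => Subtype.ext (congrArg (fun x : X => x.1) h)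
        rw [R.card_fixed_A0] at this
        omega
      · push Not at hall
        obtain ⟨m₀, hm₀, hm₀'⟩ := hall
        have h0 : σ m₀ = μ * m₀ := (hcases m₀ hm₀).resolve_left hm₀'
        let f : fixed R.A0 → Bool × X := fun m => if h : σ m.1 = m.1 then (true, ⟨m.1, m.2, h⟩)
          else (false, ⟨m.1 * m₀, hfm m.2 hm₀, by
            rw [map_mul, (hcases _ m.2).resolve_left h, h0, d.comm_bar μ m.1, mul_assoc,
              ← mul_assoc μ μ, d.sq_bar, one_mul]⟩)
        have hf : Function.Injective f := by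
          intro p q hpq
          by_cases hp : σ p.1 = p.1 <;> by_cases hq : σ q.1 = q.1 <;> simp [f, hp, hq] at hpq
          · exact Subtype.ext (congrArg (fun x : X => x.1) hpq)
          · exact Subtype.ext (mul_right_cancel (congrArg (fun x : X => x.1) hpq))
        have := Nat.card_le_card_of_injective f hf
        rw [R.card_fixed_A0, Nat.card_prod, Nat.card_eq_fintype_card (α := Bool), Fintype.card_bool] at this
        omega
    let g : X × X → fixed R.A0 := fun p => ⟨p.1.1 * d.ρ (R.g 3) p.2.1,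
      hfm p.1.2.1 (R.fixed_apply R.normA0_g3 p.2.2.1)⟩
    have hg : Function.Injective g := by
      intro p q h
      have hinj := R.pair_injective o hb
      have := @hinj (⟨p.1.1, p.1.2.2⟩, ⟨p.2.1, p.2.2.2⟩)
        (⟨q.1.1, q.1.2.2⟩, ⟨q.2.1, q.2.2.2⟩) (congrArg (fun v : fixed R.A0 => (v : Bar E)) h)
      simp only [Prod.mk.injEq, Subtype.mk.injEq] at this
      exact Prod.ext (Subtype.ext this.1) (Subtype.ext this.2)
    have := Nat.card_le_card_of_injective g hg
    rw [R.card_fixed_A0, Nat.card_prod] at this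
    nlinarith
  have hp : IsPGroup 2 F.range := fun x => ⟨1, Subtype.ext (by
    show (x : MulAut (Bar E)) ^ 2 ^ 1 = 1
    rw [pow_one, sq]; exact hexp x x.2)⟩
  obtain ⟨y, -, hy⟩ := R.exists_conj_le_Q o hlin hp
  set B := F.range.map (MulAut.conj y).toMonoidHom
  have hB : Nat.card B = Nat.card F.range :=
    (Nat.card_congr (F.range.equivMapOfInjective _ (MulAut.conj y).injective).toEquiv).symm
  have h16 := (R.elementary_lists (B := B) (by rintro _ ⟨x, hx, rfl⟩; exact hy x hx)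
    (by rintro _ ⟨x, hx, rfl⟩; rw [← map_mul, hexp x hx, map_one]) (by omega)).1
  omega

/-- The fusion: in the normaliser of `V₀` some element over the base goes to `z`, and `z` leaves `E`. -/
theorem exists_base_fusion [IsSimpleGroup G] (hG : ¬ IsMulCommutative G) {P' : Subgroup G}
    (hJ : Cfsg.IsOfJankoFourTypeWith z P') (o : Outer z E P N e) {u : G} (hu : R.IsBase u) :
    ∃ u', (u' = u ∨ u' = u * z) ∧ ∃ g ∈ normalizer (R.V0 : Set G),
      g * u' * g⁻¹ = z ∧ g * z * g⁻¹ ∈ R.V0 ∧ g * z * g⁻¹ ∉ E := by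
  classical
  obtain ⟨g₀, hg₀V, hg₀ne⟩ := R.exists_fused hG o
  obtain ⟨n, hn, hnz⟩ := R.exists_normalizer_conj o hJ (R.sHat_le_V0 R.z_mem_sHat) hg₀V rfl
  set O := conjOrbit (normalizer (R.V0 : Set G)) z with hO
  have hOV : ∀ x ∈ O, x ∈ R.V0 := by
    rintro _ ⟨k, hk, rfl⟩; exact R.conj_V0 hk (R.sHat_le_V0 R.z_mem_sHat)
  have hO1 : ∀ x ∈ O, x ≠ 1 := by
    rintro _ ⟨k, hk, rfl⟩ h; exact d.L.z_ne_one (conj_eq_one_iff.1 h)
  have hOG : ∀ k ∈ R.Gam, ∀ x ∈ O, k * x * k⁻¹ ∈ O := fun k hk x hx =>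
    conjOrbit_trans hx ⟨k, hk.1, rfl⟩
  have hzO : z ∈ O := mem_conjOrbit_self _ _
  by_cases hA : ∃ x ∈ O, x ∉ E ∧ R.AB x
  · obtain ⟨x, hxO, hxE, hxAB⟩ := hA
    obtain ⟨u', hu', hxu'⟩ : ∃ u', (u' = u ∨ u' = u * z) ∧ x ∈ conjOrbit R.Gam u' := by
      rcases hu.AB_rep o (hOV x hxO) hxE hxAB with h | h
      · exact ⟨u, Or.inl rfl, h⟩
      · exact ⟨u * z, Or.inr rfl, h⟩
    obtain ⟨k, hk, hku⟩ := conjOrbit_symm hxu'
    obtain ⟨m, hm, hmx⟩ : u' ∈ O := hku ▸ hOG k hk x hxO
    set g := m⁻¹ with hg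
    have hgN : g ∈ normalizer (R.V0 : Set G) := inv_mem hm
    have hgu : g * u' * g⁻¹ = z := by
      rw [← hmx]
      show m⁻¹ * (m * z * m⁻¹) * m⁻¹⁻¹ = z
      group
    have hz1 : g * z * g⁻¹ ∈ R.V0 := R.conj_V0 hgN (R.sHat_le_V0 R.z_mem_sHat)
    refine ⟨u', hu', g, hgN, hgu, hz1, fun hE => ?_⟩
    set z1 := g * z * g⁻¹ with hz1def
    have hst : Nat.card ↥(R.Gam ⊓ centralizer ({u'} : Set G)) =
        Nat.card ↥(R.Gam ⊓ centralizer ({z1} : Set G)) := by
      have key : ∀ k : G, k ∈ R.Gam ⊓ centralizer ({u'} : Set G) ↔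
          g * k * g⁻¹ ∈ R.Gam ⊓ centralizer ({z1} : Set G) := by
        intro k
        simp only [Subgroup.mem_inf, mem_centralizer_singleton_iff]
        have hN : k ∈ normalizer (R.V0 : Set G) ↔ g * k * g⁻¹ ∈ normalizer (R.V0 : Set G) :=
          ⟨fun h => mul_mem (mul_mem hgN h) (inv_mem hgN), fun h => by
            simpa [mul_assoc] using mul_mem (mul_mem (inv_mem hgN) h) hgN⟩
        have h1 : ∀ a b : G, g * a * g⁻¹ * (g * b * g⁻¹) = g * b * g⁻¹ * (g * a * g⁻¹) ↔ a * b = b * a :=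
          fun a b => by
            rw [← MulAut.conj_apply, ← MulAut.conj_apply, ← map_mul, ← map_mul, EmbeddingLike.apply_eq_iff_eq]
        have hu'' := h1 k u'
        rw [hgu] at hu''
        have hz'' := h1 k z
        rw [← hN, hu'', hz'']
        tauto
      exact Nat.card_congr
        { toFun := fun k => ⟨g * k * g⁻¹, (key k).1 k.2⟩
          invFun := fun k => ⟨g⁻¹ * k * g, (key _).2 (by simpa [mul_assoc] using k.2)⟩
          left_inv := fun k => Subtype.ext (by simp [mul_assoc])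
          right_inv := fun k => Subtype.ext (by simp [mul_assoc]) }
    have h1 := card_conjOrbit R.Gam u'
    rw [hst, ← card_conjOrbit R.Gam z1] at h1
    have h2 := hu.card_orbit o hu'
    rw [Nat.eq_of_mul_eq_mul_right Nat.card_pos h1] at h2
    have hzS := R.V0_E hz1 hE
    have h3 : Nat.card (conjOrbit R.Gam z1) ≤ Nat.card R.sHat :=
      Nat.card_le_card_of_injective
        (fun x => (⟨x.1, by obtain ⟨k, hk, hkx⟩ := x.2; rw [← hkx]; exact R.conj_sHat_Gam hk hzS⟩ : R.sHat))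
        fun a b h => Subtype.ext (congrArg (fun x : R.sHat => (x : G)) h)
    rw [R.card_sHat] at h3
    omega
  exfalso
  push Not at hA
  have hnO : ∀ x ∈ O, n * x * n⁻¹ ∈ O := fun x hx => conjOrbit_trans hx ⟨n, hn, rfl⟩
  by_cases hout : ∃ x ∈ O, x ∉ E
  swap
  · push Not at hout
    have hsub : ∀ x ∈ O, x ∈ R.sHat := fun x hx => R.V0_E (hOV x hx) (hout x hx)
    have hx : n * z * n⁻¹ ∈ O := ⟨n, hn, rfl⟩
    have hnne : n * z * n⁻¹ ≠ z := by rw [hnz]; exact hg₀ne
    have hle := R.sHat_le_closure hOG hsub hzO hx (hO1 _ hx) hnne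
    have hcl : Subgroup.closure O = R.sHat := le_antisymm ((Subgroup.closure_le _).2 hsub) hle
    have hinv : ∀ m ∈ normalizer (R.V0 : Set G), ∀ s ∈ R.sHat, m * s * m⁻¹ ∈ R.sHat := by
      intro m hm s hs
      rw [← hcl] at hs ⊢
      have : (Subgroup.closure O).map (MulAut.conj m).toMonoidHom ≤ Subgroup.closure O := by
        rw [MonoidHom.map_closure]
        refine Subgroup.closure_mono ?_
        rintro _ ⟨x, hx, rfl⟩
        exact conjOrbit_trans hx ⟨m, hm, rfl⟩
      exact this ⟨s, hs, rfl⟩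
    exact hnne (R.not_normalizes o hn (fun s hs => by simpa using hinv _ (inv_mem hn) s hs) (hinv n hn))
  obtain ⟨x₀, hx₀, hx₀E⟩ := hout
  set C := {t : G // t ∈ R.V0 ∧ t ∉ E ∧ ¬ R.AB t}
  have hC : ∀ t : G, t ∈ R.V0 → t ∉ E → ¬ R.AB t → t ∈ O := by
    intro t ht htE htA
    obtain ⟨s, hs, hst⟩ := hu.exists_rep ht htE
    obtain ⟨r, hr, hrx⟩ := hu.exists_rep (hOV x₀ hx₀) hx₀E
    have hnotr : ∀ {t s : G}, t ∈ conjOrbit R.Gam (u * s) → s ∈ R.sHat → ¬ R.AB t → s ∉ hu.rHat := by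
      rintro t s ⟨k, hk, rfl⟩ hs hA hsr
      exact hA (R.AB_conj o hk.2 ((hu.AB_iff hs).2 hsr))
    obtain ⟨k, hk, hkt⟩ := conjOrbit_trans (conjOrbit_trans (conjOrbit_symm hrx)
      (hu.conj_outer hr hs (hnotr hrx hr (hA x₀ hx₀ hx₀E)) (hnotr hst hs htA))) hst
    exact hkt ▸ hOG k hk x₀ hx₀
  set X := {x | x ∈ O ∧ x ∈ E}
  have hXG : ∀ k ∈ R.Gam, ∀ x ∈ X, k * x * k⁻¹ ∈ X := fun k hk x hx =>
    ⟨hOG k hk x hx.1, d.L.conj_mem hk.2 hx.2⟩
  have hXS : ∀ x ∈ X, x ∈ R.sHat := fun x hx => R.V0_E (hOV x hx.1) hx.2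
  have hcardO : Nat.card O = 1440 + Nat.card X := by
    rw [← (hu.card_parts o).2, ← Nat.card_congr (Equiv.sumCompl (fun x : O => (x : G) ∉ E)), Nat.card_sum]
    congr 1
    · exact Nat.card_congr
        { toFun := fun x => ⟨x.1.1, hOV _ x.1.2, x.2, hA _ x.1.2 x.2⟩
          invFun := fun t => ⟨⟨t.1, hC t.1 t.2.1 t.2.2.1 t.2.2.2⟩, t.2.2.1⟩
          left_inv := fun _ => rfl
          right_inv := fun _ => rfl }
    · exact Nat.card_congr
        { toFun := fun x => ⟨x.1.1, x.1.2, not_not.1 x.2⟩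
          invFun := fun t => ⟨⟨t.1, t.2.1⟩, not_not.2 t.2.2⟩
          left_inv := fun _ => rfl
          right_inv := fun _ => rfl }
  have hX0 : R.cnt X 0 = 1 := by
    have hu' : ∀ a : {a : E // (a : G) ∈ X ∧ R.φ 0 = QuotientGroup.mk a}, (a.1 : G) = z := fun a =>
      ((d.mk_eq_one).1 (a.2.2.symm.trans R.φ_zero)).resolve_left fun h => hO1 _ a.2.1.1 h
    haveI : Subsingleton {a : E // (a : G) ∈ X ∧ R.φ 0 = QuotientGroup.mk a} :=
      ⟨fun a b => Subtype.ext (Subtype.ext ((hu' a).trans (hu' b).symm))⟩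
    exact Nat.card_of_subsingleton ⟨⟨z, d.L.z_mem⟩, ⟨hzO, d.L.z_mem⟩, by
      rw [R.φ_zero, eq_comm, d.mk_eq_one]; exact Or.inr rfl⟩
  rw [R.card_sHat_set hXG hXS, hX0] at hcardO
  set c0 := R.cnt X (orb0.getD 0 0)
  set c1 := R.cnt X (orb1.getD 0 0)
  have hc0 : c0 < 3 := Nat.lt_succ_of_le (R.cnt_le_two X _)
  have hc1 : c1 < 3 := Nat.lt_succ_of_le (R.cnt_le_two X _)
  obtain ⟨a, b, hab⟩ : ∃ a b : Fin 3, Nat.card O = 1441 + a.1 * 18 + b.1 * 45 := by
    rcases orb_len.2.2 with h | h <;> simp only [List.cons.injEq, and_true] at h <;>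
      rw [h.1, h.2] at hcardO
    · exact ⟨⟨c0, hc0⟩, ⟨c1, hc1⟩, by show _ = 1441 + c0 * 18 + c1 * 45; omega⟩
    · exact ⟨⟨c1, hc1⟩, ⟨c0, hc0⟩, by show _ = 1441 + c1 * 18 + c0 * 45; omega⟩
  obtain ⟨p, hp, hdvd⟩ := List.any_eq_true.1 (orbit_totals a b)
  rw [beq_iff_eq, ← hab] at hdvd
  haveI : Fact p.Prime := ⟨big_primes_prime p hp⟩
  have hpN : p ∣ Nat.card ↥(normalizer (R.V0 : Set G)) := by
    rw [← card_conjOrbit (normalizer (R.V0 : Set G)) z]
    exact (Nat.dvd_of_mod_eq_zero hdvd).trans (Dvd.intro _ rfl)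
  obtain ⟨⟨b', hb'⟩, hbo⟩ := exists_prime_orderOf_dvd_card' p hpN
  rw [← Subgroup.orderOf_coe] at hbo
  change orderOf b' = p at hbo
  have hbp : IsPGroup p ↥(zpowers b') := IsPGroup.of_card (n := 1) (by rw [Nat.card_zpowers, hbo, pow_one])
  letI : MulAction ↥(zpowers b') R.V0 := MulAction.compHom R.V0
    ((Subgroup.normalizerMonoidHom R.V0).comp (Subgroup.inclusion (zpowers_le.2 hb')))
  have hmod := hbp.card_modEq_card_fixedPoints R.V0
  have hfix : Nat.card (MulAction.fixedPoints ↥(zpowers b') R.V0) =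
      Nat.card ↥(R.V0 ⊓ centralizer ({b'} : Set G)) := Nat.card_congr
    { toFun := fun v => ⟨v.1.1, v.1.2, by
        have h := congrArg (fun x : R.V0 => (x : G)) (v.2 ⟨b', mem_zpowers b'⟩)
        change b' * v.1.1 * b'⁻¹ = v.1.1 at h
        exact mem_centralizer_singleton_iff.2 (mul_inv_eq_iff_eq_mul.1 h).symm⟩
      invFun := fun v => ⟨⟨v.1, v.2.1⟩, fun m => by
        obtain ⟨_, k, rfl⟩ := m
        refine Subtype.ext ?_
        show b' ^ k * v.1 * (b' ^ k)⁻¹ = v.1
        have h : Commute b' v.1 := (mem_centralizer_singleton_iff.1 v.2.2).symm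
        rw [(h.zpow_left k).eq, mul_inv_cancel_right]⟩
      left_inv := fun _ => rfl
      right_inv := fun _ => rfl }
  haveI : Fact (Nat.Prime 2) := ⟨Nat.prime_two⟩
  obtain ⟨i, hi⟩ := ((IsPGroup.of_card (n := 11) R.card_V0).to_le
    (inf_le_left : R.V0 ⊓ centralizer ({b'} : Set G) ≤ R.V0)).exists_card_eq
  have hile : i ≤ 11 := by
    have := Subgroup.card_dvd_of_le (inf_le_left : R.V0 ⊓ centralizer ({b'} : Set G) ≤ R.V0)
    rw [hi, R.card_V0] at this
    exact (Nat.pow_dvd_pow_iff_le_right (by norm_num)).1 this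
  have hi11 : i = 11 := by
    by_contra hne
    rw [hfix, hi, R.card_V0] at hmod
    exact small_powers p hp i (by omega) hmod
  subst hi11
  have hVle : R.V0 ⊓ centralizer ({b'} : Set G) = R.V0 :=
    Subgroup.eq_of_le_of_card_ge inf_le_left (by rw [hi, R.card_V0])
  have hbH : b' ∈ centralizer ({z} : Set G) := mem_centralizer_singleton_iff.2
    (mem_centralizer_singleton_iff.1 ((hVle.symm.le (R.sHat_le_V0 R.z_mem_sHat)).2)).symm
  have hd : p ∣ Nat.card ↥(centralizer ({z} : Set G)) := by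
    rw [← hbo, ← Subgroup.orderOf_mk b' hbH]
    exact orderOf_dvd_natCard _
  rw [card_H o d] at hd
  exact big_primes p hp (Nat.mod_eq_zero_of_dvd hd)

end Real

end Cfsg.Agent.H69.J4
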