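import Cfsg.Agent.H69.J4.FusionConj

/-!
The orbits on the elementary group of order `2 ^ 11`: the fusion of `z` with the base involution.
-/

set_option autoImplicit false

namespace Cfsg.Agent.H69.J4

open Subgroup

variable {G : Type*} [Group G] [Finite G]
variable {z : G} {E P N : Subgroup G} {d : Data z E P}

/-- The conjugates of an element under a subgroup. -/
def conjOrbit (K : Subgroup G) (x : G) : Set G := {y | ∃ k ∈ K, k * x * k⁻¹ = y}

omit [Finite G] in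
theorem mem_conjOrbit_self (K : Subgroup G) (x : G) : x ∈ conjOrbit K x := ⟨1, one_mem K, by group⟩

omit [Finite G] in
theorem conjOrbit_trans {K : Subgroup G} {x y w : G} (h1 : y ∈ conjOrbit K x)
    (h2 : w ∈ conjOrbit K y) : w ∈ conjOrbit K x := by
  obtain ⟨k, hk, rfl⟩ := h1
  obtain ⟨l, hl, rfl⟩ := h2
  exact ⟨l * k, mul_mem hl hk, by group⟩

omit [Finite G] in
theorem conjOrbit_symm {K : Subgroup G} {x y : G} (h1 : y ∈ conjOrbit K x) : x ∈ conjOrbit K y := by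
  obtain ⟨k, hk, rfl⟩ := h1
  exact ⟨k⁻¹, inv_mem hk, by group⟩

/-- Orbit and stabiliser. -/
theorem card_conjOrbit (K : Subgroup G) (x : G) :
    Nat.card (conjOrbit K x) * Nat.card ↥(K ⊓ centralizer ({x} : Set G)) = Nat.card K := by
  classical
  let S : Subgroup K := (centralizer ({x} : Set G)).subgroupOf K
  have hS : ∀ a b : K, QuotientGroup.leftRel S a b ↔
      (a : G) * x * (a : G)⁻¹ = (b : G) * x * (b : G)⁻¹ := by
    intro a b
    rw [QuotientGroup.leftRel_apply, mem_subgroupOf, mem_centralizer_singleton_iff]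
    show (a : G)⁻¹ * b * x = x * ((a : G)⁻¹ * b) ↔ _
    constructor
    · intro h
      calc (a : G) * x * (a : G)⁻¹ = a * (x * ((a : G)⁻¹ * b)) * (b : G)⁻¹ := by group
        _ = a * ((a : G)⁻¹ * b * x) * (b : G)⁻¹ := by rw [h]
        _ = (b : G) * x * (b : G)⁻¹ := by group
    · intro h
      calc (a : G)⁻¹ * b * x = (a : G)⁻¹ * ((b : G) * x * (b : G)⁻¹) * b := by group
        _ = (a : G)⁻¹ * ((a : G) * x * (a : G)⁻¹) * b := by rw [h]
        _ = x * ((a : G)⁻¹ * b) := by group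
  let f : K ⧸ S → conjOrbit K x := Quotient.lift
    (fun a : K => (⟨(a : G) * x * (a : G)⁻¹, a, a.2, rfl⟩ : conjOrbit K x))
    (fun a b h => Subtype.ext ((hS a b).1 h))
  have hf : Function.Bijective f := by
    constructor
    · intro p q
      induction p using Quotient.inductionOn with
      | h a =>
        induction q using Quotient.inductionOn with
        | h b =>
          intro h
          exact Quotient.sound ((hS a b).2 (congrArg Subtype.val h))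
    · rintro ⟨_, a, ha, rfl⟩
      exact ⟨Quotient.mk'' ⟨a, ha⟩, rfl⟩
  have hSc : Nat.card S = Nat.card ↥(K ⊓ centralizer ({x} : Set G)) := Nat.card_congr
    { toFun := fun a => ⟨a.1.1, a.1.2, mem_subgroupOf.1 a.2⟩
      invFun := fun a => ⟨⟨a.1, a.2.1⟩, mem_subgroupOf.2 a.2.2⟩
      left_inv := fun _ => rfl
      right_inv := fun _ => rfl }
  rw [← Nat.card_congr (Equiv.ofBijective f hf), ← hSc]
  exact (Subgroup.card_eq_card_quotient_mul_card_subgroup S).symm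

namespace Real

variable (R : Real d)

/-- The part of the normaliser of `V₀` in `H`. -/
abbrev Gam : Subgroup G := normalizer (R.V0 : Set G) ⊓ centralizer ({z} : Set G)

theorem mem_normalizer_V0 {h : G} (hh : ∀ t ∈ R.V0, h * t * h⁻¹ ∈ R.V0) :
    h ∈ normalizer (R.V0 : Set G) := Subgroup.mem_normalizer_fintype hh

theorem E_le_Gam : E ≤ R.Gam := fun _ hx =>
  ⟨R.mem_normalizer_V0 fun _ ht => R.E_normalizes hx ht, d.L.le_H hx⟩

theorem g3_mem_Gam : (R.g 3 : G) ∈ R.Gam :=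
  ⟨R.mem_normalizer_V0 fun _ ht => R.conj_mem_V0 R.normA0_g3 R.g3_maps ht, (R.g 3).2⟩

theorem word_mem_Gam {w : List ℕ} (hw : w ∈ nWords) : (R.word w : G) ∈ R.Gam := by
  have hn := R.normA0_word hw
  have hm : ∀ x ∈ R.A0, d.ρ (R.word w)⁻¹ * x * (d.ρ (R.word w)⁻¹)⁻¹ ∈ R.A0 := fun x hx => by
    rw [map_inv, inv_inv]; exact hn x hx
  have h1 : (((R.word w)⁻¹ : centralizer ({z} : Set G)) : G) ∈ normalizer (R.V0 : Set G) :=
    R.mem_normalizer_V0 fun _ ht => R.conj_mem_V0 (R.normA0_of_maps hm) hm ht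
  refine ⟨?_, (R.word w).2⟩
  have h2 := inv_mem h1
  rwa [Subgroup.coe_inv, inv_inv] at h2

theorem word_mem_Gam' {w : List ℕ} (hw : w ∈ [3] :: nWords) : (R.word w : G) ∈ R.Gam := by
  rcases List.mem_cons.1 hw with rfl | h
  · show ((R.g 3 * R.word [] : centralizer ({z} : Set G)) : G) ∈ R.Gam
    rw [show R.word [] = 1 from rfl, mul_one]
    exact R.g3_mem_Gam
  · exact R.word_mem_Gam h

theorem conj_V0 {k t : G} (hk : k ∈ normalizer (R.V0 : Set G)) (ht : t ∈ R.V0) :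
    k * t * k⁻¹ ∈ R.V0 := (mem_normalizer_iff.1 hk t).1 ht

theorem conj_E (d : Data z E P) {k t : G} (hk : k ∈ centralizer ({z} : Set G)) : k * t * k⁻¹ ∈ E ↔ t ∈ E := by
  refine ⟨fun h => ?_, d.L.conj_mem hk⟩
  have := d.L.conj_mem (inv_mem hk) h
  simpa [mul_assoc] using this

theorem conj_z {k : G} (hk : k ∈ centralizer ({z} : Set G)) : k * z * k⁻¹ = z := by
  rw [mem_centralizer_singleton_iff.1 hk, mul_inv_cancel_right]

theorem conj_sHat_Gam {k s : G} (hk : k ∈ R.Gam) (hs : s ∈ R.sHat) : k * s * k⁻¹ ∈ R.sHat :=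
  R.V0_E (R.conj_V0 hk.1 (R.sHat_le_V0 hs)) (d.L.conj_mem hk.2 (R.sHat_le hs))

theorem conj_mul_z {k t : G} (hk : k ∈ centralizer ({z} : Set G)) :
    k * (t * z) * k⁻¹ = k * t * k⁻¹ * z := by
  conv_rhs => rw [← conj_z (z := z) hk]
  group

theorem g3_ne_one : (R.g 3 : G) ≠ 1 := fun h => R.w_ne (by
  rw [show R.g 3 = 1 from Subtype.ext h, map_one, mul_one])

/-- Being conjugate under `E` to an element commuting with `P`. -/
def AB (R : Real d) (x : G) : Prop := ∃ f ∈ E, f * x * f⁻¹ * R.g 3 = R.g 3 * (f * x * f⁻¹)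

theorem AB_conj {e : ↥(centralizer ({z} : Set G)) →* MulAut ↥Cfsg.Spor.M22} (o : Outer z E P N e)
    {h x : G} (hh : h ∈ centralizer ({z} : Set G)) (hx : R.AB x) : R.AB (h * x * h⁻¹) := by
  obtain ⟨f, hf, hfx⟩ := hx
  obtain ⟨a, ha, hn⟩ := o.frattini d ⟨h, hh⟩
  set n : G := a⁻¹ * h with hndef
  have hha : h = a * n := by rw [hndef, mul_inv_cancel_left]
  have hnH : n ∈ centralizer ({z} : Set G) := mul_mem (inv_mem (d.L.le_H ha)) hh
  refine ⟨n * f * n⁻¹ * a⁻¹, mul_mem (d.L.conj_mem hnH hf) (inv_mem ha), ?_⟩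
  set y : G := f * x * f⁻¹
  have hy : n * f * n⁻¹ * a⁻¹ * (h * x * h⁻¹) * (n * f * n⁻¹ * a⁻¹)⁻¹ = n * y * n⁻¹ := by
    show _ = n * (f * x * f⁻¹) * n⁻¹
    rw [hha]; group
  rw [hy]
  have hc : n * y * n⁻¹ * (n * R.g 3 * n⁻¹) = n * R.g 3 * n⁻¹ * (n * y * n⁻¹) := by
    calc n * y * n⁻¹ * (n * R.g 3 * n⁻¹) = n * (y * R.g 3) * n⁻¹ := by group
      _ = n * (R.g 3 * y) * n⁻¹ := by rw [hfx]
      _ = _ := by group
  rcases R.g3_gen ((mem_normalizer_iff.1 hn (R.g 3 : G)).1 R.memP) with h1 | h1 | h1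
  · exact absurd (conj_eq_one_iff.1 h1) R.g3_ne_one
  · change n * R.g 3 * n⁻¹ = R.g 3 at h1
    rwa [h1] at hc
  · change n * R.g 3 * n⁻¹ = R.g 3 * R.g 3 at h1
    rw [h1] at hc
    have h4 : (R.g 3 : G) = (R.g 3 * R.g 3) * (R.g 3 * R.g 3) := by
      have := R.g3_pow
      calc (R.g 3 : G) = (R.g 3 * R.g 3 * R.g 3) * R.g 3 := by rw [this, one_mul]
        _ = _ := by group
    rw [h4]
    exact ((show Commute (n * y * n⁻¹) (R.g 3 * R.g 3 : G) from hc).mul_right hc).eq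

variable {R} {u : G} (hu : R.IsBase u)
include hu

theorem IsBase.mul_z : u * z = z * u := mem_centralizer_singleton_iff.1 hu.mem.1

/-- Elements of the moved subgroup come from conjugating the base. -/
theorem IsBase.conj_base {s : G} (hs : s ∈ hu.rHat) :
    ∃ f ∈ E, f * u * f⁻¹ = u * s ∨ f * u * f⁻¹ = u * s * z := by
  have hs2 : s * s = 1 := R.sHat_sq (hu.rHat_le_sHat hs)
  have hsi : s⁻¹ = s := inv_eq_of_mul_eq_one_right hs2
  obtain ⟨f, hf, hfs⟩ := exists_commutator hu.el hs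
  change s = u * f * u⁻¹ * f⁻¹ ∨ s = u * f * u⁻¹ * f⁻¹ * z at hfs
  have hus : u * s = s * u := congrArg Subtype.val (R.V0_elementary.1.is_comm.comm ⟨u, hu.mem⟩
    ⟨s, R.sHat_le_V0 (hu.rHat_le_sHat hs)⟩)
  refine ⟨f, hf, ?_⟩
  rcases hfs with h | h
  · left
    rw [hus, ← hsi, h]; group
  · right
    have h' : s * z = u * f * u⁻¹ * f⁻¹ := by rw [h, mul_assoc _ z z, d.L.zz, mul_one]
    have h'' : z * s = f * u * f⁻¹ * u⁻¹ := by
      rw [← inv_eq_of_mul_eq_one_right d.L.zz, ← hsi, ← mul_inv_rev, h']; group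
    calc f * u * f⁻¹ = (f * u * f⁻¹ * u⁻¹) * u := by group
      _ = z * (u * s) := by rw [← h'', mul_assoc, ← hus]
      _ = (z * u) * s := by group
      _ = u * (z * s) := by rw [← hu.mul_z, mul_assoc]
      _ = u * (s * z) := by rw [d.L.commute_z (moveSub_le _ hs)]
      _ = u * s * z := by group

theorem IsBase.AB_iff {s : G} (hs : s ∈ R.sHat) : R.AB (u * s) ↔ s ∈ hu.rHat := by
  constructor
  · rintro ⟨f, hf, hfs⟩
    set y := f * (u * s) * f⁻¹ with hy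
    have hyV : y ∈ R.V0 := R.E_normalizes hf (mul_mem hu.mem (R.sHat_le_V0 hs))
    have hk : u * y ∈ E := by
      rw [hy, show u * (f * (u * s) * f⁻¹) = (u * f * u⁻¹) * (u * u) * (s * f⁻¹) by group,
        R.V0_sq hu.mem, mul_one]
      exact mul_mem (d.L.conj_mem hu.mem.1 hf) (mul_mem (R.sHat_le hs) (inv_mem hf))
    have hkc : (R.g 3 : G) * (u * y) = u * y * R.g 3 :=
      ((show Commute (R.g 3 : G) u from hu.comm).mul_right hfs.symm).eq
    have hsy : s = u * (f⁻¹ * y * f) := by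
      rw [hy, show f⁻¹ * (f * (u * s) * f⁻¹) * f = u * s by group, ← mul_assoc, R.V0_sq hu.mem, one_mul]
    have hm : u * f⁻¹ * u⁻¹ * f ∈ hu.rHat := by
      have hc : (u : G) * f⁻¹ * u⁻¹ * (f⁻¹)⁻¹ ∈ E :=
        mul_mem (d.L.conj_mem hu.mem.1 (inv_mem hf)) (inv_mem (inv_mem hf))
      rw [show u * f⁻¹ * u⁻¹ * f = u * f⁻¹ * u⁻¹ * (f⁻¹)⁻¹ by rw [inv_inv]]
      exact ⟨hc, _, d.mk_commutator hu.el ⟨f⁻¹, inv_mem hf⟩ hc⟩
    rcases R.K_inter_E hkc hk with h | h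
    · have hyu : y = u⁻¹ := eq_inv_of_mul_eq_one_right h
      rw [hsy, hyu]
      simpa [mul_assoc] using hm
    · have hyu : y = u⁻¹ * z := by rw [← h, inv_mul_cancel_left]
      rw [hsy, hyu, show u * (f⁻¹ * (u⁻¹ * z) * f) = u * f⁻¹ * u⁻¹ * (z * f) by group,
        ← d.L.commute_z hf, ← mul_assoc]
      exact mul_mem hm (z_mem_moveSub _)
  · intro h
    obtain ⟨f, hf, hfs⟩ := hu.conj_base h
    refine ⟨f⁻¹, inv_mem hf, ?_⟩
    rcases hfs with e | e
    · rw [← e, show f⁻¹ * (f * u * f⁻¹) * f⁻¹⁻¹ = u by group]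
      exact hu.comm.symm
    · have e' : u * s = f * u * f⁻¹ * z := by rw [e, mul_assoc _ z z, d.L.zz, mul_one]
      rw [e', show f⁻¹ * (f * u * f⁻¹ * z) * f⁻¹⁻¹ = u * (f⁻¹ * (z * f)) by group, ← d.L.commute_z hf,
        inv_mul_cancel_left]
      exact ((show Commute u (R.g 3 : G) from hu.comm.symm).mul_left
        (show Commute z (R.g 3 : G) from (mem_centralizer_singleton_iff.1 (R.g 3).2).symm)).eq

theorem IsBase.exists_swap {s : G} (hs : s ∈ R.sHat) (hr : s ∉ hu.rHat) :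
    ∃ f ∈ E, f * (u * s) * f⁻¹ = u * (s * z) := by
  by_contra hne
  push Not at hne
  refine hr (hu.mem_rHat_of_comm (R.sHat_le hs) fun x hx hxu => ?_)
  rcases d.L.conj_cases hx (R.sHat_le hs) with h | h
  · exact h
  · exfalso
    refine hne x hx ?_
    have h1 : x * u * x⁻¹ = u := by rw [← hxu, mul_inv_cancel_right]
    calc x * (u * s) * x⁻¹ = (x * u * x⁻¹) * (x * s * x⁻¹) := by group
      _ = u * (z * s) := by rw [h1, h]
      _ = u * (s * z) := by rw [d.L.commute_z (R.sHat_le hs)]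

/-- The outer elements outside the first part are conjugate. -/
theorem IsBase.conj_outer {s t : G} (hs : s ∈ R.sHat) (ht : t ∈ R.sHat) (hsr : s ∉ hu.rHat)
    (htr : t ∉ hu.rHat) : u * t ∈ conjOrbit R.Gam (u * s) := by
  have hswap : ∀ {a : G}, a ∈ R.sHat → a ∉ hu.rHat → u * (a * z) ∈ conjOrbit R.Gam (u * a) := by
    intro a ha har
    obtain ⟨f, hf, he⟩ := hu.exists_swap ha har
    exact ⟨f, R.E_le_Gam hf, he⟩
  have hmove : ∀ {a x : G}, a ∈ R.sHat → a ∉ hu.rHat → x ∈ hu.rHat →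
      u * (a * x) ∈ conjOrbit R.Gam (u * a) := by
    intro a x ha har hx
    obtain ⟨f, hf, hfx⟩ := hu.conj_base hx
    have hax : a * x ∈ R.sHat := mul_mem ha (hu.rHat_le_sHat hx)
    have hxa : x * a = a * x := R.sHat_comm (hu.rHat_le_sHat hx) ha
    have haxr : a * x ∉ hu.rHat := fun h => har (by simpa using mul_mem h (inv_mem hx))
    have hfa : f * a * f⁻¹ = a ∨ f * a * f⁻¹ = z * a :=
      (d.L.conj_cases hf (R.sHat_le ha)).imp_left fun h => mul_inv_eq_iff_eq_mul.2 h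
    have hz : z * a = a * z := (d.L.commute_z (R.sHat_le ha)).symm
    have hzx : z * x = x * z := (d.L.commute_z (moveSub_le _ hx)).symm
    have e : f * (u * a) * f⁻¹ = u * (a * x) ∨ f * (u * a) * f⁻¹ = u * (a * x * z) := by
      have e1 : f * (u * a) * f⁻¹ = (f * u * f⁻¹) * (f * a * f⁻¹) := by group
      rw [e1]
      rcases hfx with h | h <;> rcases hfa with h' | h' <;> rw [h, h']
      · left; rw [mul_assoc, hxa]
      · right; rw [mul_assoc, hz, ← mul_assoc x, hxa]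
      · right; rw [mul_assoc (u * x) z a, hz, mul_assoc u x, ← mul_assoc x a z, hxa]
      · left; rw [mul_assoc, ← mul_assoc z z, d.L.zz, one_mul, mul_assoc, hxa]
    rcases e with e | e
    · exact ⟨f, R.E_le_Gam hf, e⟩
    · refine conjOrbit_trans ⟨f, R.E_le_Gam hf, e⟩ ?_
      have h2 := hswap (mul_mem hax R.z_mem_sHat) fun h => haxr (by
        simpa using mul_mem h (inv_mem (z_mem_moveSub _)))
      rwa [mul_assoc (a * x) z z, d.L.zz, mul_one] at h2
  have hrot : ∀ {a : G}, a ∈ R.sHat → u * ((R.g 3 : G) * a * (R.g 3 : G)⁻¹) ∈ conjOrbit R.Gam (u * a) := by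
    intro a ha
    refine ⟨R.g 3, R.g3_mem_Gam, ?_⟩
    calc (R.g 3 : G) * (u * a) * (R.g 3 : G)⁻¹ = (R.g 3 * u) * a * (R.g 3 : G)⁻¹ := by group
      _ = _ := by rw [hu.comm]; group
  have hrot' : ∀ {a : G}, a ∈ R.sHat → a ∉ hu.rHat →
      (R.g 3 : G) * a * (R.g 3 : G)⁻¹ ∈ R.sHat ∧ (R.g 3 : G) * a * (R.g 3 : G)⁻¹ ∉ hu.rHat := by
    intro a ha har
    have hm := R.conj_sHat_Gam R.g3_mem_Gam ha
    refine ⟨hm, fun h => har ?_⟩
    rw [← hu.AB_iff ha]
    have h1 := (hu.AB_iff hm).2 h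
    obtain ⟨f, hf, hfc⟩ := h1
    set p : G := (R.g 3 : G)
    refine ⟨p⁻¹ * f * p, by simpa using d.L.conj_mem (inv_mem (R.g 3).2) hf, ?_⟩
    have e : p⁻¹ * f * p * (u * a) * (p⁻¹ * f * p)⁻¹ = p⁻¹ * (f * (u * (p * a * p⁻¹)) * f⁻¹) * p := by
      rw [show p⁻¹ * f * p * (u * a) * (p⁻¹ * f * p)⁻¹ = p⁻¹ * (f * ((p * u) * a * p⁻¹) * f⁻¹) * p by group,
        show p * u = u * p from hu.comm]
      group
    show _ * p = p * _
    rw [e]
    calc p⁻¹ * (f * (u * (p * a * p⁻¹)) * f⁻¹) * p * p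
        = p⁻¹ * ((f * (u * (p * a * p⁻¹)) * f⁻¹) * p) * p := by group
      _ = p⁻¹ * (p * (f * (u * (p * a * p⁻¹)) * f⁻¹)) * p := by rw [hfc]
      _ = _ := by group
  have hclass : ∀ {a b : G} {v w : ℕ} (ha : a ∈ E) (hb : b ∈ E),
      R.φ v = QuotientGroup.mk (⟨a, ha⟩ : E) → R.φ w = QuotientGroup.mk (⟨b, hb⟩ : E) →
      v ^^^ w ∈ rVec → a⁻¹ * b ∈ hu.rHat := by
    intro a b v w ha hb hv hw hvw
    refine (hu.mem_rHat_iff ⟨a⁻¹ * b, mul_mem (inv_mem ha) hb⟩).2 ⟨v ^^^ w, hvw, ?_⟩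
    rw [R.φ_xor, hv, hw, show (⟨a⁻¹ * b, mul_mem (inv_mem ha) hb⟩ : E) = (⟨a, ha⟩ : E)⁻¹ * ⟨b, hb⟩ from rfl,
      QuotientGroup.mk_mul, QuotientGroup.mk_inv, inv_eq_of_mul_eq_one_right (d.sq_bar _)]
  obtain ⟨v, hv, hvs⟩ := (R.fixed_A0 _).1 hs.2
  obtain ⟨w, hw, hwt⟩ := (R.fixed_A0 _).1 ht.2
  have hsE := hs.1
  have htE := ht.1
  have h := (List.all_eq_true.1 ((List.all_eq_true.1 three_cosets) v hv)) w hw
  simp only [Bool.or_eq_true, List.contains_iff_mem] at h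
  have hp : ∀ {a : G} (ha : a ∈ E) {v : ℕ}, R.φ v = QuotientGroup.mk (⟨a, ha⟩ : E) →
      R.φ (ap mW v) = QuotientGroup.mk
        (⟨(R.g 3 : G) * a * (R.g 3 : G)⁻¹, d.L.conj_mem (R.g 3).2 ha⟩ : E) := by
    intro a ha v hv
    rw [← d.ρ_mk (R.g 3) ⟨a, ha⟩, ← hv, R.apply, R.mat_letter]
    rfl
  rcases h with (((h | h) | h) | h) | h
  · exact absurd ((hu.mem_rHat_iff ⟨s, hsE⟩).2 ⟨v, h, hvs⟩) hsr
  · exact absurd ((hu.mem_rHat_iff ⟨t, htE⟩).2 ⟨w, h, hwt⟩) htr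
  · have := hmove hs hsr (hclass hsE htE hvs hwt h)
    rwa [mul_inv_cancel_left] at this
  · obtain ⟨h1, h2⟩ := hrot' hs hsr
    refine conjOrbit_trans (hrot hs) ?_
    have := hmove h1 h2 (hclass h1.1 htE (hp hsE hvs) hwt h)
    rwa [mul_inv_cancel_left] at this
  · obtain ⟨h1, h2⟩ := hrot' hs hsr
    obtain ⟨h3, h4⟩ := hrot' h1 h2
    refine conjOrbit_trans (conjOrbit_trans (hrot hs) (hrot h1)) ?_
    have := hmove h3 h4 (hclass h3.1 htE (hp h1.1 (hp hsE hvs)) hwt h)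
    rwa [mul_inv_cancel_left] at this

/-- Conjugating elements from the base to the fifteen classes. -/
theorem IsBase.exists_trans (i : Fin 15) :
    ∃ h : centralizer ({z} : Set G), (h : G) ∈ R.Gam ∧
      R.code (d.ρ h * d.ρ hu.el * (d.ρ h)⁻¹) = mK2.getD i [] := by
  obtain ⟨j, hj⟩ := i
  induction j using Nat.strong_induction_on with
  | _ j ih =>
    rcases Nat.eq_zero_or_pos j with rfl | hpos
    · refine ⟨1, one_mem _, ?_⟩
      rw [map_one, one_mul, inv_one, mul_one]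
      exact hu.code
    · have h := (List.all_eq_true.1 trans_K2) (j - 1) (List.mem_range.2 (by omega))
      rw [show j - 1 + 1 = j by omega] at h
      obtain ⟨i, hi, h⟩ := List.any_eq_true.1 h
      obtain ⟨w, hw, h⟩ := List.any_eq_true.1 h
      rw [beq_iff_eq] at h
      have hij : i < j := List.mem_range.1 hi
      obtain ⟨k, hk, hkc⟩ := ih i hij (hij.trans hj)
      refine ⟨R.word w * k, mul_mem (R.word_mem_Gam hw) hk, ?_⟩
      set x := d.ρ k * d.ρ hu.el * (d.ρ k)⁻¹ with hx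
      set y := d.ρ (R.word w) * x * (d.ρ (R.word w))⁻¹ with hy
      have hxy : d.ρ (R.word w * k) * d.ρ hu.el * (d.ρ (R.word w * k))⁻¹ = y := by
        rw [hy, hx, map_mul]; group
      rw [hxy]
      clear_value x y
      change R.code x = mK2.getD i [] at hkc
      show R.code y = mK2.getD j []
      have hjm : mK2.getD j [] ∈ mQ := by
        rw [List.getD_eq_getElem (hn := lt_of_lt_of_eq hj k_len.2.symm)]
        simpa using (List.all_eq_true.1 k2_sub) _ (List.getElem_mem (lt_of_lt_of_eq hj k_len.2.symm))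
      obtain ⟨l, hl, hlA⟩ := List.getElem_of_mem hjm
      obtain ⟨w', hw'⟩ := R.exists_of_mem_mQ l (q_len ▸ hl)
      rw [List.getD_eq_getElem (hn := hl), hlA] at hw'
      have e1 : d.ρ (R.word w) * x = d.ρ (R.word w') * d.ρ (R.word w) := R.mat_inj (by
        rw [R.mat_mul, R.mat_mul, R.mat_word w, hw', hkc, h])
      rw [hy, e1, mul_inv_cancel_right, hw']

theorem IsBase.exists_rep {t : G} (ht : t ∈ R.V0) (htE : t ∉ E) :
    ∃ s ∈ R.sHat, t ∈ conjOrbit R.Gam (u * s) := by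
  obtain ⟨htH, ht1, -⟩ := id ht
  have hne : d.ρ ⟨t, htH⟩ ≠ 1 := fun h => htE ((d.mem_ker_iff).1 h)
  have hm : R.code (d.ρ ⟨t, htH⟩) ∈ mK2 :=
    (List.mem_cons.1 (show R.code (d.ρ ⟨t, htH⟩) ∈ mI :: mK2 from ht1)).resolve_left fun h =>
      hne (R.mat_inj (h.trans R.mat_one.symm))
  obtain ⟨i, hi, hie⟩ := List.getElem_of_mem hm
  obtain ⟨h, hh, hhc⟩ := hu.exists_trans ⟨i, lt_of_lt_of_eq hi k_len.2⟩
  rw [List.getD_eq_getElem (hn := hi), hie] at hhc
  have hρ := R.mat_inj hhc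
  set s : G := u * ((h : G)⁻¹ * t * h) with hs
  have hsV : s ∈ R.V0 := mul_mem hu.mem (by simpa using R.conj_V0 (inv_mem hh.1) ht)
  have hsE : s ∈ E := by
    have h1 : d.ρ (hu.el * (h⁻¹ * ⟨t, htH⟩ * h)) = 1 := by
      simp only [map_mul, map_inv, ← hρ]
      rw [show d.ρ hu.el * ((d.ρ h)⁻¹ * (d.ρ h * d.ρ hu.el * (d.ρ h)⁻¹) * d.ρ h) =
        d.ρ hu.el * d.ρ hu.el by group, ← map_mul, show hu.el * hu.el = 1 from
        Subtype.ext (R.V0_sq hu.mem), map_one]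
    exact (d.mem_ker_iff).1 h1
  refine ⟨s, R.V0_E hsV hsE, h, hh, ?_⟩
  rw [hs, ← mul_assoc u u, R.V0_sq hu.mem, one_mul]
  group

theorem IsBase.AB_rep {e : ↥(centralizer ({z} : Set G)) →* MulAut ↥Cfsg.Spor.M22} (o : Outer z E P N e)
    {t : G} (ht : t ∈ R.V0) (htE : t ∉ E) (hAB : R.AB t) :
    t ∈ conjOrbit R.Gam u ∨ t ∈ conjOrbit R.Gam (u * z) := by
  obtain ⟨s, hs, hst⟩ := hu.exists_rep ht htE
  obtain ⟨k, hk, hkt⟩ := conjOrbit_symm hst
  have hsr : s ∈ hu.rHat := (hu.AB_iff hs).1 (hkt ▸ R.AB_conj o hk.2 hAB)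
  obtain ⟨f, hf, hfs⟩ := hu.conj_base hsr
  rcases hfs with h | h
  · exact Or.inl (conjOrbit_trans ⟨f, R.E_le_Gam hf, h⟩ hst)
  · right
    refine conjOrbit_trans ⟨f, R.E_le_Gam hf, ?_⟩ hst
    rw [conj_mul_z (d.L.le_H hf), h, mul_assoc _ z z, d.L.zz, mul_one]

omit hu in
theorem card_sdiff_rHat {A B : Subgroup G} (h : B ≤ A) :
    Nat.card {s : A // (s : G) ∉ B} = Nat.card A - Nat.card B := by
  classical
  have h1 := Nat.card_congr (Equiv.sumCompl (fun s : A => (s : G) ∈ B))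
  rw [Nat.card_sum] at h1
  have h2 : Nat.card {s : A // (s : G) ∈ B} = Nat.card B := Nat.card_congr
    { toFun := fun s => ⟨s.1.1, s.2⟩
      invFun := fun b => ⟨⟨b.1, h b.2⟩, b.2⟩
      left_inv := fun _ => rfl
      right_inv := fun _ => rfl }
  omega

/-- The sizes of the two parts outside `E`. -/
theorem IsBase.card_parts {e : ↥(centralizer ({z} : Set G)) →* MulAut ↥Cfsg.Spor.M22} (o : Outer z E P N e) :
    Nat.card {t : G // t ∈ R.V0 ∧ t ∉ E ∧ R.AB t} = 480 ∧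
      Nat.card {t : G // t ∈ R.V0 ∧ t ∉ E ∧ ¬ R.AB t} = 1440 := by
  classical
  choose h hh hhc using hu.exists_trans
  let Φ : Fin 15 × R.sHat → G := fun p => (h p.1 : G) * (u * p.2) * (h p.1 : G)⁻¹
  have hV : ∀ p, Φ p ∈ R.V0 := fun p => R.conj_V0 (hh p.1).1 (mul_mem hu.mem (R.sHat_le_V0 p.2.2))
  have hE : ∀ p, Φ p ∉ E := fun p hp => hu.not_mem_E (by
    simpa using mul_mem ((conj_E d (h p.1).2).1 hp) (inv_mem (R.sHat_le p.2.2)))
  have hρ : ∀ p, R.code (d.ρ ⟨Φ p, (hV p).1⟩) = mK2.getD p.1 [] := fun p => by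
    rw [← hhc p.1]
    refine congrArg R.code ?_
    rw [show (⟨Φ p, (hV p).1⟩ : centralizer ({z} : Set G)) =
      h p.1 * (hu.el * ⟨p.2, d.L.le_H (R.sHat_le p.2.2)⟩) * (h p.1)⁻¹ from rfl, map_mul, map_mul,
      map_inv, map_mul, (d.mem_ker_iff).2 (show ((⟨(p.2 : G), d.L.le_H (R.sHat_le p.2.2)⟩ :
        centralizer ({z} : Set G)) : G) ∈ E from R.sHat_le p.2.2), mul_one]
  have hinj : Function.Injective Φ := by
    intro p q hpq
    have h1 : mK2.getD p.1 [] = mK2.getD q.1 [] := by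
      rw [← hρ p, ← hρ q]
      exact congrArg R.code (congrArg d.ρ (Subtype.ext hpq))
    rw [List.getD_eq_getElem (hn := lt_of_lt_of_eq p.1.2 k_len.2.symm),
      List.getD_eq_getElem (hn := lt_of_lt_of_eq q.1.2 k_len.2.symm)] at h1
    have h2 : p.1 = q.1 := Fin.ext ((List.Nodup.getElem_inj_iff (List.nodup_cons.1 k2_nodup).2).1 h1)
    refine Prod.ext h2 (Subtype.ext ?_)
    have h3 : (h p.1 : G) * (u * p.2) * (h p.1 : G)⁻¹ = (h p.1 : G) * (u * q.2) * (h p.1 : G)⁻¹ := by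
      rw [show Φ p = (h p.1 : G) * (u * p.2) * (h p.1 : G)⁻¹ from rfl] at hpq
      rw [hpq, h2]
    simpa using h3
  have hAB : ∀ p, R.AB (Φ p) ↔ (p.2 : G) ∈ hu.rHat := fun p => by
    rw [← hu.AB_iff p.2.2]
    constructor
    · intro hp
      have := R.AB_conj o (inv_mem (hh p.1).2) hp
      simpa [Φ, mul_assoc] using this
    · exact R.AB_conj o (hh p.1).2
  have hsurj : ∀ t, t ∈ R.V0 → t ∉ E → ∃ p, Φ p = t := by
    intro t ht htE
    obtain ⟨htH, ht1, -⟩ := id ht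
    have hm : R.code (d.ρ ⟨t, htH⟩) ∈ mK2 :=
      (List.mem_cons.1 (show R.code (d.ρ ⟨t, htH⟩) ∈ mI :: mK2 from ht1)).resolve_left fun hh' =>
        htE ((d.mem_ker_iff).1 (R.mat_inj (hh'.trans R.mat_one.symm)))
    obtain ⟨i, hi, hie⟩ := List.getElem_of_mem hm
    set j : Fin 15 := ⟨i, lt_of_lt_of_eq hi k_len.2⟩
    set s : G := u * ((h j : G)⁻¹ * t * h j) with hs
    have hsV : s ∈ R.V0 := mul_mem hu.mem (by simpa using R.conj_V0 (inv_mem (hh j).1) ht)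
    have hsE : s ∈ E := by
      have hρ' : d.ρ (h j) * d.ρ hu.el * (d.ρ (h j))⁻¹ = d.ρ ⟨t, htH⟩ := R.mat_inj (by
        rw [hhc, List.getD_eq_getElem (hn := hi), hie])
      have h1 : d.ρ (hu.el * ((h j)⁻¹ * ⟨t, htH⟩ * h j)) = 1 := by
        simp only [map_mul, map_inv, ← hρ']
        rw [show d.ρ hu.el * ((d.ρ (h j))⁻¹ * (d.ρ (h j) * d.ρ hu.el * (d.ρ (h j))⁻¹) * d.ρ (h j)) =
          d.ρ hu.el * d.ρ hu.el by group, ← map_mul, show hu.el * hu.el = 1 from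
          Subtype.ext (R.V0_sq hu.mem), map_one]
      exact (d.mem_ker_iff).1 h1
    refine ⟨(j, ⟨s, R.V0_E hsV hsE⟩), ?_⟩
    show (h j : G) * (u * s) * (h j : G)⁻¹ = t
    rw [hs, ← mul_assoc u u, R.V0_sq hu.mem, one_mul]
    group
  have hr : hu.rHat ≤ R.sHat := hu.rHat_le_sHat
  have c1 : Nat.card {t : G // t ∈ R.V0 ∧ t ∉ E ∧ R.AB t} =
      Nat.card (Fin 15 × {s : R.sHat // (s : G) ∈ hu.rHat}) := by
    refine (Nat.card_congr (Equiv.ofBijective (fun p => ⟨Φ (p.1, p.2.1), hV _, hE _, (hAB _).2 p.2.2⟩)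
      ⟨fun a b hab => ?_, fun t => ?_⟩)).symm
    · have h1 := hinj (congrArg Subtype.val hab)
      exact Prod.ext (congrArg (fun p : Fin 15 × R.sHat => p.1) h1) (Subtype.ext (congrArg (fun p : Fin 15 × R.sHat => p.2) h1))
    · obtain ⟨p, hp⟩ := hsurj t.1 t.2.1 t.2.2.1
      exact ⟨(p.1, ⟨p.2, (hAB p).1 (hp ▸ t.2.2.2)⟩), Subtype.ext hp⟩
  have c2 : Nat.card {t : G // t ∈ R.V0 ∧ t ∉ E ∧ ¬ R.AB t} =
      Nat.card (Fin 15 × {s : R.sHat // (s : G) ∉ hu.rHat}) := by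
    refine (Nat.card_congr (Equiv.ofBijective
      (fun p => ⟨Φ (p.1, p.2.1), hV _, hE _, fun hp => p.2.2 ((hAB _).1 hp)⟩)
      ⟨fun a b hab => ?_, fun t => ?_⟩)).symm
    · have h1 := hinj (congrArg Subtype.val hab)
      exact Prod.ext (congrArg (fun p : Fin 15 × R.sHat => p.1) h1) (Subtype.ext (congrArg (fun p : Fin 15 × R.sHat => p.2) h1))
    · obtain ⟨p, hp⟩ := hsurj t.1 t.2.1 t.2.2.1
      exact ⟨(p.1, ⟨p.2, fun hp' => t.2.2.2 (hp ▸ (hAB p).2 hp')⟩), Subtype.ext hp⟩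
  have hB : Nat.card {s : R.sHat // (s : G) ∈ hu.rHat} = 32 := by
    rw [← hu.card_rHat]
    exact Nat.card_congr
      { toFun := fun s => ⟨s.1.1, s.2⟩
        invFun := fun b => ⟨⟨b.1, hr b.2⟩, b.2⟩
        left_inv := fun _ => rfl
        right_inv := fun _ => rfl }
  rw [c1, c2, Nat.card_prod, Nat.card_prod, Nat.card_fin, hB, card_sdiff_rHat hr, R.card_sHat,
    hu.card_rHat]
  exact ⟨rfl, rfl⟩

/-- The orbit of the base, or of its product with `z`, has at least `240` elements. -/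
theorem IsBase.card_orbit {e : ↥(centralizer ({z} : Set G)) →* MulAut ↥Cfsg.Spor.M22} (o : Outer z E P N e)
    {u' : G} (hu' : u' = u ∨ u' = u * z) : 240 ≤ Nat.card (conjOrbit R.Gam u') := by
  classical
  set A := conjOrbit R.Gam u
  set B := conjOrbit R.Gam (u * z)
  let m : A → B := fun a => ⟨a.1 * z, by
    obtain ⟨k, hk, hka⟩ := a.2
    exact ⟨k, hk, by rw [conj_mul_z hk.2, hka]⟩⟩
  let m' : B → A := fun b => ⟨b.1 * z, by
    obtain ⟨k, hk, hkb⟩ := b.2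
    exact ⟨k, hk, by rw [← hkb, conj_mul_z hk.2, mul_assoc _ z z, d.L.zz, mul_one]⟩⟩
  have hm : Nat.card A = Nat.card B := Nat.card_congr
    { toFun := m
      invFun := m'
      left_inv := fun a => Subtype.ext (by simp [m, m', mul_assoc, d.L.zz])
      right_inv := fun a => Subtype.ext (by simp [m, m', mul_assoc, d.L.zz]) }
  let f : {t : G // t ∈ R.V0 ∧ t ∉ E ∧ R.AB t} → A ⊕ B := fun t =>
    if h : t.1 ∈ A then Sum.inl ⟨t.1, h⟩
    else Sum.inr ⟨t.1, (hu.AB_rep o t.2.1 t.2.2.1 t.2.2.2).resolve_left h⟩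
  have hf : Function.Injective f := by
    intro a b hab
    by_cases ha : a.1 ∈ A <;> by_cases hb : b.1 ∈ A <;> simp [f, ha, hb] at hab
    · exact Subtype.ext hab
    · exact Subtype.ext hab
  have h1 := Nat.card_le_card_of_injective f hf
  rw [(hu.card_parts o).1, Nat.card_sum, ← hm] at h1
  rcases hu' with rfl | rfl
  · show 240 ≤ Nat.card A
    omega
  · show 240 ≤ Nat.card B
    omega

end Real

end Cfsg.Agent.H69.J4
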