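import Cfsg.Agent.H69.J4.Data

/-!
Bit-vector linear algebra for the `J₄`-type layer, and the kernel-checked facts about the model.
-/

set_option autoImplicit false
set_option maxRecDepth 20000

namespace Cfsg.Agent.H69.J4

/-- A matrix, given by the images of the unit vectors, applied to a vector. -/
def ap : List ℕ → ℕ → ℕ
  | [], _ => 0
  | a :: as, v => (bif Nat.beq (v % 2) 1 then a else 0) ^^^ ap as (v / 2)

/-- Product of matrices. -/
def mm (A B : List ℕ) : List ℕ := B.map (ap A)

/-- Generator matrices, by letter. -/
def letter : ℕ → List ℕ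
  | 0 => mB
  | 1 => mC
  | 2 => mS0
  | _ => mW

/-- The matrix of a word. -/
def evalM : List ℕ → List ℕ
  | [] => mI
  | x :: w => mm (letter x) (evalM w)

/-- Images of the adapted basis under a candidate for the element of order four. -/
def imS (p q r : ℕ) : List ℕ :=
  let r1 := ap mC (ap mC r)
  let r2 := ap mC (ap mC r1)
  let r3 := ap mC (ap mC r2)
  [p, ap mW p, q, ap mW q, r, ap mW r, r1, ap mW r1, r2, ap mW r2, r3, ap mW r3]

/-- A candidate for the element of order four. -/
def mkS (p q r : ℕ) : List ℕ := masks.map (ap (imS p q r))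

/-- The matrix by which a candidate acts on the fixed vectors of `mC`. -/
def step0 (p q x : ℕ) : ℕ := ap [p, ap mW p, q, ap mW q] (ap masks x)

/-- The matrix by which a candidate acts on the vectors of trace zero. -/
def step1 (r x : ℕ) : ℕ :=
  ap ((imS 0 0 r).drop 4) (ap masks x / 16)

/-- The trace of `mC`. -/
def trC (v : ℕ) : ℕ :=
  let v1 := ap mC v
  let v2 := ap mC v1
  let v3 := ap mC v2
  let v4 := ap mC v3
  v ^^^ v1 ^^^ v2 ^^^ v3 ^^^ v4

/-- The relation test: six rounds of `A B` send the vector ten into its scalar class. -/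
def relTest (A B : List ℕ) : Bool :=
  let f := fun x => ap A (ap B x)
  let y := f (f (f (f (f (f 10)))))
  Nat.beq y 10 || Nat.beq y (ap mW 10) || Nat.beq y (ap mW (ap mW 10))

/-- Multiplication by the generator modulo the cyclotomic polynomial. -/
def mx (v : ℕ) : ℕ := bif Nat.testBit v 9 then (2 * v) ^^^ 2047 else 2 * v

/-- Multiplication modulo the cyclotomic polynomial. -/
def mulP : ℕ → ℕ → ℕ → ℕ
  | 0, _, _ => 0
  | n + 1, v, q => (bif Nat.beq (q % 2) 1 then v else 0) ^^^ mulP n (mx v) (q / 2)

/-- Power of a vector modulo the cyclotomic polynomial, by squaring. -/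
def invP (v : ℕ) : ℕ :=
  let sq := fun x => mulP 10 x x
  let v2 := sq v
  let v4 := sq v2
  let v8 := sq v4
  let v16 := sq v8
  let v32 := sq v16
  let v64 := sq v32
  let v128 := sq v64
  let v256 := sq v128
  let v512 := sq v256
  [v4, v8, v16, v32, v64, v128, v256, v512].foldl (fun a b => mulP 10 a b) v2

/-- Selection by a mask. -/
def pickBits {α : Type} : List α → ℕ → List α
  | [], _ => []
  | a :: as, m => (bif Nat.beq (m % 2) 1 then [a] else []) ++ pickBits as (m / 2)

/-- The involutions of the Sylow two-subgroup. -/
def mInv : List (List ℕ) := invIdx.map fun i => mQ.getD i []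

/-- The first elementary subgroup of order sixteen, without the identity. -/
def mK1 : List (List ℕ) := k1Idx.map fun i => mInv.getD i []

/-- The second elementary subgroup of order sixteen, without the identity. -/
def mK2 : List (List ℕ) := k2Idx.map fun i => mInv.getD i []

/-- The mask of a list of positions. -/
def maskOf (l : List ℕ) : ℕ := l.foldr (fun i a => 2 ^ i ||| a) 0

/-- Number of set bits among the lowest `n`. -/
def pop : ℕ → ℕ → ℕ
  | 0, _ => 0
  | n + 1, m => m % 2 + pop n (m / 2)

/-- Every set of at least fifteen commuting involutions lies in one of the two subgroups. -/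
def search : ℕ → ℕ → ℕ → Bool
  | 0, _, _ => false
  | fuel + 1, ch, ca =>
    let u := ch ||| ca
    Nat.blt (pop 35 u) 15 || Nat.beq (u &&& maskOf k1Idx) u || Nat.beq (u &&& maskOf k2Idx) u ||
      (List.range 35).any fun v => ca.testBit v &&
        (List.range v).all (fun i => !ca.testBit i) &&
        search fuel (ch ||| 2 ^ v) (ca &&& com.getD v 0) && search fuel ch (ca ^^^ 2 ^ v)

/-! ### Checks -/

theorem lists_ok : ([mB, mC, mW, mS0, mI, bas, masks].all fun l =>
    Nat.beq l.length 12 && l.all fun a => Nat.blt a 4096) = true := by decide +kernel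

theorem unit_ok : (List.range 12).map (fun i => 2 ^ i) = mI := by decide +kernel

theorem masks_bas : masks.map (ap bas) = mI := by decide +kernel

theorem bas_eq : bas = [1024, ap mW 1024, 1, ap mW 1, 10, ap mW 10, ap mC 10, ap mW (ap mC 10),
    ap mC (ap mC 10), ap mW (ap mC (ap mC 10)), ap mC (ap mC (ap mC 10)),
    ap mW (ap mC (ap mC (ap mC 10)))] := by decide +kernel

theorem vF_eq : (List.range 4096).filter (fun v => Nat.beq (ap mC v) v) = vF := by decide +kernel

theorem vF_coord : (vF.all fun x => Nat.blt (ap masks x) 16) = true := by decide +kernel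

theorem trC_ok : ((List.range 4096).all fun x =>
    !Nat.beq (trC x) 0 || Nat.beq (ap masks x % 16) 0) = true := by decide +kernel

theorem trC_ten : trC 10 = 0 := by decide +kernel

theorem inv_ok : ((List.range 1024).all fun v => Nat.beq v 0 ||
    Nat.beq (mulP 10 v (invP v)) 1) = true := by decide +kernel

theorem fix_C : ((List.range 1024).filter fun v => Nat.beq (ap mC v) v) = [0, 1, 570, 571] := by
  decide +kernel

theorem k_sq : mulP 10 571 571 = 570 := by decide +kernel

theorem filt0 : (vF.all fun p => vF.all fun q =>
    !(Nat.beq (step0 p q (step0 p q (step0 p q (step0 p q 1024)))) 1024 &&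
      Nat.beq (step0 p q (step0 p q (step0 p q (step0 p q 1)))) 1) ||
      vL0.contains (p, q)) = true := by decide +kernel

theorem filt1 : ((List.range 4096).all fun r => !Nat.beq (trC r) 0 ||
    (!Nat.beq (step1 r (step1 r (step1 r (step1 r 10)))) 10 || vL1.contains r)) = true := by
  decide +kernel

theorem filt2 : (vL0.all fun pq => vL1.all fun r =>
    !relTest mB (mkS pq.1 pq.2 r) || !relTest (mkS pq.1 pq.2 r) mB ||
      mCand.contains (mkS pq.1 pq.2 r)) = true := by decide +kernel

theorem cand_ok : ((List.range 3).all fun i =>
    let D := mD.getD i []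
    let D' := mDinv.getD i []
    Nat.beq D.length 12 && D.all (fun a => Nat.blt a 4096) &&
      Nat.beq D'.length 12 && D'.all (fun a => Nat.blt a 4096) &&
      mm (mCand.getD i []) D == mm D mS0 && mm D mB == mm mB D && mm D mC == mm mC D &&
      mm D mW == mm mW D && mm D D' == mI && mm D' D == mI) = true := by decide +kernel

theorem cand_len : mCand.length = 3 := by decide +kernel

theorem w_cube : mm mW (mm mW mW) = mI := by decide +kernel

theorem q_len : mQ.length = 128 := by decide +kernel

theorem q_bound : (mQ.all fun m => Nat.beq m.length 12 && m.all fun a => Nat.blt a 4096) = true := by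
  decide +kernel

theorem q_one : mQ.getD 0 [] = mI := by decide +kernel

theorem q_nodup : ((List.range 128).all fun i => (List.range i).all fun j =>
    !(mQ.getD i [] == mQ.getD j [])) = true := by decide +kernel

theorem q_closed : (mQ.all fun m => qWords.all fun g => mQ.contains (mm m (evalM g))) = true := by
  decide +kernel

theorem q_reach : ((List.range 128).all fun i => Nat.beq i 0 || (List.range i).any fun j =>
    qWords.any fun g => mQ.getD i [] == mm (mQ.getD j []) (evalM g)) = true := by decide +kernel

theorem q_inv : mQ.filter (fun m => mm m m == mI && !(m == mI)) = mInv := by decide +kernel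

theorem com_ok : ((List.range 35).all fun i => (List.range 35).all fun j =>
    Nat.beq i j || (com.getD i 0).testBit j ||
      !(mm (mInv.getD i []) (mInv.getD j []) == mm (mInv.getD j []) (mInv.getD i []))) = true := by
  decide +kernel

theorem search_ok : search 36 0 (2 ^ 35 - 1) = true := by decide +kernel

theorem k_len : mK1.length = 15 ∧ mK2.length = 15 := by decide +kernel

theorem fix_K1 : ((List.range 4096).filter fun v => mK1.all fun m => Nat.beq (ap m v) v).length = 4 :=
  by decide +kernel

theorem fix_K2 : ((List.range 4096).filter fun v => mK2.all fun m => Nat.beq (ap m v) v) = sVec := by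
  decide +kernel

theorem k2_closed : ((mI :: mK2).all fun a => (mI :: mK2).all fun b =>
    (mI :: mK2).contains (mm a b)) = true := by decide +kernel

theorem k2_nodup : (mI :: mK2).Nodup := by decide +kernel

theorem norm_K2 : (nWords.all fun g => mK2.all fun m => mK2.any fun m' =>
    mm (evalM g) m == mm m' (evalM g)) = true := by decide +kernel

theorem trans_K2 : ((List.range 14).all fun j => (List.range (j + 1)).any fun i => nWords.any fun g =>
    mm (evalM g) (mK2.getD i []) == mm (mK2.getD (j + 1) []) (evalM g)) = true := by decide +kernel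

theorem orb_ok : ([orb0, orb1].all fun o => (List.range (o.length - 1)).all fun j =>
    (List.range (j + 1)).any fun i => ([3] :: nWords).any fun g =>
      Nat.beq (ap (evalM g) (o.getD i 0)) (o.getD (j + 1) 0)) = true := by decide +kernel

theorem orb_cover : (sVec.all fun v => Nat.beq v 0 || orb0.contains v || orb1.contains v) = true := by
  decide +kernel

theorem sVec_lt : (sVec.all fun v => Nat.blt v 4096) = true := by decide +kernel

theorem triples : ([13, 67, 145, 13 ^^^ 67, 13 ^^^ 145, 67 ^^^ 145, 13 ^^^ 67 ^^^ 145].countP
      (fun v => orb0.contains v) % 2 = 0 ∧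
    [13, 67, 145, 13 ^^^ 67, 13 ^^^ 145, 67 ^^^ 145, 13 ^^^ 67 ^^^ 145].countP
      (fun v => orb1.contains v) % 2 = 1) ∧
    ([13, 67, 1025, 13 ^^^ 67, 13 ^^^ 1025, 67 ^^^ 1025, 13 ^^^ 67 ^^^ 1025].countP
      (fun v => orb0.contains v) % 2 = 1 ∧
    [13, 67, 1025, 13 ^^^ 67, 13 ^^^ 1025, 67 ^^^ 1025, 13 ^^^ 67 ^^^ 1025].countP
      (fun v => orb1.contains v) % 2 = 0) := by decide +kernel

theorem sVec_w : (sVec.all fun v => sVec.contains (ap mW v)) = true := by decide +kernel

theorem norm_S : (([3] :: nWords).all fun g => sVec.all fun v => sVec.contains (ap (evalM g) v)) =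
    true := by decide +kernel

end Cfsg.Agent.H69.J4
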