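import Mathlib

/-!
A proper subgroup containing the centralisers of its involutions forces one class of involutions in
a simple group.
-/

set_option autoImplicit false

namespace Cfsg.Agent.H69.J4

open Subgroup

variable {G : Type*} [Group G] [Finite G]

/-- Two involutions are conjugate or commute with a common involution. -/
theorem isConj_or_common_invol {s t : G} (hs : s * s = 1) (ht : t * t = 1) :
    IsConj s t ∨ ∃ w : G, orderOf w = 2 ∧ w * s = s * w ∧ w * t = t * w := by
  set u := s * t with hu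
  have hsi : s⁻¹ = s := inv_eq_of_mul_eq_one_left hs
  have hti : t⁻¹ = t := inv_eq_of_mul_eq_one_left ht
  have hsu : ∀ k : ℕ, s * u ^ k * s = (u ^ k)⁻¹ := by
    intro k
    have : s * u ^ k * s⁻¹ = (s * u * s⁻¹) ^ k := (conj_pow).symm
    rw [hsi] at this
    rw [this, ← inv_pow]
    congr 1
    rw [hu, mul_inv_rev, hsi, hti, ← mul_assoc, hs, one_mul]
  rcases Nat.even_or_odd (orderOf u) with ⟨m, hm⟩ | ⟨m, hm⟩
  · right
    have hpos := orderOf_pos u
    have hw : orderOf (u ^ m) = 2 := by
      rw [orderOf_pow, hm, Nat.gcd_eq_right ⟨2, by ring⟩, show m + m = 2 * m by ring,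
        Nat.mul_div_cancel _ (by omega)]
    have hinv : (u ^ m)⁻¹ = u ^ m := by
      refine inv_eq_of_mul_eq_one_left ?_
      rw [← pow_add, ← hm, pow_orderOf_eq_one]
    have hws : u ^ m * s = s * u ^ m := by
      conv_rhs => rw [← mul_one (s * u ^ m), ← hs, ← mul_assoc, hsu m, hinv]
    refine ⟨u ^ m, hw, hws, ?_⟩
    have hwu : u ^ m * u = u * u ^ m := ((Commute.refl u).pow_left m).eq
    have ht' : t = s * u := by rw [hu, ← mul_assoc, hs, one_mul]
    rw [ht', ← mul_assoc, hws, mul_assoc, hwu, ← mul_assoc]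
  · left
    refine isConj_iff.2 ⟨u ^ m, ?_⟩
    have h1 : s * u ^ m = (u ^ m)⁻¹ * s := by
      rw [← hsu m, mul_assoc (s * u ^ m), hs, mul_one]
    have h3 : (u ^ m * u ^ m)⁻¹ = u := by
      refine inv_eq_of_mul_eq_one_right ?_
      rw [← pow_add, ← pow_succ, show m + m + 1 = orderOf u by omega, pow_orderOf_eq_one]
    have h2 : u ^ m * s = s * (u ^ m)⁻¹ := by
      rw [← hsu m, ← mul_assoc, ← mul_assoc, hs, one_mul]
    rw [h2, mul_assoc, ← mul_inv_rev, h3, hu, ← mul_assoc, hs, one_mul]

/-- A proper subgroup with an involution that contains the centralisers of its involutions forces one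
class of involutions. -/
theorem one_class_of_centralizer_le [IsSimpleGroup G] {H : Subgroup G} (hH : H ≠ ⊤) {t₀ : G}
    (h₀ : orderOf t₀ = 2) (h₀H : t₀ ∈ H)
    (hc : ∀ t ∈ H, orderOf t = 2 → centralizer ({t} : Set G) ≤ H) {x y : G} (hx : orderOf x = 2)
    (hy : orderOf y = 2) : IsConj x y := by
  have hsq : ∀ {a : G}, orderOf a = 2 → a * a = 1 := fun {a} ha => by
    rw [← sq, ← ha]; exact pow_orderOf_eq_one a
  have cross : ∀ {s t : G}, orderOf s = 2 → orderOf t = 2 → s ∉ H → t ∈ H → IsConj s t := by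
    intro s t hs ht hsH htH
    rcases isConj_or_common_invol (hsq hs) (hsq ht) with e | ⟨w, hw, hws, hwt⟩
    · exact e
    · exfalso
      have hwH : w ∈ H := hc t htH ht (mem_centralizer_singleton_iff.2 hwt)
      exact hsH (hc w hwH hw (mem_centralizer_singleton_iff.2 hws.symm))
  obtain ⟨s, hs, hsH⟩ : ∃ s : G, orderOf s = 2 ∧ s ∉ H := by
    by_contra hall
    push Not at hall
    have hle : Subgroup.normalClosure ({t₀} : Set G) ≤ H := by
      refine (Subgroup.closure_le H).2 fun a ha => ?_
      obtain ⟨b, hb, hab⟩ := Group.mem_conjugatesOfSet_iff.1 ha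
      rw [Set.mem_singleton_iff] at hb
      subst hb
      obtain ⟨c, rfl⟩ := isConj_iff.1 hab
      refine hall _ ?_
      rw [← MulAut.conj_apply, MulEquiv.orderOf_eq, h₀]
    rcases (Subgroup.normalClosure_normal (s := ({t₀} : Set G))).eq_bot_or_eq_top with e | e
    · have h1 : t₀ = 1 := by
        have := Subgroup.subset_normalClosure (Set.mem_singleton t₀)
        rwa [e, Subgroup.coe_bot, Set.mem_singleton_iff] at this
      rw [h1, orderOf_one] at h₀
      norm_num at h₀
    · exact hH (eq_top_iff.2 (e ▸ hle))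
  have hall : ∀ a : G, orderOf a = 2 → IsConj a t₀ := fun a ha => by
    by_cases haH : a ∈ H
    · exact (cross hs ha hsH haH).symm.trans (cross hs h₀ hsH h₀H)
    · exact cross ha h₀ haH h₀H
  exact (hall x hx).trans (hall y hy).symm

end Cfsg.Agent.H69.J4
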