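import Cfsg.Agent.H69.J4.Data
import Cfsg.Agent.H97.OutM22
import Cfsg.Agent.H95.M22Simple

/-!
The three elements of `M₂₂` behind the model, and simplicity of `M₂₂`.
-/

set_option autoImplicit false
set_option maxRecDepth 20000

namespace Cfsg.Agent.H69.J4

open H90 H87

/-- Power of an encoded permutation. -/
def powN (p : ℕ) : ℕ → ℕ
  | 0 => idN
  | n + 1 => compN (powN p n) p

theorem mem_perms : [pB, pC, pS].all H87.mem22 = true := by decide +kernel

theorem rel_perms :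
    Nat.beq (powN pB 11) idN && Nat.beq (powN pC 5) idN && Nat.beq (powN pS 4) idN &&
      Nat.beq (compN pC pB) (compN (powN pB 4) pC) && Nat.beq (compN pS pC) (compN (powN pC 2) pS) &&
      Nat.beq (powN (compN pB pS) 6) idN && Nat.beq (powN (compN pS pB) 6) idN &&
      !Nat.beq (powN pB 1) idN = true := by decide +kernel

theorem repr_pow {σ : Equiv.Perm Cfsg.GolayPt} {p : ℕ} (h : Repr σ p) :
    ∀ n : ℕ, Repr (σ ^ n) (powN p n)
  | 0 => by rw [pow_zero]; exact repr_one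
  | n + 1 => by rw [pow_succ]; exact (repr_pow h n).mul h

/-- The relations in `M₂₂`. -/
theorem exists_gens : ∃ b c s : Cfsg.Spor.M22, b ^ 11 = 1 ∧ c ^ 5 = 1 ∧ s ^ 4 = 1 ∧
    c * b = b ^ 4 * c ∧ s * c = c ^ 2 * s ∧ (b * s) ^ 6 = 1 ∧ (s * b) ^ 6 = 1 ∧ b ≠ 1 := by
  have hm := mem_perms
  simp only [List.all_cons, List.all_nil, Bool.and_true, Bool.and_eq_true] at hm
  obtain ⟨b, hb⟩ := H87.exists_of_mem22 hm.1
  obtain ⟨c, hc⟩ := H87.exists_of_mem22 hm.2.1
  obtain ⟨s, hs⟩ := H87.exists_of_mem22 hm.2.2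
  have hr := rel_perms
  simp only [Bool.and_eq_true, Bool.not_eq_true'] at hr
  obtain ⟨⟨⟨⟨⟨⟨⟨r1, r2⟩, r3⟩, r4⟩, r5⟩, r6⟩, r7⟩, r8⟩ := hr
  have key : ∀ {x : Equiv.Perm Cfsg.GolayPt} {p : ℕ}, Repr x p → Nat.beq p idN = true → x = 1 :=
    fun hx e => (Nat.eq_of_beq_eq_true e ▸ hx).unique repr_one
  refine ⟨b, c, s, ?_, ?_, ?_, ?_, ?_, ?_, ?_, ?_⟩
  · exact Subtype.ext (key (repr_pow hb 11) r1)
  · exact Subtype.ext (key (repr_pow hc 5) r2)
  · exact Subtype.ext (key (repr_pow hs 4) r3)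
  · exact Subtype.ext ((Nat.eq_of_beq_eq_true r4 ▸ hc.mul hb).unique ((repr_pow hb 4).mul hc))
  · exact Subtype.ext ((Nat.eq_of_beq_eq_true r5 ▸ hs.mul hc).unique ((repr_pow hc 2).mul hs))
  · exact Subtype.ext (key (repr_pow (hb.mul hs) 6) r6)
  · exact Subtype.ext (key (repr_pow (hs.mul hb) 6) r7)
  · intro e
    have hb1 : Repr (1 : Equiv.Perm Cfsg.GolayPt) (powN pB 1) := by
      have := repr_pow hb 1
      rwa [pow_one, e] at this
    have heq : powN pB 1 = idN := by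
      have hc1 : ∀ i, i < 24 → img (powN pB 1) i = img idN i := fun i hi => by
        rw [← hb1 ⟨i, hi⟩, ← repr_one ⟨i, hi⟩]
      have h1 : powN pB 1 = packAux (fun i => img (powN pB 1) i) 24 := by decide +kernel
      have h2 : idN = packAux (fun i => img idN i) 24 := by decide +kernel
      rw [h1, h2]
      exact H97.MOut.packAux_congr 24 hc1
    rw [heq, Nat.beq_refl] at r8
    exact absurd r8 (by decide)

/-- `M₂₂` is simple. -/
theorem simple_M22 : IsSimpleGroup Cfsg.Spor.M22 := by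
  haveI := H95.pair_stab_simple (p := (none : Cfsg.GolayPt)) (q := some 0) (by simp)
  exact MulEquiv.isSimpleGroup (H := ↥(MulAction.stabilizer ↥Cfsg.M24 (none : Cfsg.GolayPt) ⊓
      MulAction.stabilizer ↥Cfsg.M24 (some 0 : Cfsg.GolayPt)))
    { toFun := fun σ => ⟨⟨σ.1, σ.2.1.1⟩, σ.2.1.2, σ.2.2⟩
      invFun := fun σ => ⟨σ.1.1, ⟨σ.1.2, σ.2.1⟩, σ.2.2⟩
      left_inv := fun _ => rfl
      right_inv := fun _ => rfl
      map_mul' := fun _ _ => rfl }

theorem noncomm_M22 : ∀ g : Cfsg.Spor.M22, g ∈ Subgroup.center Cfsg.Spor.M22 → g = 1 := by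
  haveI := simple_M22
  intro g hg
  rcases (inferInstance : (Subgroup.center Cfsg.Spor.M22).Normal).eq_bot_or_eq_top with e | e
  · rwa [e, Subgroup.mem_bot] at hg
  · exfalso
    obtain ⟨b, c, s, hb, -, -, hcb, -, -, -, hb1⟩ := exists_gens
    have hbc : c * b = b * c := Subgroup.mem_center_iff.1 (e ▸ Subgroup.mem_top b) c
    rw [hbc] at hcb
    have h3 : b ^ 3 = 1 := by
      have h4 : b = b ^ 4 := mul_right_cancel hcb
      rw [pow_succ] at h4
      exact mul_eq_right.1 h4.symm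
    apply hb1
    calc b = (b ^ 3) ^ 4 * (b ^ 11)⁻¹ := by group
      _ = 1 := by rw [h3, hb]; simp

end Cfsg.Agent.H69.J4
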