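import Cfsg.Agent.H69.J4.Setting
import Cfsg.Agent.H69.J4.Perms

/-!
The image of `C_H(P)` on `E / Z(E)`: an extension of a group of order three by `M₂₂`.
-/

set_option autoImplicit false

namespace Cfsg.Agent.H69.J4

open Subgroup

variable {G : Type*} [Group G]

/-- The extra hypotheses at `z` and `P`, unfolded. -/
structure Outer (z : G) (E P N : Subgroup G) (e : ↥(centralizer ({z} : Set G)) →* MulAut ↥Cfsg.Spor.M22) :
    Prop where
  hEN : E ≤ N
  hPN : P ≤ N
  hNH : N ≤ centralizer ({z} : Set G)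
  cardN : Nat.card N = 3 * Nat.card E
  surj : Function.Surjective e
  ker : e.ker = N.subgroupOf (centralizer ({z} : Set G))
  hne : centralizer ({z} : Set G) ⊓ normalizer (P : Set G) ≠
    centralizer ({z} : Set G) ⊓ centralizer (P : Set G)

theorem outer_of_type {z : G} {P : Subgroup G} (h : Cfsg.IsOfJankoFourTypeWith z P) :
    ∃ N e, Outer z (Cfsg.twoCoreOfCentralizer z) P N e := by
  obtain ⟨-, -, -, -, ⟨N, hEN, hNH, -, hc, ⟨hn, ⟨iso⟩⟩, hPN⟩, -, -, hne, -⟩ := h
  haveI := hn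
  refine ⟨N, iso.toMonoidHom.comp (QuotientGroup.mk' _), hEN, hPN, hNH, hc,
    iso.surjective.comp (QuotientGroup.mk'_surjective _), ?_, hne⟩
  rw [← MonoidHom.comap_ker, (MonoidHom.ker_eq_bot_iff _).2 iso.injective, MonoidHom.comap_bot,
    QuotientGroup.ker_mk']

namespace Outer

variable {z : G} {E P N : Subgroup G}
  {e : ↥(centralizer ({z} : Set G)) →* MulAut ↥Cfsg.Spor.M22}
variable (o : Outer z E P N e) (d : Data z E P)

/-- The centralizer of `P` in `H`, inside `H`. -/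
def cP (z : G) (P : Subgroup G) : Subgroup ↥(centralizer ({z} : Set G)) :=
  (centralizer (P : Set G)).subgroupOf (centralizer ({z} : Set G))

/-- The image of the centralizer of `P`. -/
def Y : Subgroup (MulAut (Bar E)) := (cP z P).map d.ρ

include d in
theorem exists_gen : ∃ p ∈ P, p ≠ 1 ∧ p * p * p = 1 ∧ ∀ q ∈ P, q = 1 ∨ q = p ∨ q = p * p := by
  haveI : Finite P := Nat.finite_of_card_ne_zero (by rw [d.cardP]; norm_num)
  haveI : Nontrivial P := Finite.one_lt_card_iff_nontrivial.1 (by rw [d.cardP]; norm_num)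
  obtain ⟨⟨p, hp⟩, hne⟩ := exists_ne (1 : P)
  have ho : orderOf (⟨p, hp⟩ : P) = 3 := by
    refine orderOf_eq_prime ?_ hne
    rw [← d.cardP]; exact pow_card_eq_one'
  have h3 : p * p * p = 1 := by
    have := congrArg Subtype.val (pow_orderOf_eq_one (⟨p, hp⟩ : P))
    rw [ho] at this
    simpa [pow_succ] using this
  refine ⟨p, hp, fun h => hne (Subtype.ext h), h3, fun q hq => ?_⟩
  have htop : zpowers (⟨p, hp⟩ : P) = ⊤ :=
    Subgroup.eq_top_of_card_eq _ (by rw [Nat.card_zpowers, ho, d.cardP])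
  obtain ⟨k, hk⟩ := mem_zpowers_iff.1 (htop ▸ mem_top (⟨q, hq⟩ : P))
  have hk' : p ^ k = q := congrArg Subtype.val hk
  have h3' : p ^ (3 : ℤ) = 1 := by rw [zpow_ofNat]; simpa [pow_succ] using h3
  obtain ⟨t, ht⟩ : ∃ t, k = 3 * t + k % 3 := ⟨k / 3, by omega⟩
  rcases (by omega : k % 3 = 0 ∨ k % 3 = 1 ∨ k % 3 = 2) with r | r | r <;>
    [left; (right; left); (right; right)] <;>
    rw [← hk', ht, r, zpow_add, zpow_mul, h3', one_zpow, one_mul]
  · exact zpow_zero p
  · exact zpow_one p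
  · exact zpow_two p

include o d in
theorem mem_N_iff [Finite G] {n : G} : n ∈ N ↔ ∃ x ∈ E, ∃ p ∈ P, n = x * p := by
  constructor
  · intro hn
    let f : ↥E × ↥P → ↥N := fun v => ⟨v.1 * v.2, mul_mem (o.hEN v.1.2) (o.hPN v.2.2)⟩
    have hf : Function.Injective f := by
      intro a b hab
      have hab' : (a.1 : G) * a.2 = b.1 * b.2 := congrArg Subtype.val hab
      have hmem : (b.1 : G)⁻¹ * a.1 = b.2 * (a.2 : G)⁻¹ := by
        rw [eq_mul_inv_iff_mul_eq, mul_assoc, hab', inv_mul_cancel_left]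
      have h1 : ((b.1 : G)⁻¹ * a.1) = 1 := by
        have hE : (b.1 : G)⁻¹ * a.1 ∈ E := mul_mem (inv_mem b.1.2) a.1.2
        have hP : (b.1 : G)⁻¹ * a.1 ∈ P := hmem ▸ mul_mem b.2.2 (inv_mem a.2.2)
        obtain ⟨k, hk⟩ := d.L.isPGroup_E ⟨_, hE⟩
        refine orderOf_eq_one_iff.1 (Nat.eq_one_of_dvd_coprimes (a := 2 ^ k) (b := 3)
          ((Nat.coprime_primes Nat.prime_two Nat.prime_three).2 (by norm_num) |>.pow_left k)
          (orderOf_dvd_of_pow_eq_one (congrArg Subtype.val hk)) ?_)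
        rw [← d.cardP]
        exact (Subgroup.orderOf_coe (⟨_, hP⟩ : P)) ▸ orderOf_dvd_natCard _
      rw [inv_mul_eq_one] at h1
      exact Prod.ext (Subtype.ext h1.symm) (Subtype.ext (mul_left_cancel (h1 ▸ hab')))
    obtain ⟨⟨x, p⟩, hxp⟩ := (hf.bijective_of_nat_card_le
      (by rw [Nat.card_prod, d.cardP, o.cardN, Nat.mul_comm])).2 ⟨n, hn⟩
    exact ⟨x, x.2, p, p.2, (congrArg Subtype.val hxp).symm⟩
  · rintro ⟨x, hx, p, hp, rfl⟩
    exact mul_mem (o.hEN hx) (o.hPN hp)

include o d in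
theorem e_one_iff {h : ↥(centralizer ({z} : Set G))} : e h = 1 ↔ (h : G) ∈ N := by
  rw [← MonoidHom.mem_ker, o.ker, mem_subgroupOf]

include o d in
/-- Every element of `H` is a product of an element of `E` and one normalising `P`. -/
theorem frattini [Finite G] (h : ↥(centralizer ({z} : Set G))) : ∃ x ∈ E, x⁻¹ * (h : G) ∈ normalizer (P : Set G) := by
  haveI : Fact (Nat.Prime 3) := ⟨Nat.prime_three⟩
  obtain ⟨p, hp, hp1, hp3, hall⟩ := exists_gen d
  have hN : (h : G) * p * (h : G)⁻¹ ∈ N := by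
    have := (o.ker ▸ (inferInstance : e.ker.Normal)).conj_mem ⟨p, d.hPH hp⟩
      (mem_subgroupOf.2 (o.hPN hp)) h
    exact this
  have hEn : ∀ n ∈ N, ∀ x ∈ E, n * x * n⁻¹ ∈ E := fun n hn x hx => d.L.conj_mem (o.hNH hn) hx
  have hcard : Nat.card (P.subgroupOf N) = 3 := by
    rw [← d.cardP]; exact Nat.card_congr (subgroupOfEquivOfLe o.hPN).toEquiv
  have hidx : ¬ 3 ∣ (P.subgroupOf N).index := by
    have := Subgroup.card_mul_index (P.subgroupOf N)
    rw [hcard, o.cardN, d.cardE] at this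
    rw [show (P.subgroupOf N).index = 2 ^ 13 by omega]
    norm_num
  let S : Sylow 3 N := (IsPGroup.of_card (n := 1) (by rw [hcard]; norm_num)).toSylow hidx
  let c : ↥N := ⟨(h : G) * p * (h : G)⁻¹, hN⟩
  have hc : c ^ 3 = 1 := Subtype.ext (by
    show ((h : G) * p * (h : G)⁻¹) ^ 3 = 1
    rw [← MulAut.conj_apply, ← map_pow, show p ^ 3 = 1 by simpa [pow_succ] using hp3, map_one])
  have hpg : IsPGroup 3 (zpowers c) := by
    rintro ⟨_, k, rfl⟩
    exact ⟨1, Subtype.ext (by
      rw [pow_one, SubmonoidClass.coe_pow, ← zpow_natCast (c ^ k), ← zpow_mul, mul_comm, zpow_mul,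
        zpow_natCast, hc, one_zpow, OneMemClass.coe_one])⟩
  obtain ⟨Q, hQ⟩ := hpg.exists_le_sylow
  obtain ⟨n, hn⟩ := MulAction.exists_smul_eq ↥N Q S
  have hnc : (n : G) * ((h : G) * p * (h : G)⁻¹) * (n : G)⁻¹ ∈ P := by
    have : MulAut.conj n c ∈ ((n • Q : Sylow 3 N) : Subgroup N) :=
      Subgroup.smul_mem_pointwise_smul c (MulAut.conj n) _ (hQ (mem_zpowers c))
    rw [hn] at this
    exact mem_subgroupOf.1 this
  obtain ⟨x, hx, q, hq, hnq⟩ := (o.mem_N_iff d).1 n.2
  refine ⟨q⁻¹ * x⁻¹ * q, ?_, ?_⟩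
  · simpa using d.L.conj_mem (inv_mem (d.hPH hq)) (inv_mem hx)
  · have hm : (q⁻¹ * x⁻¹ * q)⁻¹ * (h : G) = q⁻¹ * (n : G) * h := by rw [hnq]; group
    rw [hm, mul_assoc]
    refine mul_mem (inv_mem (le_normalizer hq)) ?_
    haveI : Finite P := inferInstance
    refine Subgroup.mem_normalizer_fintype fun u hu => ?_
    have hpow : ∀ m : ℕ, ((n : G) * h) * p ^ m * ((n : G) * h)⁻¹ ∈ P := fun m => by
      rw [← MulAut.conj_apply, map_pow, MulAut.conj_apply]
      exact pow_mem (by simpa [mul_assoc] using hnc) m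
    rcases hall u hu with rfl | rfl | rfl
    · simpa using hpow 0
    · simpa using hpow 1
    · simpa [sq] using hpow 2

include d in
theorem invert [Finite G] {p : G} (hp : p ∈ P) {n : G} (hn : n ∈ normalizer (P : Set G))
    (hnc : ¬ n ∈ centralizer (P : Set G)) : n * p * n⁻¹ = p * p := by
  obtain ⟨g, hg, hg1, hg3, hall⟩ := exists_gen d
  have hgm : n * g * n⁻¹ = g * g := by
    rcases hall _ ((mem_normalizer_iff.1 hn g).1 hg) with h | h | h
    · exact absurd (by simpa using h) hg1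
    · refine absurd (mem_centralizer_iff.2 fun u hu => ?_) hnc
      have h' : n * g = g * n := mul_inv_eq_iff_eq_mul.1 h
      rcases hall u hu with rfl | rfl | rfl
      · simp
      · exact h'.symm
      · exact (Commute.mul_left (Commute.symm h') (Commute.symm h')).eq
    · exact h
  rcases hall p hp with rfl | rfl | rfl
  · simp
  · exact hgm
  · calc n * (g * g) * n⁻¹ = (n * g * n⁻¹) * (n * g * n⁻¹) := by group
      _ = g * g * (g * g) := by rw [hgm]

/-- The normalizer of `P`, inside `H`. -/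
def nP (z : G) (P : Subgroup G) : Subgroup ↥(centralizer ({z} : Set G)) :=
  (normalizer (P : Set G)).subgroupOf (centralizer ({z} : Set G))

include d in
theorem cP_index [Finite G] {a b : ↥(centralizer ({z} : Set G))} (ha : a ∈ nP z P) (hb : b ∈ nP z P)
    (ha' : a ∉ cP z P) (hb' : b ∉ cP z P) : a * b ∈ cP z P := by
  refine mem_subgroupOf.2 (mem_centralizer_iff.2 fun u hu => ?_)
  have h1 := invert d hu (mem_subgroupOf.1 hb) fun h => hb' (mem_subgroupOf.2 h)
  have h2 := invert d (mul_mem hu hu) (mem_subgroupOf.1 ha) fun h => ha' (mem_subgroupOf.2 h)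
  have h3 : u ^ 3 = 1 := by
    haveI : Finite P := inferInstance
    have := congrArg Subtype.val (pow_card_eq_one' (x := (⟨u, hu⟩ : P)))
    rw [d.cardP] at this
    simpa using this
  have h4 : (a : G) * b * u * ((a : G) * b)⁻¹ = u := by
    calc (a : G) * b * u * ((a : G) * b)⁻¹ = a * ((b : G) * u * (b : G)⁻¹) * (a : G)⁻¹ := by group
      _ = u * u * (u * u) := by rw [h1, h2]
      _ = u ^ 3 * u := by simp [pow_succ, mul_assoc]
      _ = u := by rw [h3, one_mul]
  exact (mul_inv_eq_iff_eq_mul.1 h4).symm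

include o d in
theorem nP_inf_N [Finite G] {h : ↥(centralizer ({z} : Set G))} (hh : h ∈ nP z P) (hN : (h : G) ∈ N) :
    h ∈ cP z P ∧ ∃ p ∈ P, (h : G) = p ∨ (h : G) = z * p := by
  obtain ⟨x, hx, q, hq, hxq⟩ := (o.mem_N_iff d).1 hN
  have hxn : x ∈ normalizer (P : Set G) := by
    have := mul_mem (mem_subgroupOf.1 hh) (inv_mem (le_normalizer hq))
    simpa [hxq] using this
  have hxc : ∀ u ∈ P, u * x = x * u := by
    intro u hu
    have h1 : x * u * x⁻¹ * u⁻¹ ∈ P := mul_mem ((mem_normalizer_iff.1 hxn u).1 hu) (inv_mem hu)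
    have h2 : x * u * x⁻¹ * u⁻¹ ∈ E := by
      rw [show x * u * x⁻¹ * u⁻¹ = x * (u * x⁻¹ * u⁻¹) by group]
      exact mul_mem hx (d.L.conj_mem (d.hPH hu) (inv_mem hx))
    obtain ⟨k, hk⟩ := d.L.isPGroup_E ⟨_, h2⟩
    have h3 : x * u * x⁻¹ * u⁻¹ = 1 := orderOf_eq_one_iff.1 (Nat.eq_one_of_dvd_coprimes
      (a := 2 ^ k) (b := 3) ((Nat.coprime_primes Nat.prime_two Nat.prime_three).2 (by norm_num)
        |>.pow_left k) (orderOf_dvd_of_pow_eq_one (congrArg Subtype.val hk))
      (by rw [← d.cardP]; exact (Subgroup.orderOf_coe (⟨_, h1⟩ : P)) ▸ orderOf_dvd_natCard _))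
    calc u * x = (x * u * x⁻¹ * u⁻¹) * (u * x) := by rw [h3, one_mul]
      _ = x * u := by group
  obtain ⟨g, hg, -, -, hall⟩ := exists_gen d
  have hcomm : ∀ u ∈ P, u * q = q * u := fun u hu => by
    rcases hall u hu with rfl | rfl | rfl <;> rcases hall q hq with rfl | rfl | rfl <;>
      first | simp | group
  refine ⟨mem_subgroupOf.2 (mem_centralizer_iff.2 fun u hu => ?_), q, hq, ?_⟩
  · rw [hxq, ← mul_assoc, hxc u hu, mul_assoc, hcomm u hu, mul_assoc]
  · rcases d.fixP x hx hxc with rfl | rfl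
    · left; rw [hxq, one_mul]
    · right; exact hxq

include o d in
theorem exists_lift_aut [Finite G] (α : MulAut ↥Cfsg.Spor.M22) : ∃ n ∈ nP z P, e n = α := by
  obtain ⟨h, rfl⟩ := o.surj α
  obtain ⟨x, hx, hxn⟩ := o.frattini d h
  refine ⟨⟨x, d.L.le_H hx⟩⁻¹ * h, mem_subgroupOf.2 hxn, ?_⟩
  rw [map_mul, map_inv, (o.e_one_iff d).2 (o.hEN hx : ((⟨x, d.L.le_H hx⟩ : ↥(centralizer ({z} : Set G))) : G) ∈ N), inv_one,
    one_mul]

include o d in
theorem map_cP [Finite G] : (cP z P).map e = Cfsg.Inn ↥Cfsg.Spor.M22 := by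
  classical
  haveI := simple_M22
  obtain ⟨n₀, hn₀, hn₀c⟩ : ∃ n ∈ nP z P, n ∉ cP z P := by
    by_contra hall
    push Not at hall
    refine o.hne (le_antisymm (fun x hx => ⟨hx.1, mem_subgroupOf.1 (hall ⟨x, hx.1⟩
      (mem_subgroupOf.2 hx.2))⟩) (inf_le_inf_left _ (centralizer_le_normalizer _)))
  have hn₀K : e n₀ ∉ (cP z P).map e := by
    rintro ⟨c, hc, hce⟩
    have hN : ((c⁻¹ * n₀ : ↥(centralizer ({z} : Set G))) : G) ∈ N := (o.e_one_iff d).1 (by
      rw [map_mul, map_inv, hce, inv_mul_cancel])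
    have hc' : c ∈ nP z P := mem_subgroupOf.2 (centralizer_le_normalizer _ (mem_subgroupOf.1 hc))
    have := (o.nP_inf_N d (mul_mem (inv_mem hc') hn₀) hN).1
    exact hn₀c (by simpa using mul_mem hc this)
  have hidx : ((cP z P).map e).index = 2 := by
    refine Subgroup.index_eq_two_iff.2 ⟨e n₀, fun α => ?_⟩
    obtain ⟨n, hn, rfl⟩ := o.exists_lift_aut d α
    by_cases hc : n ∈ cP z P
    · refine Or.inr ⟨mem_map_of_mem _ hc, fun h => hn₀K ?_⟩
      simpa using mul_mem (inv_mem (mem_map_of_mem e hc)) h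
    · refine Or.inl ⟨?_, fun h => ?_⟩
      · rw [← map_mul]; exact mem_map_of_mem _ (cP_index d hn hn₀ hc hn₀c)
      · obtain ⟨c, hc', hce⟩ := h
        have hN : ((c⁻¹ * n : ↥(centralizer ({z} : Set G))) : G) ∈ N := (o.e_one_iff d).1 (by
          rw [map_mul, map_inv, hce, inv_mul_cancel])
        have hc'' : c ∈ nP z P := mem_subgroupOf.2 (centralizer_le_normalizer _ (mem_subgroupOf.1 hc'))
        have := (o.nP_inf_N d (mul_mem (inv_mem hc'') hn) hN).1
        exact hc (by simpa using mul_mem hc' this)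
  haveI : ((cP z P).map e).Normal := Subgroup.normal_of_index_eq_two hidx
  have hinj : Function.Injective (MulAut.conj : ↥Cfsg.Spor.M22 →* MulAut ↥Cfsg.Spor.M22) := by
    refine (injective_iff_map_eq_one _).2 fun g hg => noncomm_M22 g (Subgroup.mem_center_iff.2 fun x => ?_)
    have := congrArg (fun f : MulAut ↥Cfsg.Spor.M22 => f x) hg
    simp only [MulAut.conj_apply, MulAut.one_apply] at this
    exact (mul_inv_eq_iff_eq_mul.1 this).symm
  have hle : Cfsg.Inn ↥Cfsg.Spor.M22 ≤ (cP z P).map e := by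
    rcases (inferInstance : (((cP z P).map e).comap
        (MulAut.conj : ↥Cfsg.Spor.M22 →* MulAut ↥Cfsg.Spor.M22)).Normal).eq_bot_or_eq_top with h | h
    · exfalso
      have := Subgroup.card_mul_index (((cP z P).map e).comap
        (MulAut.conj : ↥Cfsg.Spor.M22 →* MulAut ↥Cfsg.Spor.M22))
      rw [h, Subgroup.card_bot, one_mul, ← h, Subgroup.index_comap, H87.natCard_M22] at this
      have hd := Subgroup.relIndex_dvd_index_of_normal ((cP z P).map e)
        (Cfsg.Inn ↥Cfsg.Spor.M22)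
      rw [hidx] at hd
      have := Nat.le_of_dvd (by norm_num) hd
      change ((cP z P).map e).relIndex (MulAut.conj : ↥Cfsg.Spor.M22 →* _).range ≤ 2 at this
      omega
    · rintro _ ⟨g, rfl⟩
      exact (h ▸ mem_top g : g ∈ ((cP z P).map e).comap _)
  have hI : (Cfsg.Inn ↥Cfsg.Spor.M22).index = 2 := by
    rw [Subgroup.index_eq_card]; exact H97.MOut.card_out_M22
  symm
  refine le_antisymm hle ?_
  have h1 := Subgroup.relIndex_mul_index hle
  rw [hidx, hI] at h1
  exact Subgroup.relIndex_eq_one.1 (by omega)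

include o d in
theorem card_Y_dvd [Finite G] : Nat.card (Y d) ∣ 3 * 443520 := by
  let K₀ : Subgroup ↥(cP z P) := (e.comp (cP z P).subtype).ker
  let f : ↥(cP z P) →* MulAut (Bar E) := d.ρ.comp (cP z P).subtype
  have hY : Y d = f.range := by
    rw [MonoidHom.range_comp, Subgroup.range_subtype]
    rfl
  have hK : K₀.index = 443520 := by
    rw [Subgroup.index_ker, MonoidHom.range_comp, Subgroup.range_subtype, o.map_cP d,
      ← H87.natCard_M22]
    refine (Nat.card_congr (MonoidHom.ofInjective ?_).toEquiv).symm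
    refine (injective_iff_map_eq_one _).2 fun g hg => noncomm_M22 g (Subgroup.mem_center_iff.2 fun x => ?_)
    have := congrArg (fun f : MulAut ↥Cfsg.Spor.M22 => f x) hg
    simp only [MulAut.conj_apply, MulAut.one_apply] at this
    exact (mul_inv_eq_iff_eq_mul.1 this).symm
  obtain ⟨p, hp, -, h3, hall⟩ := exists_gen d
  have hf : Nat.card (K₀.map f) ∣ 3 := by
    let w : MulAut (Bar E) := d.ρ ⟨p, d.hPH hp⟩
    have hle : K₀.map f ≤ zpowers w := by
      rintro _ ⟨c, hc, rfl⟩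
      have hN : ((c : ↥(centralizer ({z} : Set G))) : G) ∈ N := (o.e_one_iff d).1 hc
      have hcn : (c : ↥(centralizer ({z} : Set G))) ∈ nP z P :=
        mem_subgroupOf.2 (centralizer_le_normalizer _ (mem_subgroupOf.1 c.2))
      obtain ⟨-, q, hq, hcq⟩ := o.nP_inf_N d hcn hN
      have hρq : d.ρ (c : ↥(centralizer ({z} : Set G))) = d.ρ ⟨q, d.hPH hq⟩ := by
        rcases hcq with h | h
        · exact congrArg d.ρ (Subtype.ext h)
        · rw [show (c : ↥(centralizer ({z} : Set G))) = ⟨z, H9.LargeData.z_mem_H z⟩ * ⟨q, d.hPH hq⟩ from Subtype.ext h,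
            map_mul, (d.mem_ker_iff).2 d.L.z_mem, one_mul]
      show d.ρ (c : ↥(centralizer ({z} : Set G))) ∈ _
      rw [hρq]
      rcases hall q hq with rfl | rfl | rfl
      · rw [show (⟨1, d.hPH hq⟩ : ↥(centralizer ({z} : Set G))) = 1 from rfl, map_one]; exact one_mem _
      · exact mem_zpowers w
      · rw [show (⟨p * p, d.hPH hq⟩ : ↥(centralizer ({z} : Set G))) = ⟨p, d.hPH hp⟩ * ⟨p, d.hPH hp⟩ from rfl, map_mul]
        exact mul_mem (mem_zpowers w) (mem_zpowers w)
    refine (Subgroup.card_dvd_of_le hle).trans ?_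
    rw [Nat.card_zpowers]
    refine orderOf_dvd_of_pow_eq_one ?_
    rw [← map_pow, show (⟨p, d.hPH hp⟩ : ↥(centralizer ({z} : Set G))) ^ 3 = 1 from Subtype.ext (by simpa [pow_succ] using h3),
      map_one]
  have h1 : (K₀.map f).relIndex f.range ∣ 443520 := by
    rw [MonoidHom.range_eq_map, Subgroup.relIndex_map_map, top_sup_eq, Subgroup.relIndex_top_right,
      ← hK]
    exact Subgroup.index_dvd_of_le le_sup_left
  rw [hY]
  have hle : K₀.map f ≤ f.range := Subgroup.map_le_range _ _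
  have h2 : Nat.card f.range = Nat.card (K₀.map f) * (K₀.map f).relIndex f.range := by
    rw [Subgroup.relIndex, ← Nat.card_congr (subgroupOfEquivOfLe hle).toEquiv]
    exact (Subgroup.card_mul_index _).symm
  rw [h2]
  exact Nat.mul_dvd_mul hf h1

include o d in
theorem card_range [Finite G] : Nat.card d.ρ.range = 3 * 887040 := by
  have h1 : d.ρ.ker.index = Nat.card d.ρ.range := Subgroup.index_ker _
  rw [← h1, d.ker_eq]
  have hH := Subgroup.card_mul_index (E.subgroupOf (centralizer ({z} : Set G)))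
  rw [Nat.card_congr (subgroupOfEquivOfLe d.L.le_H).toEquiv, d.cardE] at hH
  have hN := Subgroup.card_mul_index (N.subgroupOf (centralizer ({z} : Set G)))
  rw [Nat.card_congr (subgroupOfEquivOfLe o.hNH).toEquiv, o.cardN, d.cardE] at hN
  have hi : (N.subgroupOf (centralizer ({z} : Set G))).index = 887040 := by
    rw [← o.ker, Subgroup.index_ker, MonoidHom.range_eq_top.2 o.surj]
    have h2 := Subgroup.card_mul_index (Cfsg.Inn ↥Cfsg.Spor.M22)
    rw [Subgroup.index_eq_card, show Nat.card (MulAut ↥Cfsg.Spor.M22 ⧸ Cfsg.Inn ↥Cfsg.Spor.M22) = 2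
      from H97.MOut.card_out_M22] at h2
    have h3 : Nat.card (Cfsg.Inn ↥Cfsg.Spor.M22) = 443520 := by
      rw [← H87.natCard_M22]
      refine (Nat.card_congr (MonoidHom.ofInjective ?_).toEquiv).symm
      refine (injective_iff_map_eq_one _).2 fun g hg =>
        noncomm_M22 g (Subgroup.mem_center_iff.2 fun x => ?_)
      have := congrArg (fun f : MulAut ↥Cfsg.Spor.M22 => f x) hg
      simp only [MulAut.conj_apply, MulAut.one_apply] at this
      exact (mul_inv_eq_iff_eq_mul.1 this).symm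
    rw [Subgroup.card_top, ← h2, h3]
  rw [hi] at hN
  rw [← hH] at hN
  norm_num at hN ⊢
  omega

include o d in
/-- Outside `Y`, the image of `H` inverts the image of `P`. -/
theorem dichotomy [Finite G] (h : ↥(centralizer ({z} : Set G))) : d.ρ h ∈ Y d ∨
    ∀ p (hp : p ∈ P), d.ρ h * d.ρ ⟨p, d.hPH hp⟩ * (d.ρ h)⁻¹ =
      d.ρ ⟨p, d.hPH hp⟩ * d.ρ ⟨p, d.hPH hp⟩ := by
  obtain ⟨x, hx, hxn⟩ := o.frattini d h
  let n : ↥(centralizer ({z} : Set G)) := ⟨x, d.L.le_H hx⟩⁻¹ * h
  have hρ : d.ρ n = d.ρ h := by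
    rw [map_mul, map_inv, (d.mem_ker_iff).2 (show ((⟨x, d.L.le_H hx⟩ : ↥(centralizer ({z} : Set G))) : G) ∈ E from hx),
      inv_one, one_mul]
  by_cases hc : n ∈ cP z P
  · left; exact ⟨n, hc, hρ⟩
  · right
    intro p hp
    rw [← hρ, ← map_inv, ← map_mul, ← map_mul, ← map_mul]
    exact congrArg d.ρ (Subtype.ext (invert d hp hxn fun h' => hc (mem_subgroupOf.2 h')))

end Outer

end Cfsg.Agent.H69.J4
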