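import Cfsg.Agent.H69.J4.RigidFour
import Cfsg.Agent.H69.J4.Quotient

/-!
Realising the model inside a group of `J₄` type.
-/

set_option autoImplicit false

namespace Cfsg.Agent.H69.J4

open Subgroup

variable {G : Type*} [Group G]

/-- Elements of `C_H(P)` acting by the matrices of the model. -/
structure Real {z : G} {E P : Subgroup G} (d : Data z E P) where
  /-- the coordinates -/
  F : @Frame (Bar E) d.barGroup
  /-- the letters -/
  g : ℕ → ↥(centralizer ({z} : Set G))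
  memC : ∀ i, g i ∈ Outer.cP z P
  mat : ∀ i, @Frame.Mat (Bar E) d.barGroup F (d.ρ (g i)) (letter i)
  memP : (g 3 : G) ∈ P
  fpf : ∀ m, d.ρ (g 3) m = m → m = 1

theorem eq_one_of_coprime_pow {A : Type*} [Group A] {q : A} (h3 : q ^ 3 = 1) {n : ℕ}
    (hn : q ^ n = 1) (hc : n.Coprime 3) : q = 1 :=
  orderOf_eq_one_iff.1 (Nat.eq_one_of_dvd_coprimes hc (orderOf_dvd_of_pow_eq_one hn)
    (orderOf_dvd_of_pow_eq_one h3))

theorem pow_of_three {A : Type*} [Group A] {q : A} (h3 : q ^ 3 = 1) {n : ℕ} (hn : 3 ∣ n) :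
    q ^ n = 1 := by
  obtain ⟨k, rfl⟩ := hn
  rw [pow_mul, h3, one_pow]

theorem exists_real [Finite G] {z : G} {E P N : Subgroup G}
    {e : ↥(centralizer ({z} : Set G)) →* MulAut ↥Cfsg.Spor.M22}
    (o : Outer z E P N e) (d : Data z E P) : Nonempty (Real d) := by
  letI := d.barGroup
  obtain ⟨p, hp, hp1, hp3, hall⟩ := Outer.exists_gen d
  set pH : ↥(centralizer ({z} : Set G)) := ⟨p, d.hPH hp⟩ with hpH
  set w := d.ρ pH with hw
  have hpC : pH ∈ Outer.cP z P := by
    refine mem_subgroupOf.2 (mem_centralizer_iff.2 fun u hu => ?_)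
    show u * p = p * u
    rcases hall u hu with rfl | rfl | rfl
    · simp
    · rfl
    · group
  have hw3 : w ^ 3 = 1 := by
    rw [hw, ← map_pow, show pH ^ 3 = 1 from Subtype.ext (by simpa [hpH, pow_succ] using hp3), map_one]
  have hwfpf : ∀ m : Bar E, w m = m → m = 1 := by
    intro m hm
    induction m using QuotientGroup.induction_on with
    | H a =>
      rw [hw, d.ρ_mk, d.mk_eq_iff] at hm
      rw [d.mk_eq_one]
      refine d.fixP a a.2 fun u hu => ?_
      rcases hm with hm | hm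
      · have h1 : p * a = a * p := mul_inv_eq_iff_eq_mul.1 hm.symm
        rcases hall u hu with rfl | rfl | rfl
        · simp
        · exact h1
        · exact (Commute.mul_left (show Commute p (a : G) from h1) h1).eq
      · exfalso
        change (a : G) = p * a * p⁻¹ * z at hm
        have hz : p * z = z * p := mem_centralizer_singleton_iff.1 (d.hPH hp)
        have hz' : p⁻¹ * z = z * p⁻¹ := (Commute.inv_left (show Commute p z from hz)).eq
        have e1 : p * a * p⁻¹ = a * z := by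
          conv_rhs => rw [hm, mul_assoc (p * a * p⁻¹), d.L.zz, mul_one]
        apply d.L.z_ne_one
        have e3 : p * (p * (p * a * p⁻¹) * p⁻¹) * p⁻¹ = a * z * z * z := by
          rw [e1]
          calc p * (p * (a * z) * p⁻¹) * p⁻¹ = p * ((p * a) * (z * p⁻¹)) * p⁻¹ := by group
            _ = p * ((p * a * p⁻¹) * z) * p⁻¹ := by rw [← hz']; group
            _ = p * (a * z * z) * p⁻¹ := by rw [e1]
            _ = (p * a * p⁻¹) * (p * (z * z) * p⁻¹) := by group
            _ = a * z * (z * z) := by rw [e1, d.L.zz]; simp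
            _ = a * z * z * z := by group
        have e4 : p * (p * (p * a * p⁻¹) * p⁻¹) * p⁻¹ = a := by
          rw [show p * (p * (p * (a : G) * p⁻¹) * p⁻¹) * p⁻¹ = (p * p * p) * a * (p * p * p)⁻¹ by group,
            hp3]
          simp
        rw [e4, mul_assoc (a : G), mul_assoc (a : G), mul_assoc, ← mul_assoc z z, d.L.zz, one_mul] at e3
        exact mul_eq_left.1 e3.symm
  have hcomm : ∀ c ∈ Outer.cP z P, Commute w (d.ρ c) := by
    intro c hc
    show w * d.ρ c = d.ρ c * w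
    rw [hw, ← map_mul, ← map_mul]
    exact congrArg d.ρ (Subtype.ext (mem_centralizer_iff.1 (mem_subgroupOf.1 hc) p hp))
  have hker : ∀ c ∈ Outer.cP z P, e c = 1 → d.ρ c = 1 ∨ d.ρ c = w ∨ d.ρ c = w * w := by
    intro c hc hc1
    obtain ⟨-, q, hq, hcq⟩ := o.nP_inf_N d
      (mem_subgroupOf.2 (centralizer_le_normalizer _ (mem_subgroupOf.1 hc))) ((o.e_one_iff d).1 hc1)
    have hρq : d.ρ c = d.ρ ⟨q, d.hPH hq⟩ := by
      rcases hcq with h | h
      · exact congrArg d.ρ (Subtype.ext h)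
      · rw [show c = ⟨z, H9.LargeData.z_mem_H z⟩ * ⟨q, d.hPH hq⟩ from Subtype.ext h, map_mul,
          (d.mem_ker_iff).2 d.L.z_mem, one_mul]
    rw [hρq]
    rcases hall q hq with rfl | rfl | rfl
    · exact Or.inl (map_one d.ρ)
    · exact Or.inr (Or.inl rfl)
    · exact Or.inr (Or.inr (by rw [hw, ← map_mul]; rfl))
  have hq3 : ∀ {q : MulAut (Bar E)}, q = 1 ∨ q = w ∨ q = w * w → q ^ 3 = 1 ∧ ∀ x, Commute w x → Commute q x := by
    rintro q (rfl | rfl | rfl)
    · exact ⟨one_pow _, fun x _ => Commute.one_left x⟩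
    · exact ⟨hw3, fun x hx => hx⟩
    · exact ⟨by rw [← sq, ← pow_mul, mul_comm, pow_mul, hw3, one_pow], fun x hx => hx.mul_left hx⟩
  have hlift : ∀ γ : ↥Cfsg.Spor.M22, ∃ c ∈ Outer.cP z P, e c = MulAut.conj γ := fun γ => by
    have : MulAut.conj γ ∈ (Outer.cP z P).map e := by rw [o.map_cP d]; exact ⟨γ, rfl⟩
    exact this
  obtain ⟨γb, γc, γs, rb, rc, rs, rcb, rsc, rbs, rsb, rne⟩ := exists_gens
  obtain ⟨cb, hcb, ecb⟩ := hlift γb
  obtain ⟨cc, hcc, ecc⟩ := hlift γc
  obtain ⟨cs, hcs, ecs⟩ := hlift γs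
  set b := cb ^ 12 with hb
  set c := cc ^ 6 with hc
  set s := cs ^ 9 with hs
  have hbC : b ∈ Outer.cP z P := pow_mem hcb _
  have hcC : c ∈ Outer.cP z P := pow_mem hcc _
  have hsC : s ∈ Outer.cP z P := pow_mem hcs _
  have eb : e b = MulAut.conj γb := by
    rw [hb, map_pow, ecb, ← map_pow, show γb ^ 12 = γb by rw [pow_succ, rb, one_mul]]
  have ec : e c = MulAut.conj γc := by
    rw [hc, map_pow, ecc, ← map_pow, show γc ^ 6 = γc by rw [pow_succ, rc, one_mul]]
  have es : e s = MulAut.conj γs := by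
    rw [hs, map_pow, ecs, ← map_pow,
      show γs ^ 9 = γs by rw [show 9 = 4 * 2 + 1 from rfl, pow_succ, pow_mul, rs, one_pow, one_mul]]
  have powOne : ∀ {x : ↥(centralizer ({z} : Set G))} {γ : ↥Cfsg.Spor.M22} (_ : x ∈ Outer.cP z P)
      (_ : e x = MulAut.conj γ) (k n : ℕ), γ ^ k = 1 → 3 ∣ n → d.ρ (x ^ k) ^ n = 1 := by
    intro x γ hx ex k n hk hn
    refine pow_of_three (hq3 (hker _ (pow_mem hx k) ?_)).1 hn
    rw [map_pow, ex, ← map_pow, hk, map_one]
  have hb11 : d.ρ b ^ 11 = 1 := by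
    rw [hb, map_pow, ← pow_mul, show 12 * 11 = 11 * 12 from rfl, pow_mul, ← map_pow]
    exact powOne hcb ecb 11 12 rb (by norm_num)
  have hc5 : d.ρ c ^ 5 = 1 := by
    rw [hc, map_pow, ← pow_mul, show 6 * 5 = 5 * 6 from rfl, pow_mul, ← map_pow]
    exact powOne hcc ecc 5 6 rc (by norm_num)
  have hs4 : d.ρ s ^ 4 = 1 := by
    rw [hs, map_pow, ← pow_mul, show 9 * 4 = 4 * 9 from rfl, pow_mul, ← map_pow]
    exact powOne hcs ecs 4 9 rs (by norm_num)
  -- conjugation relations hold exactly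
  have conjRel : ∀ {x y : ↥(centralizer ({z} : Set G))} {γ δ : ↥Cfsg.Spor.M22} (k n : ℕ),
      x ∈ Outer.cP z P → y ∈ Outer.cP z P → e x = MulAut.conj γ → e y = MulAut.conj δ →
      γ * δ = δ ^ k * γ → d.ρ y ^ n = 1 → n.Coprime 3 →
      d.ρ x * d.ρ y = d.ρ y ^ k * d.ρ x := by
    intro x y γ δ k n hx hy ex ey hrel hn hcop
    have hmem : x * y * x⁻¹ * (y ^ k)⁻¹ ∈ Outer.cP z P :=
      mul_mem (mul_mem (mul_mem hx hy) (inv_mem hx)) (inv_mem (pow_mem hy k))
    have he1 : e (x * y * x⁻¹ * (y ^ k)⁻¹) = 1 := by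
      rw [map_mul, map_mul, map_mul, map_inv, map_inv, map_pow, ex, ey, ← map_mul, hrel, map_mul,
        map_pow]
      group
    obtain ⟨h3, hcm⟩ := hq3 (hker _ hmem he1)
    set q := d.ρ (x * y * x⁻¹ * (y ^ k)⁻¹) with hqd
    have hxy : d.ρ x * d.ρ y * (d.ρ x)⁻¹ = q * d.ρ y ^ k := by
      rw [hqd, map_mul, map_mul, map_mul, map_inv, map_inv, map_pow]; group
    have hq : q = 1 := by
      refine eq_one_of_coprime_pow h3 ?_ hcop
      have h1 : (d.ρ x * d.ρ y * (d.ρ x)⁻¹) ^ n = 1 := by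
        rw [← MulAut.conj_apply, ← map_pow, hn, map_one]
      rw [hxy, (hcm _ ((hcomm y hy).pow_right k)).mul_pow, ← pow_mul, mul_comm k, pow_mul, hn,
        one_pow, mul_one] at h1
      exact h1
    rw [hq, one_mul, mul_inv_eq_iff_eq_mul] at hxy
    exact hxy
  have hcbρ : d.ρ c * d.ρ b = d.ρ b ^ 4 * d.ρ c :=
    conjRel 4 11 hcC hbC ec eb rcb hb11 (by norm_num)
  have hscρ : d.ρ s * d.ρ c = d.ρ c ^ 2 * d.ρ s :=
    conjRel 2 5 hsC hcC es ec rsc hc5 (by norm_num)
  have hbne : d.ρ b ≠ 1 := by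
    intro h1
    have hN : (b : G) ∈ N := o.hEN ((d.mem_ker_iff).1 h1)
    have : e b = 1 := (o.e_one_iff d).2 hN
    rw [eb] at this
    refine rne (noncomm_M22 γb (Subgroup.mem_center_iff.2 fun x => ?_))
    have h2 := congrArg (fun f : MulAut ↥Cfsg.Spor.M22 => f x) this
    simp only [MulAut.conj_apply, MulAut.one_apply] at h2
    exact (mul_inv_eq_iff_eq_mul.1 h2).symm
  have setup : Setup (Bar E) w (d.ρ b) (d.ρ c) :=
    { exp := d.sq_bar
      card := d.card_bar
      w3 := fun m => by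
        have : (w ^ 3) m = m := by rw [hw3]; rfl
        simpa [pow_succ] using this
      wfpf := hwfpf
      b11 := hb11
      bne := hbne
      c5 := hc5
      cb := hcbρ
      wb := hcomm b hbC
      wc := hcomm c hcC }
  have relmem : ∀ (x : ↥(centralizer ({z} : Set G))) (_ : x ∈ Outer.cP z P) (γ : ↥Cfsg.Spor.M22),
      e x = MulAut.conj γ → γ ^ 6 = 1 → ∀ m, (d.ρ x ^ 6) m ∈ ({m, w m, w (w m)} : Set (Bar E)) := by
    intro x hx γ ex hγ m
    rw [← map_pow]
    rcases hker (x ^ 6) (pow_mem hx 6) (by rw [map_pow, ex, ← map_pow, hγ, map_one]) with h | h | h <;>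
      rw [h] <;> simp
  obtain ⟨F, w', hw', hW, hB, hC, hS⟩ := setup.exists_frame hs4 hscρ (hcomm s hsC) fun m =>
    ⟨by
      rw [← map_mul]
      exact relmem _ (mul_mem hbC hsC) _ (by rw [map_mul, eb, es, ← map_mul]) rbs m,
    by
      rw [← map_mul]
      exact relmem _ (mul_mem hsC hbC) _ (by rw [map_mul, eb, es, ← map_mul]) rsb m⟩
  obtain ⟨q, hqC, hqP, hqw, hqf⟩ : ∃ q ∈ Outer.cP z P, (q : G) ∈ P ∧ d.ρ q = w' ∧
      ∀ m, w' m = m → m = 1 := by
    rcases hw' with rfl | rfl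
    · exact ⟨pH, hpC, hp, rfl, hwfpf⟩
    · refine ⟨pH * pH, mul_mem hpC hpC, mul_mem hp hp, map_mul _ _ _, fun m hm => hwfpf m ?_⟩
      have := congrArg w hm
      rw [MulAut.mul_apply, setup.w3] at this
      exact this.symm
  refine ⟨⟨F, fun i => match i with | 0 => b | 1 => c | 2 => s | _ => q, ?_, ?_, hqP, ?_⟩⟩
  · intro i; match i with
    | 0 => exact hbC
    | 1 => exact hcC
    | 2 => exact hsC
    | _ + 3 => exact hqC
  · intro i; match i with
    | 0 => exact hB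
    | 1 => exact hC
    | 2 => exact hS
    | _ + 3 =>
      show F.Mat (d.ρ q) mW
      rw [hqw]; exact hW
  · show ∀ m, d.ρ q m = m → m = 1
    rw [hqw]; exact hqf

end Cfsg.Agent.H69.J4
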