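import Cfsg.Agent.H69.J4.RigidBase

/-!
Rigidity, second part: every realisation of the relations is the model.
-/

set_option autoImplicit false

namespace Cfsg.Agent.H69.J4

variable {M : Type*} [CommGroup M]

theorem lin_congr_map {N : Type*} (f g : N → M) : ∀ l : List N, (∀ x ∈ l, f x = g x) →
    l.map f = l.map g := fun _ => List.map_congr_left

theorem mB_iter_lt : ((List.range 10).all fun i =>
    Nat.blt (mC.getD i 0) 1024 && Nat.blt (mW.getD i 0) 1024) = true := by decide +kernel

theorem take_lists : mC.take 10 = (List.range 10).map (fun i => mC.getD i 0) ∧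
    mW.take 10 = (List.range 10).map (fun i => mW.getD i 0) := by decide +kernel

namespace Setup

variable {w b c : MulAut M} (h : Setup M w b c) {y a : M}
include h

theorem tr_lin (hy : tr11 b y = 1) (ha : b a = a) (wa : b (w a) = w a) (v : ℕ) :
    tr11 b (lin (kImg b y ++ [a, w a]) v) = lin [a, w a] (v / 1024) := by
  rw [lin_append, map_mul, h.psi_tr hy, one_mul, show (kImg b y).length = 10 by simp [kImg],
    show (2 : ℕ) ^ 10 = 1024 from rfl, ← lin_map (tr11 b)]
  simp [h.tr_fixed ha, h.tr_fixed wa]

theorem exists_wframe : ∃ (F : Frame M) (w' : MulAut M), (w' = w ∨ w' = w * w) ∧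
    F.Mat w' mW ∧ F.Mat b mB ∧ F.Mat c mC := by
  obtain ⟨y, hy, hcy, hne⟩ := h.exists_y
  have hwb : ∀ x, b (w x) = w (b x) := fun x => (DFunLike.congr_fun h.wb x).symm
  have hwc : ∀ x, c (w x) = w (c x) := fun x => (DFunLike.congr_fun h.wc x).symm
  have hwtr : ∀ x, tr11 b (w x) = w (tr11 b x) := h.tr_comm h.wb
  obtain ⟨v, hv, hvy⟩ := h.psi_surj hy hne (m := w y) (by rw [hwtr, hy, map_one])
  -- `v` is fixed by `mC`
  have hcpsi : ∀ u, c (lin (kImg b y) u) = lin (kImg b y) (ap (mC.take 10) u) := by
    intro u
    rw [← lin_map c, ← lin_ap h.exp, take_lists.1]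
    congr 1
    simp only [kImg, List.map_map]
    refine List.map_congr_left fun i hi => ?_
    simp only [Function.comp_apply]
    rw [← MulAut.mul_apply, h.c_pow, MulAut.mul_apply, hcy, h.psi_pow_one hy,
      Nat.eq_of_beq_eq_true ((List.all_eq_true.1 mC_iter) i hi)]
    rfl
  have hCv : ap mC v = v := by
    have h1 : lin (kImg b y) (ap (mC.take 10) v) = lin (kImg b y) v := by
      rw [← hcpsi, hvy, hwc, hcy]
    have hlt : ap (mC.take 10) v < 1024 := ap_lt (n := 10) (fun a ha => by
      rw [take_lists.1, List.mem_map] at ha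
      obtain ⟨i, hi, rfl⟩ := ha
      have := (List.all_eq_true.1 mB_iter_lt) i hi
      simp only [Bool.and_eq_true, Nat.blt_eq] at this
      exact this.1) v
    have e : ap (mC.take 10) v = v := Nat.xor_eq_zero_iff.1 <| h.psi_inj hy hne
      (Nat.xor_lt_two_pow (n := 10) hlt hv) (by rw [lin_xor h.exp, h1, h.exp])
    conv_lhs => rw [split_lists.2.1]
    rw [show ∀ l l', ap (l ++ l') v = ap l v ^^^ ap l' (v / 2 ^ l.length) from ?_]
    · rw [e, show (mC.take 10).length = 10 from rfl, show (2 : ℕ) ^ 10 = 1024 from rfl, Nat.div_eq_of_lt hv, ap_zero_right, Nat.xor_zero]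
    · intro l l'
      generalize v = u
      induction l generalizing u with
      | nil => simp [ap]
      | cons a as ih =>
        rw [List.cons_append, ap, ap, ih, Nat.xor_assoc, List.length_cons, Nat.div_div_eq_div_mul,
          show 2 * 2 ^ as.length = 2 ^ (as.length + 1) by rw [pow_succ']]
  have hvcases : v = 570 ∨ v = 571 := by
    have hm : v ∈ [0, 1, 570, 571] := by
      rw [← fix_C, List.mem_filter]
      exact ⟨List.mem_range.2 hv, by rw [hCv]; exact Nat.beq_refl v⟩
    simp only [List.mem_cons, List.not_mem_nil, or_false] at hm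
    rcases hm with rfl | rfl | e | e
    · exact absurd (w.injective (hvy.symm.trans ((lin_zero _).trans (map_one w).symm))) hne
    · rw [h.psi_one] at hvy
      exact absurd (h.wfpf y hvy.symm) hne
    · exact Or.inl e
    · exact Or.inr e
  -- the generator sending `y` to the vector `570`
  obtain ⟨w', hw', hw'y⟩ : ∃ w', (w' = w ∨ w' = w * w) ∧ w' y = lin (kImg b y) 570 := by
    rcases hvcases with rfl | rfl
    · exact ⟨w, Or.inl rfl, hvy.symm⟩
    · refine ⟨w * w, Or.inr rfl, ?_⟩
      conv_rhs => rw [← w571_iter, ← lin_ap h.exp]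
      rw [MulAut.mul_apply, ← hvy, ← lin_map w]
      congr 1
      simp only [kImg, List.map_map]
      refine List.map_congr_left fun i _ => ?_
      simp only [Function.comp_apply]
      rw [h.comm_pow_apply h.wb, ← hvy, h.psi_pow hy]
      rfl
  obtain ⟨a, ha, hane⟩ := h.exists_a
  have hw'b : Commute w' b := by
    rcases hw' with rfl | rfl
    · exact h.wb
    · exact (Commute.mul_left h.wb h.wb : Commute (w * w) b)
  have hw'3 : ∀ m, w' (w' (w' m)) = m := by
    rcases hw' with rfl | rfl
    · exact h.w3
    · intro m; simp only [MulAut.mul_apply, h.w3]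
  have hw'f : ∀ m, w' m = m → m = 1 := by
    rcases hw' with rfl | rfl
    · exact h.wfpf
    · intro m hm
      refine h.wfpf m ?_
      have := congrArg w hm
      rw [MulAut.mul_apply, h.w3] at this
      exact this.symm
  have hbw' : b (w' a) = w' a := by rw [← MulAut.mul_apply, ← hw'b.eq, MulAut.mul_apply, ha]
  have hlen : (kImg b y).length = 10 := by simp [kImg]
  set img := kImg b y ++ [a, w' a] with himg
  have htr : ∀ u, tr11 b (lin img u) = lin [a, w' a] (u / 1024) := fun u => by
    rw [himg, lin_append, map_mul, h.psi_tr hy, one_mul, hlen, show (2 : ℕ) ^ 10 = 1024 from rfl,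
      ← lin_map (tr11 b)]
    simp [h.tr_fixed ha, h.tr_fixed hbw']
  have hinj0 : ∀ u < 4096, lin img u = 1 → u = 0 := by
    intro u hu he
    have h4 : u / 1024 < 4 := by omega
    have ht := htr u
    rw [he, map_one] at ht
    have hq : u / 1024 = 0 := by
      interval_cases hk : u / 1024
      · rfl
      all_goals exfalso; simp [lin, beq_zero_one, beq_one_one] at ht
      · exact hane ht.symm
      · exact hane (w'.injective (ht.symm.trans (map_one w').symm))
      · refine hane (hw'f a ?_)
        have := congrArg (a * ·) ht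
        simpa [← mul_assoc, h.exp] using this.symm
    refine h.psi_inj hy hne (by omega) ?_
    rw [himg, lin_append, hlen, show (2 : ℕ) ^ 10 = 1024 from rfl, hq, lin_zero, mul_one] at he
    exact he
  have hinj : ∀ u < 4096, ∀ u' < 4096, lin img u = lin img u' → u = u' := fun u hu u' hu' e =>
    Nat.xor_eq_zero_iff.1 <| hinj0 _ (Nat.xor_lt_two_pow (n := 12) hu hu') (by
      rw [lin_xor h.exp, e, h.exp])
  haveI := h.finite
  have hsurj : ∀ m, ∃ u < 4096, lin img u = m := by
    intro m
    have hg : Function.Injective (fun u : Fin 4096 => lin img u) := fun u u' e =>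
      Fin.ext (hinj u u.2 u' u'.2 e)
    obtain ⟨u, hu⟩ := (hg.bijective_of_nat_card_le (by simp [h.card])).2 m
    exact ⟨u, u.2, hu⟩
  let F : Frame M := ⟨img, by simp [himg, hlen], h.exp, hinj, hsurj⟩
  have hsmall : ∀ u < 1024, F.φ u = lin (kImg b y) u := fun u hu => by
    show lin img u = _
    rw [himg, lin_append, hlen, Nat.div_eq_of_lt (by simpa using hu), lin_zero, mul_one]
  have hφa : F.φ 1024 = a ∧ F.φ 2048 = w' a ∧ F.φ 3072 = a * w' a := by
    refine ⟨?_, ?_, ?_⟩ <;>
      · show lin img _ = _
        rw [himg, lin_append, hlen]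
        simp [kImg, lin, List.range_succ, beq_zero_one, beq_one_one]
  refine ⟨F, w', hw', ?_, ?_, ?_⟩
  · show img.map w' = mW.map F.φ
    rw [split_lists.2.2, himg, List.map_append, List.map_append, take_lists.2]
    congr 1
    · simp only [kImg, List.map_map]
      refine List.map_congr_left fun i hi => ?_
      have hb := (List.all_eq_true.1 mB_iter_lt) i hi
      simp only [Bool.and_eq_true, Nat.blt_eq] at hb
      simp only [Function.comp_apply]
      rw [hsmall _ hb.2, h.comm_pow_apply hw'b, hw'y, h.psi_pow hy,
        Nat.eq_of_beq_eq_true ((List.all_eq_true.1 mW_iter) i hi)]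
    · simp only [List.map_cons, List.map_nil, hφa.2.1, hφa.2.2]
      have : w' (w' a) = a * w' a := by
        have ht : a * w' a * w' (w' a) = 1 := by
          refine hw'f _ ?_
          rw [map_mul, map_mul, hw'3]
          ac_rfl
        have := congrArg (a * w' a * ·) ht
        simpa [← mul_assoc, h.exp] using this
      rw [this]
  · show img.map b = mB.map F.φ
    rw [split_lists.1, himg, List.map_append, List.map_append]
    congr 1
    · rw [h.kImg_map_b hy]
      refine List.map_congr_left fun x hx => (hsmall x ?_).symm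
      simp [mB] at hx
      omega
    · simp [hφa.1, hφa.2.1, ha, hbw']
  · show img.map c = mC.map F.φ
    rw [split_lists.2.1, himg, List.map_append, List.map_append, take_lists.1]
    congr 1
    · simp only [kImg, List.map_map]
      refine List.map_congr_left fun i hi => ?_
      have hb := (List.all_eq_true.1 mB_iter_lt) i hi
      simp only [Bool.and_eq_true, Nat.blt_eq] at hb
      simp only [Function.comp_apply]
      rw [hsmall _ hb.1, ← MulAut.mul_apply, h.c_pow, MulAut.mul_apply, hcy, h.psi_pow_one hy,
        Nat.eq_of_beq_eq_true ((List.all_eq_true.1 mC_iter) i hi)]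
    · simp [hφa.1, hφa.2.1, h.c_fix ha, h.c_fix hbw']

end Setup

end Cfsg.Agent.H69.J4
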