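import Cfsg.Agent.H69.J4.Frame

/-!
Rigidity, first part: coordinates adapted to the elements of orders eleven, five and three.
-/

set_option autoImplicit false

namespace Cfsg.Agent.H69.J4

variable {M : Type*} [CommGroup M]

/-- Data of the rigidity lemma. -/
structure Setup (M : Type*) [CommGroup M] (w b c : MulAut M) : Prop where
  exp : ∀ m : M, m * m = 1
  card : Nat.card M = 4096
  w3 : ∀ m, w (w (w m)) = m
  wfpf : ∀ m, w m = m → m = 1
  b11 : b ^ 11 = 1
  bne : b ≠ 1
  c5 : c ^ 5 = 1
  cb : c * b = b ^ 4 * c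
  wb : w * b = b * w
  wc : w * c = c * w

theorem card_modEq_fix [Finite M] {p : ℕ} [Fact p.Prime] {f : MulAut M} (hf : f ^ p = 1) :
    Nat.card M ≡ Nat.card {m : M // f m = m} [MOD p] := by
  have hp : IsPGroup p (Subgroup.zpowers f) := by
    rintro ⟨_, k, rfl⟩
    refine ⟨1, Subtype.ext ?_⟩
    simp only [pow_one, SubmonoidClass.coe_pow, OneMemClass.coe_one]
    rw [← zpow_natCast (f ^ k), ← zpow_mul, mul_comm, zpow_mul, zpow_natCast, hf, one_zpow]
  haveI : Finite (Subgroup.zpowers f) := Finite.of_injective (fun x => ((x : MulAut M) : M → M))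
    fun x y h => Subtype.ext (DFunLike.coe_injective h)
  have he : Nat.card (MulAction.fixedPoints (Subgroup.zpowers f) M) = Nat.card {m : M // f m = m} := ?_
  · rw [← he]; exact hp.card_modEq_card_fixedPoints M
  refine Nat.card_congr (Equiv.subtypeEquivRight fun m => ⟨fun h => h ⟨f, Subgroup.mem_zpowers f⟩,
    fun h => ?_⟩)
  rintro ⟨g, hg⟩
  show g m = m
  have : Subgroup.zpowers f ≤ MulAction.stabilizer (MulAut M) m := Subgroup.zpowers_le.2 h
  exact this hg

/-- The fixed subgroup of an automorphism. -/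
def fixSub (f : MulAut M) : Subgroup M where
  carrier := {m | f m = m}
  one_mem' := map_one f
  mul_mem' := fun {a b} ha hb => by simp only [Set.mem_setOf_eq] at *; rw [map_mul, ha, hb]
  inv_mem' := fun {a} ha => by simp only [Set.mem_setOf_eq] at *; rw [map_inv, ha]

/-- The trace of an element of order eleven. -/
def tr11 (b : MulAut M) : M →* M where
  toFun m := ∏ i ∈ Finset.range 11, (b ^ i) m
  map_one' := by simp
  map_mul' x y := by simp [Finset.prod_mul_distrib]

theorem tr11_apply (b : MulAut M) (m : M) : tr11 b m = ∏ i ∈ Finset.range 11, (b ^ i) m := rfl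

/-- Powers of `b` at `y`, as the first ten images of the unit vectors. -/
def kImg (b : MulAut M) (y : M) : List M := (List.range 10).map fun i => (b ^ i) y

theorem mx_eq : ((List.range 1024).all fun v =>
    Nat.beq (ap (mB.take 10) v) (mx v) && Nat.blt (mx v) 1024) = true := by decide +kernel

/-- The iterates of the first unit vector. -/
theorem mC_iter : ((List.range 10).all fun i =>
    Nat.beq ((fun v => ap (mB.take 10) v)^[4 * i] 1) (mC.getD i 0)) = true := by decide +kernel

theorem mW_iter : ((List.range 10).all fun i =>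
    Nat.beq ((fun v => ap (mB.take 10) v)^[i] 570) (mW.getD i 0)) = true := by decide +kernel

theorem w571_iter : ap ((List.range 10).map fun i => (fun v => ap (mB.take 10) v)^[i] 571) 571 = 570 := by
  decide +kernel

theorem split_lists : mB = mB.take 10 ++ [1024, 2048] ∧ mC = mC.take 10 ++ [1024, 2048] ∧
    mW = mW.take 10 ++ [2048, 3072] := by decide +kernel

namespace Setup

variable {w b c : MulAut M} (h : Setup M w b c)
include h

theorem finite : Finite M := Nat.finite_of_card_ne_zero (by rw [h.card]; norm_num)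

theorem b_pow_eleven (m : M) (n : ℕ) : (b ^ (n + 11)) m = (b ^ n) m := by
  rw [pow_add, h.b11, mul_one]

theorem pow_eleven (m : M) : m ^ 11 = m := by
  have h2 : m ^ 2 = 1 := by rw [sq]; exact h.exp m
  rw [show (11 : ℕ) = 2 * 5 + 1 from rfl, pow_succ, pow_mul, h2, one_pow, one_mul]

theorem b_tr (m : M) : b (tr11 b m) = tr11 b m := by
  rw [tr11_apply, map_prod]
  have e : ∀ i, b ((b ^ i) m) = (b ^ (i + 1)) m := fun i => by rw [pow_succ']; rfl
  simp only [e]
  rw [Finset.prod_range_succ (fun i => (b ^ (i + 1)) m) 10,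
    Finset.prod_range_succ' (fun i => (b ^ i) m) 10,
    show (b ^ (10 + 1)) m = (b ^ 0) m by simpa using h.b_pow_eleven m 0]

theorem tr_fixed {m : M} (hm : b m = m) : tr11 b m = m := by
  have e : ∀ i, (b ^ i) m = m := fun i => by
    induction i with
    | zero => rfl
    | succ i ih => rw [pow_succ, MulAut.mul_apply, hm, ih]
  rw [tr11_apply]
  simp only [e, Finset.prod_const, Finset.card_range]
  exact h.pow_eleven m

theorem card_fix : Nat.card (fixSub b) = 4 := by
  haveI := h.finite
  haveI : Fact (Nat.Prime 11) := ⟨by norm_num⟩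
  have h1 := card_modEq_fix h.b11
  rw [h.card] at h1
  have h2 : Nat.card (fixSub b) ∣ 2 ^ 12 := by
    have := Subgroup.card_subgroup_dvd_card (fixSub b); rwa [h.card] at this
  obtain ⟨k, hk, hk'⟩ := (Nat.dvd_prime_pow Nat.prime_two).1 h2
  have e : Nat.card {m : M // b m = m} = 2 ^ k := hk'
  rw [e] at h1
  have hne : k ≠ 12 := by
    rintro rfl
    apply h.bne
    have : fixSub b = ⊤ := Subgroup.eq_top_of_card_eq _ (by rw [hk', h.card]; norm_num)
    ext m
    have hm : m ∈ fixSub b := this.symm ▸ Subgroup.mem_top m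
    exact hm
  rw [hk']
  have : k = 2 := by
    interval_cases k <;> simp_all [Nat.ModEq]
  rw [this]; norm_num

theorem ker_card : Nat.card (tr11 b).ker = 1024 := by
  have hr : (tr11 b).range = fixSub b := by
    ext m
    constructor
    · rintro ⟨x, rfl⟩; exact h.b_tr x
    · exact fun hm => ⟨m, h.tr_fixed hm⟩
  have h1 := Subgroup.card_mul_index (tr11 b).ker
  rw [Subgroup.index_ker, h.card, hr, h.card_fix] at h1
  omega

theorem comm_pow_apply {f : MulAut M} (hf : Commute f b) (i : ℕ) (m : M) :
    f ((b ^ i) m) = (b ^ i) (f m) := DFunLike.congr_fun (hf.pow_right i).eq m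

theorem tr_comm {f : MulAut M} (hf : Commute f b) (m : M) : tr11 b (f m) = f (tr11 b m) := by
  rw [tr11_apply, tr11_apply, map_prod]
  exact Finset.prod_congr rfl fun i _ => (h.comm_pow_apply hf i m).symm

theorem c_pow (i : ℕ) : c * b ^ i = b ^ (4 * i) * c := by
  induction i with
  | zero => simp
  | succ i ih => rw [pow_succ, ← mul_assoc, ih, mul_assoc, h.cb, ← mul_assoc, ← pow_add]; rfl

theorem c_fixes {m : M} (hm : b m = m) : b (c m) = c m := by
  have e : b ^ 4 * c = c * b := h.cb.symm
  have h4 : (b ^ 4) (c m) = c m := by rw [← MulAut.mul_apply, e, MulAut.mul_apply, hm]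
  have h12 : (b ^ 12) (c m) = c m := by
    rw [show 12 = 4 + 4 + 4 from rfl, pow_add, pow_add, MulAut.mul_apply, MulAut.mul_apply, h4, h4, h4]
  rwa [show 12 = 1 + 11 from rfl, h.b_pow_eleven, pow_one] at h12

theorem w_two (m : M) : m * w m * w (w m) = 1 := by
  refine h.wfpf _ ?_
  rw [map_mul, map_mul, h.w3]
  ac_rfl

theorem exists_a : ∃ a, b a = a ∧ a ≠ 1 := by
  haveI := h.finite
  haveI : Nontrivial (fixSub b) := Finite.one_lt_card_iff_nontrivial.1
    (by rw [h.card_fix]; norm_num : 1 < Nat.card (fixSub b))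
  obtain ⟨⟨a, ha⟩, hne⟩ := exists_ne (1 : fixSub b)
  exact ⟨a, ha, fun e => hne (Subtype.ext e)⟩

theorem fix_cases {a m : M} (ha : b a = a) (hne : a ≠ 1) (hm : b m = m) :
    m = 1 ∨ m = a ∨ m = w a ∨ m = w (w a) := by
  haveI := h.finite
  classical
  haveI := Fintype.ofFinite (fixSub b)
  by_contra hh
  push Not at hh
  obtain ⟨h1, h2, h3, h4⟩ := hh
  have wf : ∀ {x}, b x = x → b (w x) = w x := fun {x} hx => by
    rw [← MulAut.mul_apply, ← h.wb, MulAut.mul_apply, hx]
  have d1 : w a ≠ a := fun e => hne (h.wfpf a e)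
  have d2 : w a ≠ 1 := fun e => hne (w.injective (by rw [e, map_one]))
  have d3 : w (w a) ≠ 1 := fun e => d2 (w.injective (by rw [e, map_one]))
  have d4 : w (w a) ≠ a := fun e => d1 (by
    have := h.w3 a; rw [e] at this; exact this)
  have d5 : w (w a) ≠ w a := fun e => d1 (w.injective e)
  have hc : ({1, a, w a, w (w a), m} : Finset M).card = 5 := by
    repeat rw [Finset.card_insert_of_notMem]
    all_goals simp [hne.symm, d1.symm, d2.symm, d3.symm, d4.symm, d5.symm, h1.symm, h2.symm, h3.symm,
      h4.symm]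
  have hle : ({1, a, w a, w (w a), m} : Finset M).card ≤ Nat.card (fixSub b) := by
    rw [← Nat.card_eq_finsetCard]
    refine Nat.card_le_card_of_injective
      (fun x => (⟨x.1, show b x.1 = x.1 from ?_⟩ : fixSub b))
      fun x y e => Subtype.ext (congrArg (fun v : fixSub b => (v : M)) e)
    have hx := x.2
    simp only [Finset.mem_insert, Finset.mem_singleton] at hx
    rcases hx with e | e | e | e | e <;> rw [e]
    exacts [map_one b, ha, wf ha, wf (wf ha), hm]
  rw [hc, h.card_fix] at hle
  omega

theorem c_fix {m : M} (hm : b m = m) : c m = m := by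
  rcases eq_or_ne m 1 with rfl | hne
  · exact map_one c
  have hcw : ∀ x, c (w x) = w (c x) := fun x => (DFunLike.congr_fun h.wc x).symm
  have h5 : c (c (c (c (c m)))) = m := DFunLike.congr_fun h.c5 m
  rcases h.fix_cases hm hne (h.c_fixes hm) with e | e | e | e
  · exact absurd (c.injective (e.trans (map_one c).symm)) hne
  · exact e
  · exfalso
    simp only [e, hcw, h.w3] at h5
    refine hne (h.wfpf m ?_)
    have := congrArg w h5
    rw [h.w3] at this
    exact this.symm
  · exfalso
    simp only [e, hcw, h.w3] at h5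
    exact hne (h.wfpf m h5)

/-- A vector of trace one fixed by `c`, and not one. -/
theorem exists_y : ∃ y, tr11 b y = 1 ∧ c y = y ∧ y ≠ 1 := by
  haveI := h.finite
  haveI : Fact (Nat.Prime 5) := ⟨by norm_num⟩
  have h1 := card_modEq_fix h.c5
  rw [h.card] at h1
  obtain ⟨m, hm, hmb⟩ : ∃ m, c m = m ∧ b m ≠ m := by
    by_contra hh
    push Not at hh
    have e : Nat.card {m : M // c m = m} = Nat.card (fixSub b) :=
      Nat.card_congr (Equiv.subtypeEquivRight fun m => ⟨hh m, h.c_fix⟩)
    rw [e, h.card_fix] at h1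
    exact absurd h1 (by decide)
  refine ⟨m * tr11 b m, ?_, ?_, fun e => hmb ?_⟩
  · rw [map_mul, h.tr_fixed (h.b_tr m), h.exp]
  · rw [map_mul, hm, h.c_fix (h.b_tr m)]
  · have : m = tr11 b m := by
      have := congrArg (· * tr11 b m) e
      simpa [mul_assoc, h.exp] using this
    rw [this]; exact h.b_tr m

variable {y : M}

theorem kImg_map_b (hy : tr11 b y = 1) :
    (kImg b y).map b = (mB.take 10).map (lin (kImg b y)) := by
  have key : (b ^ 10) y = lin (kImg b y) 1023 := by
    rw [tr11_apply, Finset.prod_range_succ] at hy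
    have := congrArg (· * (b ^ 10) y) hy
    simp only [mul_assoc, h.exp, mul_one, one_mul] at this
    rw [← this]
    simp [kImg, lin, Finset.prod_range_succ, List.range_succ, mul_assoc, beq_zero_one, beq_one_one]
  have e : ∀ i, b ((b ^ i) y) = (b ^ (i + 1)) y := fun i => by rw [pow_succ']; rfl
  simp only [kImg, List.range_succ, List.range_zero, List.nil_append, List.cons_append, List.map_cons,
    List.map_nil, e] at key ⊢
  simp [mB, lin, key, beq_zero_one, beq_one_one]

theorem psi_b (hy : tr11 b y = 1) (v : ℕ) :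
    b (lin (kImg b y) v) = lin (kImg b y) (ap (mB.take 10) v) := by
  rw [← lin_map b, h.kImg_map_b hy, lin_ap h.exp]

theorem psi_pow (hy : tr11 b y = 1) (n v : ℕ) : (b ^ n) (lin (kImg b y) v) =
    lin (kImg b y) ((fun u => ap (mB.take 10) u)^[n] v) := by
  induction n with
  | zero => rfl
  | succ n ih => rw [pow_succ', MulAut.mul_apply, ih, h.psi_b hy, Function.iterate_succ_apply']

theorem psi_one : lin (kImg b y) 1 = y := by
  simp [kImg, lin, List.range_succ, beq_zero_one, beq_one_one]

theorem psi_pow_one (hy : tr11 b y = 1) (n : ℕ) :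
    (b ^ n) y = lin (kImg b y) ((fun u => ap (mB.take 10) u)^[n] 1) := by
  rw [← h.psi_pow hy, psi_one h]

theorem psi_tr (hy : tr11 b y = 1) (v : ℕ) : tr11 b (lin (kImg b y) v) = 1 := by
  rw [← lin_map (tr11 b)]
  have : (kImg b y).map (tr11 b) = (kImg b y).map fun _ => (1 : M) := by
    simp only [kImg, List.map_map]
    refine List.map_congr_left fun i _ => ?_
    simp only [Function.comp_apply]
    rw [h.tr_comm (Commute.refl b |>.pow_left i), hy, map_one]
  rw [this]
  clear this
  induction kImg b y generalizing v with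
  | nil => rfl
  | cons a as ih => rw [List.map_cons, lin, ih]; simp

theorem psi_mulP (hy : tr11 b y = 1) : ∀ (n v q : ℕ), v < 1024 → lin (kImg b y) v = 1 →
    lin (kImg b y) (mulP n v q) = 1
  | 0, _, _, _, _ => lin_zero _
  | n + 1, v, q, hv, hv1 => by
    have hm := (List.all_eq_true.1 mx_eq) v (List.mem_range.2 hv)
    simp only [Bool.and_eq_true, Nat.blt_eq] at hm
    rw [mulP, lin_xor h.exp, psi_mulP hy n _ _ hm.2 (by
      rw [← Nat.eq_of_beq_eq_true hm.1, ← h.psi_b hy, hv1, map_one])]
    cases Nat.beq (q % 2) 1 <;> simp [hv1, lin_zero]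

theorem psi_inj (hy : tr11 b y = 1) (hne : y ≠ 1) {v : ℕ} (hv : v < 1024)
    (hv1 : lin (kImg b y) v = 1) : v = 0 := by
  by_contra h0
  have hi := (List.all_eq_true.1 inv_ok) v (List.mem_range.2 hv)
  simp only [Bool.or_eq_true] at hi
  have e := Nat.eq_of_beq_eq_true (hi.resolve_left fun e => h0 (Nat.eq_of_beq_eq_true e))
  refine hne ?_
  rw [← psi_one h (b := b) (y := y), ← e]
  exact h.psi_mulP hy _ _ _ hv hv1

theorem psi_surj (hy : tr11 b y = 1) (hne : y ≠ 1) {m : M} (hm : tr11 b m = 1) :
    ∃ v < 1024, lin (kImg b y) v = m := by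
  haveI := h.finite
  let g : Fin 1024 → (tr11 b).ker := fun v => ⟨lin (kImg b y) v, h.psi_tr hy v⟩
  have hg : Function.Injective g := fun u v e => Fin.ext <| Nat.xor_eq_zero_iff.1 <|
    h.psi_inj hy hne (Nat.xor_lt_two_pow (n := 10) u.2 v.2) (by
      rw [lin_xor h.exp]
      have : lin (kImg b y) u = lin (kImg b y) v := congrArg Subtype.val e
      rw [this, h.exp])
  obtain ⟨v, hv⟩ := (hg.bijective_of_nat_card_le (by simpa using h.ker_card.le)).2 ⟨m, hm⟩
  exact ⟨v, v.2, congrArg Subtype.val hv⟩

end Setup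

end Cfsg.Agent.H69.J4
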