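import Cfsg.Agent.H69.J4.Rigid

/-!
Rigidity, third part: the element of order four.
-/

set_option autoImplicit false

namespace Cfsg.Agent.H69.J4

theorem s_lists : (vF.all fun x => Nat.blt x 4096) = true ∧ trC 10 = 0 ∧
    ([mB, mC, mW].all fun l => l.all fun a => Nat.blt a 4096) = true := by decide +kernel

theorem s_fixed : ([1024, 1].all fun x => Nat.beq (ap mC x) x && Nat.blt x 4096) = true := by
  decide +kernel

theorem c_five : mm mC (mm mC (mm mC (mm mC mC))) = mI := by decide +kernel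

theorem ap_one (v : ℕ) (hv : v < 4096) : ap mI v = v := by
  have h : ((List.range 4096).all fun u => Nat.beq (ap mI u) u) = true := by decide +kernel
  exact Nat.eq_of_beq_eq_true ((List.all_eq_true.1 h) v (List.mem_range.2 hv))

theorem ap_take_low : ∀ (l l' : List ℕ) (v : ℕ), v < 2 ^ l.length → ap (l ++ l') v = ap l v
  | [], l', v, hv => by
    have : v = 0 := by simpa using hv
    subst this; simp [ap, ap_zero_right]
  | a :: as, l', v, hv => by
    rw [List.cons_append, ap, ap, ap_take_low as l' (v / 2) (by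
      rw [List.length_cons, pow_succ] at hv; omega)]

theorem ap_drop_zero : ∀ (l l' : List ℕ) (v : ℕ), v % 2 ^ l.length = 0 →
    ap (l ++ l') v = ap l' (v / 2 ^ l.length)
  | [], l', v, _ => by simp
  | a :: as, l', v, hv => by
    rw [List.length_cons, pow_succ'] at hv
    have h2 : v % 2 = 0 := by
      have := Nat.mod_mod_of_dvd v (Dvd.intro (2 ^ as.length) rfl : 2 ∣ 2 * 2 ^ as.length)
      rw [hv] at this; omega
    have h3 : v / 2 % 2 ^ as.length = 0 := by
      rw [Nat.mod_mul_right_div_self v 2 (2 ^ as.length) |>.symm, hv, Nat.zero_div]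
    rw [List.cons_append, ap, h2, beq_zero_one, cond_false, Nat.zero_xor, ap_drop_zero as l' _ h3,
      List.length_cons, Nat.div_div_eq_div_mul, ← pow_succ']

variable {M : Type*} [CommGroup M]

/-- A change of coordinates. -/
def Frame.change (F : Frame M) (D D' : List ℕ) (hD : D.length = 12)
    (hl : ∀ a ∈ D, a < 4096) (hl' : ∀ a ∈ D', a < 4096) (h : mm D D' = mI) (h' : mm D' D = mI) :
    Frame M where
  img := D.map F.φ
  len := by rw [List.length_map, hD]
  exp := F.exp
  inj u hu v hv e := by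
    change lin (D.map (lin F.img)) u = lin (D.map (lin F.img)) v at e
    rw [lin_ap F.exp, lin_ap F.exp] at e
    have e2 := F.inj _ (ap_lt (n := 12) hl u) _ (ap_lt (n := 12) hl v) e
    have := congrArg (ap D') e2
    rwa [← ap_mm, ← ap_mm, h', ap_one u hu, ap_one v hv] at this
  surj m := by
    obtain ⟨v, hv, rfl⟩ := F.surj m
    refine ⟨ap D' v, ap_lt (n := 12) hl' v, ?_⟩
    change lin (D.map (lin F.img)) _ = _
    rw [lin_ap F.exp, ← ap_mm, h, ap_one v hv]

theorem Frame.change_mat {F : Frame M} {D D' : List ℕ} {hD hl hl' h h'} {f : MulAut M} {A A' : List ℕ}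
    (hf : F.Mat f A) (e : mm A D = mm D A') : (F.change D D' hD hl hl' h h').Mat f A' := by
  show (D.map F.φ).map f = A'.map (lin (D.map F.φ))
  rw [List.map_map]
  calc D.map (f ∘ F.φ) = (mm A D).map F.φ := by
        rw [mm, List.map_map]; exact List.map_congr_left fun x _ => hf.apply x
    _ = (mm D A').map F.φ := by rw [e]
    _ = _ := by
        rw [mm, List.map_map]
        exact List.map_congr_left fun x _ => (lin_ap F.exp F.img D x).symm

namespace Setup

variable {w b c : MulAut M} (h : Setup M w b c)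
include h

theorem exists_frame {s : MulAut M} (s4 : s ^ 4 = 1) (sc : s * c = c ^ 2 * s) (ws : w * s = s * w)
    (bs : ∀ m, ((b * s) ^ 6) m ∈ ({m, w m, w (w m)} : Set M) ∧
      ((s * b) ^ 6) m ∈ ({m, w m, w (w m)} : Set M)) :
    ∃ (F : Frame M) (w' : MulAut M), (w' = w ∨ w' = w * w) ∧
      F.Mat w' mW ∧ F.Mat b mB ∧ F.Mat c mC ∧ F.Mat s mS0 := by
  obtain ⟨F, w', hw', hW, hB, hC⟩ := h.exists_wframe
  have hS := F.mat_spec s
  set S := F.mat s with hSdef
  have hSlt : ∀ a ∈ S, a < 4096 := F.mat_lt s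
  have hl := s_lists.2.2
  simp only [List.all_cons, List.all_nil, Bool.and_true, Bool.and_eq_true, List.all_eq_true,
    Nat.blt_eq] at hl
  obtain ⟨hBlt, hClt, hWlt⟩ := hl
  have apLt : ∀ {l : List ℕ}, (∀ a ∈ l, a < 4096) → ∀ v, ap l v < 4096 := fun hl v => ap_lt (n := 12) hl v
  have hws' : w' * s = s * w' := by
    rcases hw' with rfl | rfl
    · exact ws
    · exact ((Commute.mul_left ws ws : Commute (w * w) s)).eq
  -- identities between coordinates
  have eW : mm mW S = mm S mW := Frame.Mat.unique (Frame.mm_lt hWlt) (Frame.mm_lt hSlt) (hW.mul hS)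
    (hws' ▸ hS.mul hW)
  have eC : mm (mm mC mC) S = mm S mC := Frame.Mat.unique (Frame.mm_lt (Frame.mm_lt hClt))
    (Frame.mm_lt hSlt) ((hC.mul hC).mul hS) (by rw [← sq, ← sc]; exact hS.mul hC)
  have sW : ∀ x, ap S (ap mW x) = ap mW (ap S x) := fun x => by rw [← ap_mm, ← eW, ap_mm]
  have sC : ∀ x, ap S (ap mC x) = ap mC (ap mC (ap S x)) := fun x => by
    rw [← ap_mm, ← eC, ap_mm, ap_mm]
  have s4' : ∀ x < 4096, ap S (ap S (ap S (ap S x))) = x := fun x hx => by
    refine F.inj _ (apLt hSlt _) _ hx ?_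
    show F.φ _ = F.φ _
    rw [← hS.apply, ← hS.apply, ← hS.apply, ← hS.apply, ← MulAut.mul_apply, ← MulAut.mul_apply,
      ← MulAut.mul_apply, show s * s * s * s = s ^ 4 by simp [pow_succ], s4, MulAut.one_apply]
  have C5 : ∀ x < 4096, ap mC (ap mC (ap mC (ap mC (ap mC x)))) = x := fun x hx => by
    rw [← ap_mm, ← ap_mm, ← ap_mm, ← ap_mm]
    simp only [mm_assoc]
    rw [c_five]
    exact ap_one x hx
  -- fixed vectors of `mC` go to fixed vectors
  have fixS : ∀ x, ap mC x = x → ap mC (ap S x) = ap S x := fun x hx => by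
    have e := sC x
    rw [hx] at e
    have h5 := C5 _ (apLt hSlt x)
    rw [← e] at h5
    conv_rhs at h5 => rfl
    have h3 : ap mC (ap mC (ap mC (ap S x))) = ap S x := h5
    rw [← e] at h3
    exact h3
  have trS : ∀ x, trC x = 0 → trC (ap S x) = 0 := fun x hx => by
    have hlt := apLt hSlt x
    have e : ap S (trC x) = 0 := by rw [hx, ap_zero_right]
    simp only [trC, ap_xor, sC, C5 _ hlt] at e ⊢
    rw [← e]
    simp only [Nat.xor_comm, Nat.xor_assoc, Nat.xor_left_comm]
  set p := ap S 1024 with hp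
  set q := ap S 1 with hq
  set r := ap S 10 with hr
  have hf := s_fixed
  simp only [List.all_cons, List.all_nil, Bool.and_true, Bool.and_eq_true, Nat.blt_eq] at hf
  obtain ⟨⟨hf1, -⟩, ⟨hf2, -⟩⟩ := hf
  have memF : ∀ x < 4096, ap mC x = x → x ∈ vF := fun x hx e => by
    rw [← vF_eq, List.mem_filter]
    exact ⟨List.mem_range.2 hx, by rw [e]; exact Nat.beq_refl x⟩
  have pF : p ∈ vF := memF _ (apLt hSlt _) (fixS _ (Nat.eq_of_beq_eq_true hf1))
  have qF : q ∈ vF := memF _ (apLt hSlt _) (fixS _ (Nat.eq_of_beq_eq_true hf2))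
  have rR : trC r = 0 := trS 10 trC_ten
  have hSlen : S.length = 12 := hS.len
  have hSI : mm S mI = S := Frame.Mat.unique (Frame.mm_lt hSlt) hSlt
    (by simpa using hS.mul F.mat_one) hS
  have hbas : bas.map (ap S) = imS p q r := by
    rw [bas_eq, imS]
    simp [sW, sC, hp, hq, hr]
  have hSmk : S = mkS p q r := by
    rw [mkS, ← hbas]
    conv_lhs => rw [← hSI, mm, ← masks_bas, List.map_map]
    exact List.map_congr_left fun x _ => (ap_map (ap_xor S) (ap_zero_right S) bas x).symm
  have apS : ∀ x < 4096, ap S x = ap (imS p q r) (ap masks x) := fun x _ => by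
    conv_lhs => rw [hSmk, mkS]
    exact ap_map (ap_xor _) (ap_zero_right _) masks x
  have st0 : ∀ x < 4096, ap mC x = x → ap S x = step0 p q x := fun x hx e => by
    have hc := (List.all_eq_true.1 vF_coord) x (memF x hx e)
    rw [Nat.blt_eq] at hc
    rw [apS x hx, step0, imS]
    exact ap_take_low [p, ap mW p, q, ap mW q] _ _ (by simpa using hc)
  have st1 : ∀ x < 4096, trC x = 0 → ap S x = step1 r x := fun x hx e => by
    have hc := (List.all_eq_true.1 trC_ok) x (List.mem_range.2 hx)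
    rw [e] at hc
    have hc' : ap masks x % 16 = 0 := Nat.eq_of_beq_eq_true (by simpa using hc)
    rw [apS x hx, step1, imS, imS]
    exact ap_drop_zero [p, ap mW p, q, ap mW q] _ _ hc'
  have hpq : (p, q) ∈ vL0 := by
    have hh := (List.all_eq_true.1 ((List.all_eq_true.1 filt0) p pF)) q qF
    have go : ∀ x < 4096, ap mC x = x → step0 p q (step0 p q (step0 p q (step0 p q x))) = x := by
      intro x hx e
      rw [← st0 x hx e, ← st0 _ (apLt hSlt _) (fixS _ e), ← st0 _ (apLt hSlt _) (fixS _ (fixS _ e)),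
        ← st0 _ (apLt hSlt _) (fixS _ (fixS _ (fixS _ e))), s4' x hx]
    rw [go 1024 (by norm_num) (Nat.eq_of_beq_eq_true hf1),
      go 1 (by norm_num) (Nat.eq_of_beq_eq_true hf2)] at hh
    simpa using hh
  have hr1 : r ∈ vL1 := by
    have hh := (List.all_eq_true.1 filt1) r (List.mem_range.2 (apLt hSlt _))
    have go : step1 r (step1 r (step1 r (step1 r 10))) = 10 := by
      rw [← st1 10 (by norm_num) trC_ten, ← st1 _ (apLt hSlt _) (trS _ trC_ten),
        ← st1 _ (apLt hSlt _) (trS _ (trS _ trC_ten)),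
        ← st1 _ (apLt hSlt _) (trS _ (trS _ (trS _ trC_ten))), s4' 10 (by norm_num)]
    rw [go, rR] at hh
    simpa using hh
  have rel : ∀ (X Y : List ℕ) (f g : MulAut M), F.Mat f X → F.Mat g Y → (∀ a ∈ X, a < 4096) →
      (∀ m, ((f * g) ^ 6) m ∈ ({m, w m, w (w m)} : Set M)) → relTest X Y = true := by
    intro X Y f g hX hY hlt hrel
    have e : ∀ x, (f * g) (F.φ x) = F.φ (ap X (ap Y x)) := fun x => by
      rw [MulAut.mul_apply, hY.apply, hX.apply]
    have h10 := hrel (F.φ 10)
    simp only [pow_succ, pow_zero, one_mul, MulAut.mul_apply, hY.apply, hX.apply] at h10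
    have k : ∀ t < 4096, F.φ t ∈ ({F.φ 10, w (F.φ 10), w (w (F.φ 10))} : Set M) →
        t = 10 ∨ t = ap mW 10 ∨ t = ap mW (ap mW 10) := by
      intro t ht hmem
      have hw1 : (w (F.φ 10) = F.φ (ap mW 10) ∧ w (w (F.φ 10)) = F.φ (ap mW (ap mW 10))) ∨
          (w (F.φ 10) = F.φ (ap mW (ap mW 10)) ∧ w (w (F.φ 10)) = F.φ (ap mW 10)) := by
        rcases hw' with rfl | rfl
        · left
          exact ⟨hW.apply 10, by rw [hW.apply, hW.apply]⟩
        · right
          have e1 : w (w (F.φ 10)) = F.φ (ap mW 10) := hW.apply 10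
          refine ⟨?_, e1⟩
          rw [← hW.apply, ← hW.apply, MulAut.mul_apply, MulAut.mul_apply, h.w3]
      simp only [Set.mem_insert_iff, Set.mem_singleton_iff] at hmem
      rcases hw1 with ⟨e1, e2⟩ | ⟨e1, e2⟩ <;> rw [e2, e1] at hmem <;> rcases hmem with e | e | e
      all_goals first
        | exact Or.inl (F.inj _ ht _ (by norm_num) e)
        | exact Or.inr (Or.inl (F.inj _ ht _ (apLt hWlt _) e))
        | exact Or.inr (Or.inr (F.inj _ ht _ (apLt hWlt _) e))
    rcases k _ (apLt hlt _) h10 with e | e | e <;>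
      simp [relTest, e]
  have hcand : S ∈ mCand := by
    have hh := (List.all_eq_true.1 ((List.all_eq_true.1 filt2) (p, q) hpq)) r hr1
    rw [← hSmk, rel mB S b s hB hS hBlt fun m => (bs m).1, rel S mB s b hS hB hSlt fun m => (bs m).2]
      at hh
    simpa using hh
  obtain ⟨i, hi, hiS⟩ := List.getElem_of_mem hcand
  rw [cand_len] at hi
  have hcd := (List.all_eq_true.1 cand_ok) i (List.mem_range.2 hi)
  rw [List.getD_eq_getElem (l := mCand) (hn := cand_len ▸ hi), hiS] at hcd
  simp only [Bool.and_eq_true, List.all_eq_true, Nat.blt_eq, beq_iff_eq] at hcd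
  obtain ⟨⟨⟨⟨⟨⟨⟨⟨⟨hD, hDl⟩, hD'⟩, hDl'⟩, e1⟩, e2⟩, e3⟩, e4⟩, e5⟩, e6⟩ := hcd
  refine ⟨F.change (mD.getD i []) (mDinv.getD i []) (Nat.eq_of_beq_eq_true hD) hDl hDl' e5 e6, w', hw',
    Frame.change_mat hW e4.symm, Frame.change_mat hB e2.symm, Frame.change_mat hC e3.symm,
    Frame.change_mat hS e1⟩

end Setup

end Cfsg.Agent.H69.J4
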