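import Cfsg.Agent.H9.LargeExtraBasic
import Cfsg.Agent.H76.Extraspecial
import Cfsg.Prelude.Def_JankoFourType

/-!
The local setting of a group of `J₄` type: the action of `H = C(z)` on `E / Z(E)`.
-/

set_option autoImplicit false

namespace Cfsg.Agent.H69.J4

open Subgroup
open Cfsg.Agent.H9 (LargeData)

variable {G : Type*} [Group G]

/-- The hypotheses at `z` and `P`, unfolded. -/
structure Data (z : G) (E P : Subgroup G) : Prop where
  L : LargeData z E
  cardE : Nat.card E = 2 ^ 13
  cardP : Nat.card P = 3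
  hPH : P ≤ centralizer ({z} : Set G)
  fixP : ∀ e ∈ E, (∀ p ∈ P, p * e = e * p) → e = 1 ∨ e = z

theorem data_of_type {z : G} {P : Subgroup G} (h : Cfsg.IsOfJankoFourTypeWith z P) :
    Data z (Cfsg.twoCoreOfCentralizer z) P := by
  obtain ⟨hz, hext, hcard, hcent, ⟨N, -, hNH, -, -, -, hPN⟩, hP, hfix, -, -⟩ := h
  have hzz : z * z = 1 := by rw [← sq, ← hz]; exact pow_orderOf_eq_one z
  have hzE : z ∈ Cfsg.twoCoreOfCentralizer z := by
    have : z ∈ zpowers z := mem_zpowers z
    rw [← hfix] at this
    exact this.1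
  refine ⟨⟨hz, rfl, hext, fun c hc => hcent ⟨?_, hc⟩⟩, hcard, hP, hPN.trans hNH, fun e he hc => ?_⟩
  · exact mem_centralizer_singleton_iff.2 (mem_centralizer_iff.1 hc z hzE).symm
  · have : e ∈ zpowers z := hfix ▸ ⟨he, mem_centralizer_iff.2 hc⟩
    obtain ⟨k, rfl⟩ := this
    rcases Int.even_or_odd' k with ⟨t, rfl | rfl⟩
    · left; show z ^ _ = _; rw [zpow_mul, zpow_two, hzz, one_zpow]
    · right; show z ^ _ = _; rw [zpow_add, zpow_mul, zpow_two, hzz, one_zpow, one_mul, zpow_one]

/-- The quotient of `E` by its centre. -/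
abbrev Bar (E : Subgroup G) : Type _ := ↥E ⧸ center ↥E

namespace Data

variable {z : G} {E P : Subgroup G} (d : Data z E P)
include d

theorem comm_bar : ∀ a b : Bar E, a * b = b * a := by
  intro a b
  induction a using QuotientGroup.induction_on with
  | H a =>
    induction b using QuotientGroup.induction_on with
    | H b =>
      rw [← QuotientGroup.mk_mul, ← QuotientGroup.mk_mul, QuotientGroup.eq]
      have : b⁻¹ * a⁻¹ * b⁻¹⁻¹ * a⁻¹⁻¹ ∈ center ↥E := by
        rw [← d.L.hext.1.2.2]
        exact Subgroup.commutator_mem_commutator (Subgroup.mem_top _) (Subgroup.mem_top _)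
      simpa [mul_assoc] using this

/-- The quotient is abelian. -/
@[reducible] def barGroup : CommGroup (Bar E) :=
  { (inferInstance : Group (Bar E)) with mul_comm := d.comm_bar }

theorem mem_center_iff' {x : E} : x ∈ center ↥E ↔ (x : G) = 1 ∨ (x : G) = z := by
  constructor
  · intro hx
    exact d.L.eq_one_or_z_of_central x.2 fun e he =>
      congrArg Subtype.val (Subgroup.mem_center_iff.1 hx ⟨e, he⟩)
  · rintro (h | h)
    · rw [show x = 1 from Subtype.ext h]; exact one_mem _
    · exact Subgroup.mem_center_iff.2 fun e => Subtype.ext (by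
        rw [Subgroup.coe_mul, Subgroup.coe_mul, h]; exact d.L.commute_z e.2)

theorem mk_eq_iff {x y : E} :
    (QuotientGroup.mk x : Bar E) = QuotientGroup.mk y ↔ (y : G) = x ∨ (y : G) = x * z := by
  rw [QuotientGroup.eq, d.mem_center_iff', Subgroup.coe_mul, Subgroup.coe_inv, inv_mul_eq_one,
    inv_mul_eq_iff_eq_mul]
  exact ⟨fun h => h.imp Eq.symm id, fun h => h.imp Eq.symm id⟩

theorem mk_eq_one {x : E} : (QuotientGroup.mk x : Bar E) = 1 ↔ (x : G) = 1 ∨ (x : G) = z := by
  rw [QuotientGroup.eq_one_iff, d.mem_center_iff']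

theorem sq_bar (m : Bar E) : m * m = 1 := by
  induction m using QuotientGroup.induction_on with
  | H a =>
    rw [← QuotientGroup.mk_mul, d.mk_eq_one]
    exact d.L.sq_cases a.2

theorem card_bar [Finite G] : Nat.card (Bar E) = 4096 := by
  have h := Subgroup.card_mul_index (center ↥E)
  rw [d.L.hext.2, d.cardE, Subgroup.index_eq_card] at h
  norm_num at h ⊢
  show Nat.card (↥E ⧸ center ↥E) = 4096
  omega

/-- Conjugation by an element of `H` on `E`. -/
def conjE (h : centralizer ({z} : Set G)) : MulAut ↥E where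
  toFun e := ⟨h * e * (h : G)⁻¹, d.L.conj_mem h.2 e.2⟩
  invFun e := ⟨(h : G)⁻¹ * e * h, by
    simpa using d.L.conj_mem (inv_mem h.2) e.2⟩
  left_inv e := Subtype.ext (by simp [mul_assoc])
  right_inv e := Subtype.ext (by simp [mul_assoc])
  map_mul' a b := Subtype.ext (by simp [mul_assoc])

/-- The action of `H` on the quotient. -/
def ρ : ↥(centralizer ({z} : Set G)) →* MulAut (Bar E) where
  toFun h := QuotientGroup.congr _ _ (d.conjE h)
    (Subgroup.characteristic_iff_map_eq.1 (inferInstance : (center ↥E).Characteristic) (d.conjE h))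
  map_one' := by
    ext m
    induction m using QuotientGroup.induction_on with
    | H a =>
      exact congrArg QuotientGroup.mk (Subtype.ext (by simp [conjE]))
  map_mul' g h := by
    ext m
    induction m using QuotientGroup.induction_on with
    | H a =>
      exact congrArg QuotientGroup.mk (Subtype.ext (by simp [conjE, mul_assoc]))

theorem ρ_mk (h : centralizer ({z} : Set G)) (e : E) :
    d.ρ h (QuotientGroup.mk e) =
      QuotientGroup.mk ⟨h * e * (h : G)⁻¹, d.L.conj_mem h.2 e.2⟩ := rfl

theorem E_le_ker : E.subgroupOf (centralizer ({z} : Set G)) ≤ d.ρ.ker := by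
  intro h hh
  rw [MonoidHom.mem_ker]
  ext m
  induction m using QuotientGroup.induction_on with
  | H a =>
    rw [MulAut.one_apply, d.ρ_mk, d.mk_eq_iff]
    rcases d.L.conj_cases (mem_subgroupOf.1 hh) a.2 with e | e
    · left; simp [e]
    · right
      show (a : G) = (h : G) * a * (h : G)⁻¹ * z
      rw [e, mul_assoc, d.L.commute_z a.2, ← mul_assoc, d.L.zz, one_mul]

theorem ker_eq [Finite G] : d.ρ.ker = E.subgroupOf (centralizer ({z} : Set G)) := by
  refine le_antisymm ?_ d.E_le_ker
  have hp : IsPGroup 2 d.ρ.ker := by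
    refine IsPGroup.of_card (n := (Nat.card d.ρ.ker).factorization 2) ?_
    by_contra hne
    obtain ⟨q, hq, hqdvd, hq2⟩ : ∃ q, q.Prime ∧ q ∣ Nat.card d.ρ.ker ∧ q ≠ 2 := by
      by_contra hall
      push Not at hall
      have hno := Nat.eq_prime_pow_of_unique_prime_dvd (n := Nat.card d.ρ.ker) Nat.card_pos.ne'
        (p := 2) fun {q} hq hqd => hall q hq hqd
      apply hne
      conv_rhs => rw [hno, Nat.Prime.factorization_pow Nat.prime_two]
      simpa using hno
    haveI : Fact q.Prime := ⟨hq⟩
    obtain ⟨⟨⟨x, hxH⟩, hx⟩, hxo⟩ := exists_prime_orderOf_dvd_card' q hqdvd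
    rw [← Subgroup.orderOf_coe, ← Subgroup.orderOf_coe] at hxo
    change orderOf x = q at hxo
    have hqodd : Odd q := hq.odd_of_ne_two hq2
    have hxE : x ∈ E := d.L.hcent (mem_centralizer_iff.2 fun e he => by
      have h1 := congrArg (fun f : MulAut (Bar E) => f (QuotientGroup.mk (⟨e, he⟩ : E))) hx
      simp only [MulAut.one_apply, d.ρ_mk, d.mk_eq_iff] at h1
      rcases h1 with h1 | h1
      · calc e * x = x * e * x⁻¹ * x := by conv_lhs => rw [h1]
          _ = x * e := by group
      · exfalso
        have hzx : x * z = z * x := mem_centralizer_singleton_iff.1 hxH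
        have hc : x * e * x⁻¹ = e * z := by
          conv_rhs => rw [h1, mul_assoc (x * e * x⁻¹), d.L.zz, mul_one]
        have hpow : ∀ n : ℕ, x ^ n * e * (x ^ n)⁻¹ = e * z ^ n := by
          intro n
          induction n with
          | zero => simp
          | succ n ih =>
            have hzn : Commute x (z ^ n) := (show Commute x z from hzx).pow_right n
            calc x ^ (n + 1) * e * (x ^ (n + 1))⁻¹ = x * (x ^ n * e * (x ^ n)⁻¹) * x⁻¹ := by
                  rw [pow_succ']; group
              _ = x * e * (z ^ n * x⁻¹) := by rw [ih]; group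
              _ = x * e * (x⁻¹ * z ^ n) := by rw [hzn.inv_left.eq]
              _ = x * e * x⁻¹ * z ^ n := by group
              _ = e * z ^ (n + 1) := by rw [hc, pow_succ', mul_assoc]
        have := hpow q
        rw [show x ^ q = 1 by rw [← hxo]; exact pow_orderOf_eq_one x] at this
        obtain ⟨t, ht⟩ := hqodd
        rw [ht, pow_succ, pow_mul, sq, d.L.zz, one_pow, one_mul] at this
        simp at this
        exact d.L.z_ne_one this)
    obtain ⟨k, hk⟩ := d.L.isPGroup_E ⟨x, hxE⟩
    have : x ^ 2 ^ k = 1 := congrArg Subtype.val hk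
    have hdvd := orderOf_dvd_of_pow_eq_one this
    rw [hxo] at hdvd
    exact hq2 ((Nat.prime_dvd_prime_iff_eq hq Nat.prime_two).1 (hq.dvd_of_dvd_pow hdvd))
  haveI : d.ρ.ker.Normal := inferInstance
  intro x hx
  rw [mem_subgroupOf, d.L.hE]
  exact ⟨x, H1.le_pCore hp hx, rfl⟩

theorem mem_ker_iff [Finite G] {h : centralizer ({z} : Set G)} : d.ρ h = 1 ↔ (h : G) ∈ E := by
  rw [← MonoidHom.mem_ker, d.ker_eq, mem_subgroupOf]

/-- An abelian subgroup of `E` has order at most `128`, and is its own centralizer at that order. -/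
theorem abelian_bound [Finite G] {A : Subgroup G} (hA : A ≤ E)
    (hc : ∀ a ∈ A, ∀ b ∈ A, a * b = b * a) :
    Nat.card A ≤ 128 ∧ (Nat.card A = 128 → ∀ x ∈ E, (∀ a ∈ A, a * x = x * a) → x ∈ A) := by
  have h := H76.index_center_le d.L.hext (A.subgroupOf E)
  have hidx : (center ↥E).index = 4096 := by rw [Subgroup.index_eq_card]; exact d.card_bar
  have hAB : Nat.card (A.subgroupOf E) = Nat.card A :=
    Nat.card_congr (subgroupOfEquivOfLe hA).toEquiv
  have hBC : A.subgroupOf E ≤ centralizer (A.subgroupOf E : Set E) := fun a ha =>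
    mem_centralizer_iff.2 fun b hb => Subtype.ext (hc b (mem_subgroupOf.1 hb) a (mem_subgroupOf.1 ha))
  have m1 := Subgroup.card_mul_index (A.subgroupOf E)
  have m2 := Subgroup.card_mul_index (centralizer (A.subgroupOf E : Set E))
  rw [d.cardE] at m1 m2
  rw [hAB] at m1
  rw [hidx] at h
  set i := (A.subgroupOf E).index
  set j := (centralizer (A.subgroupOf E : Set E)).index
  set a := Nat.card A
  set b := Nat.card (centralizer (A.subgroupOf E : Set E))
  have hab : a ≤ b := hAB ▸ Subgroup.card_le_of_le hBC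
  have key : a * b ≤ 2 ^ 14 := by
    have : 2 ^ 13 * 2 ^ 13 = a * b * (j * i) := by
      calc 2 ^ 13 * 2 ^ 13 = (a * i) * (b * j) := by rw [m1, m2]
        _ = a * b * (j * i) := by ring
    nlinarith
  refine ⟨by nlinarith, fun h128 x hx hxc => ?_⟩
  have hb : b ≤ a := by nlinarith
  have heq : A.subgroupOf E = centralizer (A.subgroupOf E : Set E) :=
    Subgroup.eq_of_le_of_card_ge hBC (by rw [hAB]; exact hb)
  have : (⟨x, hx⟩ : E) ∈ centralizer (A.subgroupOf E : Set E) :=
    mem_centralizer_iff.2 fun y hy => Subtype.ext (hxc y (mem_subgroupOf.1 hy))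
  rw [← heq] at this
  exact mem_subgroupOf.1 this

end Data

end Cfsg.Agent.H69.J4
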