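import Cfsg.Agent.H69.J4.Exist

/-!
Uniqueness of the elementary abelian subgroup of order `2 ^ 11`.
-/

set_option autoImplicit false

namespace Cfsg.Agent.H69.J4

open Subgroup

variable {G : Type*} [Group G] [Finite G]
variable {z : G} {E P N : Subgroup G} {d : Data z E P} (R : Real d)
variable {e : ↥(centralizer ({z} : Set G)) →* MulAut ↥Cfsg.Spor.M22}

/-- A two-subgroup of `H` sitting over the chosen Sylow subgroup of the linear part. -/
structure Placed {d : Data z E P} (R : Real d) (T : Subgroup G) : Prop where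
  le_H : T ≤ centralizer ({z} : Set G)
  E_le : E ≤ T
  onto : ∀ x ∈ R.Q, ∃ t ∈ T, ∃ h : t ∈ centralizer ({z} : Set G), d.ρ ⟨t, h⟩ = x
  linear : ∀ t (h : t ∈ centralizer ({z} : Set G)), t ∈ T → d.ρ ⟨t, h⟩ ∈ Outer.Y d → d.ρ ⟨t, h⟩ ∈ R.Q

namespace Real

theorem V0_le {T : Subgroup G} (hT : Placed R T) : R.V0 ≤ T := by
  rintro t ⟨htH, ht1, -⟩
  obtain ⟨u, hu, huH, hue⟩ := hT.onto _ (R.A0_le_Q ht1)
  have hm : u⁻¹ * t ∈ E := (d.mem_ker_iff (h := (⟨u, huH⟩)⁻¹ * ⟨t, htH⟩)).1 (by
    rw [map_mul, map_inv, hue, inv_mul_cancel])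
  simpa using mul_mem hu (hT.E_le hm)

theorem Y_comm {x : MulAut (Bar E)} (hx : x ∈ Outer.Y d) : Commute (d.ρ (R.g 3)) x := by
  obtain ⟨c, hc, rfl⟩ := hx
  show d.ρ (R.g 3) * d.ρ c = d.ρ c * d.ρ (R.g 3)
  rw [← map_mul, ← map_mul]
  exact congrArg d.ρ (Subtype.ext (R.rho_g3_comm hc).symm)

theorem w_three (m : Bar E) : d.ρ (R.g 3) (d.ρ (R.g 3) (d.ρ (R.g 3) m)) = m := by
  rw [← MulAut.mul_apply, ← MulAut.mul_apply, ← map_mul, ← map_mul,
    show R.g 3 * R.g 3 * R.g 3 = 1 from Subtype.ext R.g3_pow, map_one]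
  rfl

theorem w_ne : d.ρ (R.g 3) * d.ρ (R.g 3) ≠ d.ρ (R.g 3) := by
  intro h
  have h1 : ∀ m, m = (1 : Bar E) := fun m => R.fpf m (by
    rw [mul_eq_left.1 h]; rfl)
  haveI : Subsingleton (Bar E) := ⟨fun a b => (h1 a).trans (h1 b).symm⟩
  have := d.card_bar
  rw [Nat.card_of_subsingleton (1 : Bar E)] at this
  omega

theorem outer_apply (o : Outer z E P N e) {h : centralizer ({z} : Set G)} (hh : d.ρ h ∉ Outer.Y d) :
    d.ρ h * d.ρ (R.g 3) = d.ρ (R.g 3) * d.ρ (R.g 3) * d.ρ h := by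
  have h1 := ((o.dichotomy d h).resolve_left hh) _ R.memP
  rw [show (⟨(R.g 3 : G), d.hPH R.memP⟩ : centralizer ({z} : Set G)) = R.g 3 from rfl] at h1
  exact mul_inv_eq_iff_eq_mul.1 h1

include R in
theorem mul_mem_Y (o : Outer z E P N e) {a b : centralizer ({z} : Set G)} (ha : d.ρ a ∉ Outer.Y d)
    (hb : d.ρ b ∉ Outer.Y d) : d.ρ (a * b) ∈ Outer.Y d := by
  by_contra hab
  have h3 := R.outer_apply o hab
  have h1 := R.outer_apply o ha
  have h2 := R.outer_apply o hb
  set w := d.ρ (R.g 3)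
  have hw : w * w * w = 1 := by
    ext m; exact R.w_three m
  have h4 : d.ρ (a * b) * w = w * d.ρ (a * b) := by
    rw [map_mul]
    calc d.ρ a * d.ρ b * w = d.ρ a * (w * w * d.ρ b) := by rw [mul_assoc, h2]
      _ = (d.ρ a * w) * w * d.ρ b := by group
      _ = w * w * (d.ρ a * w) * d.ρ b := by conv_lhs => rw [h1]
                                            group
      _ = (w * w * w) * w * (d.ρ a * d.ρ b) := by rw [h1]; group
      _ = w * (d.ρ a * d.ρ b) := by rw [hw, one_mul]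
  rw [h4] at h3
  exact R.w_ne (mul_right_cancel h3).symm

theorem unique (o : Outer z E P N e) {T : Subgroup G} (hT : Placed R T) {V : Subgroup G}
    (hVT : V ≤ T) (hV : Cfsg.IsElementaryAbelian 2 V) (hcard : Nat.card V = 2 ^ 11) : V = R.V0 := by
  classical
  haveI := R.finite_aut
  obtain ⟨⟨⟨hcomm⟩⟩, hexp⟩ := hV
  have hVH : V ≤ centralizer ({z} : Set G) := hVT.trans hT.le_H
  have hc : ∀ a ∈ V, ∀ b ∈ V, a * b = b * a := fun a ha b hb =>
    congrArg Subtype.val (hcomm ⟨a, ha⟩ ⟨b, hb⟩)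
  let i : ↥V →* ↥(centralizer ({z} : Set G)) := Subgroup.inclusion hVH
  let f : ↥V →* MulAut (Bar E) := d.ρ.comp i
  let B : Subgroup (MulAut (Bar E)) := f.range
  have hker : Nat.card f.ker = Nat.card ↥(V ⊓ E) := Nat.card_congr
    { toFun := fun v => ⟨v.1.1, v.1.2, (d.mem_ker_iff).1 (MonoidHom.mem_ker.1 v.2)⟩
      invFun := fun v => ⟨⟨v.1, v.2.1⟩, MonoidHom.mem_ker.2 ((d.mem_ker_iff).2 v.2.2)⟩
      left_inv := fun _ => rfl
      right_inv := fun _ => rfl }
  have hmul : Nat.card ↥(V ⊓ E) * Nat.card B = 2 ^ 11 := by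
    rw [← hker, ← hcard, ← Subgroup.card_mul_index f.ker, Subgroup.index_ker]
  have hle128 : Nat.card ↥(V ⊓ E) ≤ 128 :=
    (d.abelian_bound inf_le_right fun a ha b hb => hc a ha.1 b hb.1).1
  have hB16 : 16 ≤ Nat.card B := by
    by_contra h
    push Not at h
    have h5 : Nat.card ↥(V ⊓ E) * Nat.card B ≤ 128 * 15 := Nat.mul_le_mul hle128 (by omega)
    omega
  have hBexp : ∀ x ∈ B, x * x = 1 := by
    rintro _ ⟨v, rfl⟩
    rw [← map_mul, show v * v = 1 from Subtype.ext (by have := hexp v v.2; rwa [sq] at this), map_one]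
  have hfix : ∀ v : G, ∀ (hv : v ∈ V) (hE : v ∈ E),
      (QuotientGroup.mk (⟨v, hE⟩ : E) : Bar E) ∈ fixed B := by
    rintro v hv hE _ ⟨u, rfl⟩
    show d.ρ (i u) (QuotientGroup.mk (⟨v, hE⟩ : E)) = _
    rw [d.ρ_mk]
    refine congrArg QuotientGroup.mk (Subtype.ext ?_)
    show (u : G) * v * (u : G)⁻¹ = v
    rw [hc u u.2 v hv, mul_inv_cancel_right]
  have hVE : Nat.card ↥(V ⊓ E) ≤ 2 * Nat.card (fixed B) := by
    let g : ↥(V ⊓ E) → ((QuotientGroup.mk : ↥E → Bar E) ⁻¹' fixed B) :=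
      fun v => ⟨⟨v, v.2.2⟩, hfix v v.2.1 v.2.2⟩
    have hg : Function.Injective g := fun a b h =>
      Subtype.ext (congrArg (fun x : ((QuotientGroup.mk : ↥E → Bar E) ⁻¹' fixed B) => ((x : E) : G)) h)
    refine (Nat.card_le_card_of_injective g hg).trans (le_of_eq ?_)
    rw [Nat.card_congr (QuotientGroup.preimageMkEquivSubgroupProdSet (center ↥E) (fixed B)),
      Nat.card_prod, d.L.hext.2]
  let B0 : Subgroup (MulAut (Bar E)) := B ⊓ Outer.Y d
  have hB0Q : B0 ≤ R.Q := by
    rintro _ ⟨⟨v, rfl⟩, hY⟩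
    exact hT.linear v (hVH v.2) (hVT v.2) hY
  by_cases hlin : B ≤ Outer.Y d
  · have hBQ : B ≤ R.Q := fun x hx => hB0Q ⟨hx, hlin hx⟩
    obtain ⟨h16, -, hor⟩ := R.elementary_cases hBQ hBexp hB16
    rw [h16] at hmul
    have hBA : B = R.A0 := hor.resolve_left fun h => by omega
    have hsub : V ⊓ E ≤ R.sHat := fun v hv => ⟨hv.2, hBA ▸ hfix v hv.1 hv.2⟩
    have heq : V ⊓ E = R.sHat :=
      Subgroup.eq_of_le_of_card_ge hsub (by rw [R.card_sHat]; omega)
    have hle : V ≤ R.V0 := fun v hv => by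
      refine ⟨hVH hv, ?_, fun s hs => ?_⟩
      · rw [← hBA]; exact ⟨⟨v, hv⟩, rfl⟩
      · exact hc s (heq.symm.le hs).1 v hv
    exact Subgroup.eq_of_le_of_card_ge hle (by rw [hcard, R.card_V0])
  · exfalso
    obtain ⟨x, hxB, hxY⟩ := SetLike.not_le_iff_exists.1 hlin
    obtain ⟨a, rfl⟩ := hxB
    set w := d.ρ (R.g 3)
    have haw : f a * w = w * w * f a := R.outer_apply o hxY
    -- the linear part has index two
    have hB2 : Nat.card B ≤ 2 * Nat.card B0 := by
      let g : B → Bool × B0 := fun x => if hx : x.1 ∈ Outer.Y d then (true, ⟨x.1, x.2, hx⟩)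
        else (false, ⟨x.1 * f a, mul_mem x.2 ⟨a, rfl⟩, by
          obtain ⟨v, hv⟩ := x.2
          rw [← hv]
          show d.ρ (i v) * d.ρ (i a) ∈ _
          rw [← map_mul]
          exact R.mul_mem_Y o (by rw [show d.ρ (i v) = x.1 from hv]; exact hx) hxY⟩)
      have hg : Function.Injective g := by
        intro p q h
        by_cases hp : p.1 ∈ Outer.Y d <;> by_cases hq : q.1 ∈ Outer.Y d <;> simp [g, hp, hq] at h
        · exact Subtype.ext (congrArg (fun v : ↥B0 => (v : MulAut (Bar E))) h)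
        · exact Subtype.ext (mul_right_cancel (congrArg (fun v : ↥B0 => (v : MulAut (Bar E))) h))
      refine (Nat.card_le_card_of_injective g hg).trans (le_of_eq ?_)
      simp [Nat.card_prod]
    -- the fixed space squares into that of the linear part
    let g : fixed B × fixed B → fixed B0 := fun p => ⟨p.1.1 * w p.2.1, fun x hx => by
      have hcx : x (w p.2.1) = w (x p.2.1) :=
        (DFunLike.congr_fun (R.Y_comm hx.2).eq p.2.1).symm
      rw [map_mul, p.1.2 x hx.1, hcx, p.2.2 x hx.1]⟩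
    have hg : Function.Injective g := by
      rintro ⟨⟨x, hx⟩, ⟨y, hy⟩⟩ ⟨⟨x', hx'⟩, ⟨y', hy'⟩⟩ h
      have h' : x * w y = x' * w y' := congrArg (fun q : fixed B0 => (q : Bar E)) h
      have hy2 : y = y' := by
        have h1 := congrArg (f a) h'
        have hap : ∀ u, f a (w u) = w (w (f a u)) := fun u => DFunLike.congr_fun haw u
        rw [map_mul, map_mul, hap, hap, hx _ ⟨a, rfl⟩, hx' _ ⟨a, rfl⟩, hy _ ⟨a, rfl⟩, hy' _ ⟨a, rfl⟩] at h1
        -- `x * w² y = x' * w² y'` and `x * w y = x' * w y'`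
        have h2 : (w (w y))⁻¹ * w y = (w (w y'))⁻¹ * w y' := by
          calc (w (w y))⁻¹ * w y = (x * w (w y))⁻¹ * (x * w y) := by group
            _ = (x' * w (w y'))⁻¹ * (x' * w y') := by rw [h1, h']
            _ = _ := by group
        have hq : (y * y'⁻¹) = 1 := by
          refine R.fpf _ ?_
          show w _ = _
          have h3 : (w (w (y * y'⁻¹)))⁻¹ * w (y * y'⁻¹) = 1 := by
            simp only [map_mul, map_inv, mul_inv_rev, inv_inv]
            calc w (w y') * (w (w y))⁻¹ * (w y * (w y')⁻¹)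
                = w (w y') * ((w (w y))⁻¹ * w y) * (w y')⁻¹ := by group
              _ = w (w y') * ((w (w y'))⁻¹ * w y') * (w y')⁻¹ := by rw [h2]
              _ = 1 := by group
          have h4 := inv_mul_eq_one.1 h3
          exact w.injective h4
        exact mul_inv_eq_one.1 hq
      subst hy2
      have hx2 := mul_right_cancel h'
      subst hx2
      rfl
    have hfix2 : Nat.card (fixed B) * Nat.card (fixed B) ≤ Nat.card (fixed B0) := by
      rw [← Nat.card_prod]
      exact Nat.card_le_card_of_injective g hg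
    by_cases h16 : 16 ≤ Nat.card B0
    · obtain ⟨h16', h64, -⟩ := R.elementary_cases hB0Q (fun x hx => hBexp x hx.1) h16
      rw [h16'] at hB2
      have h8 : Nat.card (fixed B) ≤ 8 := by nlinarith
      have h5 : Nat.card ↥(V ⊓ E) * Nat.card B ≤ 16 * 32 := Nat.mul_le_mul (by omega) (by omega)
      omega
    · have h8 : Nat.card B0 ≤ 8 := by
        obtain ⟨n, hn⟩ : ∃ n, Nat.card B0 = 2 ^ n := by
          haveI : Fact (Nat.Prime 2) := ⟨Nat.prime_two⟩
          have hp : IsPGroup 2 B0 := fun x => ⟨1, Subtype.ext (by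
            show (x : MulAut (Bar E)) ^ 2 ^ 1 = 1
            rw [pow_one, sq]; exact hBexp x x.2.1)⟩
          exact hp.exists_card_eq
        rw [hn] at h16 ⊢
        have : n < 4 := by
          by_contra h; exact h16 (le_trans (by norm_num) (Nat.pow_le_pow_right (by norm_num) (not_lt.1 h)))
        exact le_trans (Nat.pow_le_pow_right (by norm_num) (by omega : n ≤ 3)) (by norm_num)
      have h64 : 64 ≤ Nat.card (fixed B) := by
        by_contra h
        push Not at h
        have h5 : Nat.card ↥(V ⊓ E) * Nat.card B ≤ 126 * 16 :=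
          Nat.mul_le_mul (hVE.trans (by omega)) (hB2.trans (by omega))
        omega
      have h4096 : 4096 ≤ Nat.card (fixed B0) := le_trans (Nat.mul_le_mul h64 h64) hfix2
      have hall : ∀ x ∈ B0, x = 1 := by
        intro x hx
        haveI : Finite (Bar E) := inferInstance
        have hu : (fixed B0 : Set (Bar E)) = Set.univ :=
          Set.eq_of_subset_of_ncard_le (Set.subset_univ _)
            (by rw [Set.ncard_univ, d.card_bar, ← Nat.card_coe_set_eq]; exact h4096) Set.finite_univ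
        ext m
        exact (hu.symm ▸ Set.mem_univ m : m ∈ fixed B0) x hx
      have h1 : Nat.card B0 = 1 := Subgroup.card_eq_one.2 ((Subgroup.eq_bot_iff_forall _).2 hall)
      omega

theorem exists_unique_of_placed (o : Outer z E P N e) {T : Subgroup G} (hT : Placed R T) :
    ∃! V : Subgroup G, V ≤ T ∧ Cfsg.IsElementaryAbelian 2 V ∧ Nat.card V = 2 ^ 11 :=
  ⟨R.V0, ⟨R.V0_le hT, R.V0_elementary, R.card_V0⟩, fun _ h => R.unique o hT h.1 h.2.1 h.2.2⟩

end Real

end Cfsg.Agent.H69.J4
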