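import Cfsg.Agent.H69.J4.OneClass
import Cfsg.Agent.H95.J4T.Second
import Cfsg.Agent.H1.Cores
import Cfsg.Agent.H68.ExtraComm
import Cfsg.Agent.S5566
import Cfsg.Agent.S5568
import Cfsg.Prelude.Def_JankoFourType

/-!
In a simple group of Janko-four type a simple subgroup containing `C(z)` and the normaliser of an
elementary subgroup of order `2^11` is everything.
-/

set_option autoImplicit false
set_option linter.unusedSectionVars false

namespace Cfsg.Agent.H69.J4

open Subgroup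

variable {G : Type*} [Group G] [Finite G]

/-- Every involution is conjugate to `z` or to a given involution that is not. -/
theorem two_classes [IsSimpleGroup G] (hG : ¬ IsMulCommutative G) {z t v : G}
    (hJ : Cfsg.IsOfJankoFourTypeAt z) (ht : orderOf t = 2) (htz : ¬ IsConj z t)
    (hv : orderOf v = 2) : IsConj z v ∨ IsConj t v := by
  classical
  haveI : Fact (Nat.Prime 2) := ⟨Nat.prime_two⟩
  obtain ⟨V, hV, hVc, htV⟩ := H95.J4T.exists_mem_elementary hG hJ ht
  obtain ⟨W, hW, hWc, hvW⟩ := H95.J4T.exists_mem_elementary hG hJ hv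
  obtain ⟨T, hT⟩ := (IsPGroup.of_card (p := 2) hVc).exists_le_sylow
  obtain ⟨T', hT'⟩ := (IsPGroup.of_card (p := 2) hWc).exists_le_sylow
  obtain ⟨g, hg⟩ := MulAction.exists_smul_eq G T' T
  obtain ⟨U, -, hU⟩ := Cfsg.Agent.S5566.result hG ⟨z, hJ⟩ T
  have hWg : W.map (MulAut.conj g).toMonoidHom ≤ (T : Subgroup G) := by
    rw [← hg, Sylow.coe_subgroup_smul]
    exact map_mono hT'
  have hgv : g * v * g⁻¹ ∈ V := by
    have e1 := hU V ⟨hT, hV, hVc⟩
    have e2 := hU (W.map (MulAut.conj g).toMonoidHom) ⟨hWg, H95.J4T.map_elementary _ hW, by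
      rw [← Nat.card_congr (W.equivMapOfInjective _ (MulAut.conj g).injective).toEquiv, hWc]⟩
    rw [e1, ← e2]
    exact ⟨v, hvW, by simp⟩
  obtain ⟨z', t', hz', ht', ht1, hzz', htz', h1, h2, -⟩ :=
    Cfsg.Agent.S5568.result hG z hJ V hV hVc
  set A : Set G := {x | ∃ n ∈ normalizer (V : Set G), n * z' * n⁻¹ = x}
  set B : Set G := {x | ∃ n ∈ normalizer (V : Set G), n * t' * n⁻¹ = x}
  have hz1 : z' ≠ 1 := fun e1 => by
    obtain ⟨c, hc⟩ := isConj_iff.1 hzz'
    obtain ⟨P, hP⟩ := hJ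
    have := hP.1
    rw [e1, conj_eq_one_iff] at hc
    rw [hc, orderOf_one] at this
    norm_num at this
  have hAB : A ∪ B = (V : Set G) \ {1} := by
    have hdisj : Disjoint A B := by
      rw [Set.disjoint_left]
      rintro x ⟨a, -, rfl⟩ ⟨b, -, hb⟩
      exact htz' ((hzz'.trans (isConj_iff.2 ⟨a, rfl⟩)).trans (hb ▸ (isConj_iff.2 ⟨b, rfl⟩).symm))
    refine Set.eq_of_subset_of_ncard_le ?_ ?_
    · rintro x (⟨n, hn, rfl⟩ | ⟨n, hn, rfl⟩)
      · exact ⟨(mem_normalizer_iff.1 hn _).1 hz', fun e1 => hz1 (conj_eq_one_iff.1 e1)⟩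
      · exact ⟨(mem_normalizer_iff.1 hn _).1 ht', fun e1 => ht1 (conj_eq_one_iff.1 e1)⟩
    · rw [Set.ncard_union_eq hdisj, h1, h2, Set.ncard_diff (Set.singleton_subset_iff.2 V.one_mem),
        Set.ncard_singleton, ← Nat.card_coe_set_eq]
      show Nat.card V - 1 ≤ 1771 + 276
      rw [hVc]; norm_num
  have htB : t ∈ B := by
    have : t ∈ A ∪ B := hAB ▸ ⟨htV, fun e1 => by
      rw [Set.mem_singleton_iff] at e1; rw [e1, orderOf_one] at ht; norm_num at ht⟩
    refine this.resolve_left ?_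
    rintro ⟨n, -, e1⟩
    exact htz (hzz'.trans (isConj_iff.2 ⟨n, e1⟩))
  have hvAB : g * v * g⁻¹ ∈ A ∪ B := hAB ▸ ⟨hgv, fun e1 => by
    rw [Set.mem_singleton_iff, conj_eq_one_iff] at e1
    rw [e1, orderOf_one] at hv; norm_num at hv⟩
  have hback : IsConj (g * v * g⁻¹) v := (isConj_iff.2 ⟨g, rfl⟩ : IsConj v _).symm
  rcases hvAB with ⟨n, -, e1⟩ | ⟨n, -, e1⟩
  · exact Or.inl ((hzz'.trans (isConj_iff.2 ⟨n, e1⟩)).trans hback)
  · obtain ⟨m, -, e2⟩ := htB
    exact Or.inr ((((isConj_iff.2 ⟨m, e2⟩).symm).trans (isConj_iff.2 ⟨n, e1⟩)).trans hback)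

/-- The type passes to a subgroup containing the centraliser. -/
theorem type_subgroup {z : G} (hJ : Cfsg.IsOfJankoFourTypeAt z) {M : Subgroup G}
    (hz : centralizer ({z} : Set G) ≤ M) :
    Cfsg.IsOfJankoFourTypeAt (⟨z, hz (mem_centralizer_singleton_iff.2 rfl)⟩ : M) := by
  obtain ⟨P, hz2, hext, hcard, hcent, ⟨N, hEN, hNC, hCN, hNcard, ⟨hn, ⟨iso⟩⟩, hPN⟩, hP, hfix, hne, hcomm⟩ := hJ
  set zM : M := ⟨z, hz (mem_centralizer_singleton_iff.2 rfl)⟩
  have hmem : ∀ a : M, a ∈ centralizer ({zM} : Set M) ↔ (a : G) ∈ centralizer ({z} : Set G) := by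
    intro a
    rw [mem_centralizer_singleton_iff, mem_centralizer_singleton_iff]
    exact Subtype.ext_iff
  let f : ↥(centralizer ({zM} : Set M)) ≃* ↥(centralizer ({z} : Set G)) :=
    { toFun := fun a => ⟨(a : M), (hmem a).1 a.2⟩
      invFun := fun b => ⟨⟨b, hz b.2⟩, (hmem _).2 b.2⟩
      left_inv := fun a => rfl
      right_inv := fun b => rfl
      map_mul' := fun a b => rfl }
  have hE : (Cfsg.twoCoreOfCentralizer zM).map M.subtype = Cfsg.twoCoreOfCentralizer z := by
    rw [Cfsg.twoCoreOfCentralizer, Cfsg.twoCoreOfCentralizer, ← H1.map_pCore_equiv 2 f,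
      Subgroup.map_map, Subgroup.map_map]
    rfl
  have hinj : Function.Injective M.subtype := M.subtype_injective
  have hEle : Cfsg.twoCoreOfCentralizer z ≤ M := hE ▸ map_subtype_le _
  have hC : ∀ (X : Subgroup G), centralizer ({zM} : Set M) ⊓ X.subgroupOf M =
      (centralizer ({z} : Set G) ⊓ X).subgroupOf M := fun X => by
    ext a
    simp only [mem_inf, mem_subgroupOf, hmem]
  have hcentM : ∀ (S : Subgroup G), S ≤ M →
      centralizer (S.subgroupOf M : Set M) = (centralizer (S : Set G)).subgroupOf M := fun S hS => by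
    ext a
    rw [mem_subgroupOf, mem_centralizer_iff, mem_centralizer_iff]
    exact ⟨fun h s hs => congrArg Subtype.val (h ⟨s, hS hs⟩ hs),
      fun h s hs => Subtype.ext (h s hs)⟩
  have hnormM : ∀ (S : Subgroup G), S ≤ M →
      normalizer (S.subgroupOf M : Set M) = (normalizer (S : Set G)).subgroupOf M := fun S hS => by
    ext a
    rw [mem_subgroupOf, mem_normalizer_iff, mem_normalizer_iff]
    refine ⟨fun h s => ⟨fun hs => ?_, fun hs => ?_⟩, fun h s => h s⟩
    · exact (h ⟨s, hS hs⟩).1 hs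
    · have hsM : s ∈ M := by
        have := M.mul_mem (M.mul_mem (M.inv_mem a.2) (hS hs)) a.2
        simpa [mul_assoc] using this
      exact (h ⟨s, hsM⟩).2 hs
  have hEM : Cfsg.twoCoreOfCentralizer zM = (Cfsg.twoCoreOfCentralizer z).subgroupOf M := by
    rw [← hE]; exact (comap_map_eq_self_of_injective hinj _).symm
  have hcardM : ∀ S : Subgroup G, S ≤ M → Nat.card (S.subgroupOf M) = Nat.card S := fun S hS =>
    Nat.card_congr (subgroupOfEquivOfLe hS).toEquiv
  have hNM : N ≤ M := hNC.trans hz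
  have hPM : P ≤ M := hPN.trans hNM
  refine ⟨P.subgroupOf M, ?_, ?_, ?_, ?_, ⟨N.subgroupOf M, ?_, ?_, ?_, ?_, ?_, ?_⟩, ?_, ?_, ?_, ?_⟩
  · rw [← hz2, ← orderOf_injective M.subtype hinj zM]; rfl
  · rw [hEM]
    exact H68.isExtraspecial_of_equiv (subgroupOfEquivOfLe hEle).symm hext
  · rw [hEM, hcardM _ hEle, hcard]
  · rw [hEM, hcentM _ hEle, hC]
    exact comap_mono hcent
  · rw [hEM]; exact comap_mono hEN
  · intro a ha; exact (hmem a).2 (hNC ha)
  · rw [hnormM _ hNM]
    exact fun a ha => hCN ((hmem a).1 ha)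
  · rw [hEM, hcardM _ hNM, hcardM _ hEle, hNcard]
  · haveI := hn
    have he : ((N.subgroupOf M).subgroupOf (centralizer ({zM} : Set M))).map f.toMonoidHom =
        N.subgroupOf (centralizer ({z} : Set G)) := by
      ext b
      rw [Subgroup.mem_map_equiv]
      rfl
    have hnM : ((N.subgroupOf M).subgroupOf (centralizer ({zM} : Set M))).Normal := by
      have : (N.subgroupOf M).subgroupOf (centralizer ({zM} : Set M)) =
          (N.subgroupOf (centralizer ({z} : Set G))).comap f.toMonoidHom := by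
        ext b; rfl
      rw [this]; infer_instance
    exact ⟨hnM, ⟨(QuotientGroup.congr _ _ f he).trans iso⟩⟩
  · exact comap_mono hPN
  · rw [hcardM _ hPM, hP]
  · rw [hEM, hcentM _ hPM]
    ext a
    rw [mem_inf, mem_subgroupOf, mem_subgroupOf, ← mem_inf, hfix, mem_zpowers_iff, mem_zpowers_iff]
    exact exists_congr fun k => by rw [Subtype.ext_iff]; rfl
  · rw [hnormM _ hPM, hcentM _ hPM, hC, hC]
    intro e1
    refine hne (le_antisymm (fun a ha => ?_) (inf_le_inf_left _ (centralizer_le_normalizer _)))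
    exact mem_subgroupOf.1 (e1.le (mem_subgroupOf.2 (show ((⟨a, hz ha.1⟩ : M) : G) ∈ _ from ha)))
  · rw [hcentM _ hPM, hC]
    have e1 : (⁅((centralizer ({z} : Set G) ⊓ centralizer (P : Set G)).subgroupOf M),
        ((centralizer ({z} : Set G) ⊓ centralizer (P : Set G)).subgroupOf M)⁆).map M.subtype =
        ⁅centralizer ({z} : Set G) ⊓ centralizer (P : Set G), centralizer ({z} : Set G) ⊓ centralizer (P : Set G)⁆ := by
      rw [map_commutator, map_subgroupOf_eq_of_le (inf_le_left.trans hz)]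
    intro a ha
    obtain ⟨b, hb, hba⟩ := (e1.symm ▸ hcomm ha : (a : G) ∈ _)
    exact hinj hba ▸ hb

/-- A simple subgroup containing `C(z)` and `N(V)` is the whole group. -/
theorem eq_top_of_simple [IsSimpleGroup G] (hG : ¬ IsMulCommutative G) {z : G}
    (hJ : Cfsg.IsOfJankoFourTypeAt z) (M : Subgroup G) [IsSimpleGroup M]
    (hz : centralizer ({z} : Set G) ≤ M) {V : Subgroup G} (hV : Cfsg.IsElementaryAbelian 2 V)
    (hVc : Nat.card V = 2 ^ 11) (hN : normalizer (V : Set G) ≤ M) : M = ⊤ := by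
  by_contra hM
  obtain ⟨z', t, hz', ht, ht1, hzz', htz, -, -, htc⟩ := Cfsg.Agent.S5568.result hG z hJ V hV hVc
  have ht2 : orderOf t = 2 := by
    haveI : Fact (Nat.Prime 2) := ⟨Nat.prime_two⟩
    exact orderOf_eq_prime (hV.2 t ht) ht1
  have htM : t ∈ M := hN (le_normalizer ht)
  have hz2 : orderOf z = 2 := by obtain ⟨P, hP⟩ := hJ; exact hP.1
  have hzM : z ∈ M := hz (mem_centralizer_singleton_iff.2 rfl)
  have hMc : ¬ IsMulCommutative M := by
    intro hc
    obtain ⟨P, -, hext, hcard, -⟩ := hJ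
    have hle : Cfsg.twoCoreOfCentralizer z ≤ M := (map_subtype_le _).trans hz
    have htop : center ↥(Cfsg.twoCoreOfCentralizer z) = ⊤ := eq_top_iff.2 fun a _ =>
      Subgroup.mem_center_iff.2 fun b => Subtype.ext
        (show ((b : G) * a = a * b) from congrArg M.subtype (hc.is_comm.comm (⟨b, hle b.2⟩ : M) ⟨a, hle a.2⟩))
    have := hext.2
    rw [htop, Subgroup.card_top, hcard] at this
    norm_num at this
  have hcv : ∀ v ∈ M, orderOf v = 2 → centralizer ({v} : Set G) ≤ M := by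
    intro v hv hv2
    have h := two_classes hMc (type_subgroup hJ hz)
      (t := ⟨t, htM⟩) (v := ⟨v, hv⟩) (by rw [← Subgroup.orderOf_coe]; exact ht2)
      (fun e1 => htz ((M.subtype.map_isConj e1))) (by rw [← Subgroup.orderOf_coe]; exact hv2)
    intro c hc
    rcases h with e1 | e1 <;> obtain ⟨m, hm⟩ := isConj_iff.1 e1 <;>
      have hm' : (m : G) * _ * (m : G)⁻¹ = v := congrArg Subtype.val hm <;>
      have hcc : (m : G)⁻¹ * c * m ∈ M
    · refine hz (mem_centralizer_singleton_iff.2 ?_)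
      have hc' := mem_centralizer_singleton_iff.1 hc
      rw [← hm'] at hc'
      calc (m : G)⁻¹ * c * m * z = (m : G)⁻¹ * (c * ((m : G) * z * (m : G)⁻¹)) * m := by group
        _ = z * ((m : G)⁻¹ * c * m) := by rw [hc']; group
    · simpa [mul_assoc] using M.mul_mem (M.mul_mem m.2 hcc) (M.inv_mem m.2)
    · refine hN (htc (mem_centralizer_singleton_iff.2 ?_))
      have hc' := mem_centralizer_singleton_iff.1 hc
      rw [← hm'] at hc'
      calc (m : G)⁻¹ * c * m * t = (m : G)⁻¹ * (c * ((m : G) * t * (m : G)⁻¹)) * m := by group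
        _ = t * ((m : G)⁻¹ * c * m) := by rw [hc']; group
    · simpa [mul_assoc] using M.mul_mem (M.mul_mem m.2 hcc) (M.inv_mem m.2)
  exact htz (one_class_of_centralizer_le hM hz2 hzM hcv hz2 ht2)

end Cfsg.Agent.H69.J4
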